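import Mathlib
import Cfsg.Agent.Lib.Helper89.Alperin
import Cfsg.Agent.Lib.Helper89.NormSys
import Cfsg.Agent.Lib.Helper87.NormRadical
import Cfsg.Agent.Lib.Helper87.Realized
import Cfsg.Agent.Lib.Helper86.FusionCentral
import Cfsg.Agent.Lib.Helper86.FusionEssential
import Cfsg.Agent.Lib.Helper88.NormalCentral
import Cfsg.Agent.S5090
import Cfsg.Agent.S5096

set_option autoImplicit false

/-! Weak closure of central elements in saturated fusion systems: reduction to the local models at
the fully normalized centric subgroups (downward induction on the order of `N_S(R)`). -/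

namespace Cfsg.Agent.Lib.Helper15.FusWC

open Cfsg Cfsg.FusionSystem Cfsg.Agent.Lib.Helper87

universe u

section basic

variable {Ω : Type*} [Group Ω] {S : Subgroup Ω}

/-- on `P`, the map `f` sends exactly `x` to `x`. -/
def Fix (x : Ω) (P : Subgroup Ω) (f : Ω → Ω) : Prop := ∀ y ∈ P, f y = x ↔ y = x

theorem Mor.card_le' [Finite S] {F : FusionSystem S} {P Q : Subgroup Ω} {f : Ω → Ω}
    (hf : Mor F P f) (hQ : Q ≤ S) (h : ∀ x ∈ P, f x ∈ Q) : Nat.card P ≤ Nat.card Q := by
  rw [hf.iso_img.card_eq]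
  apply card_le_of_le' hQ
  intro y hy
  obtain ⟨z, hz, rfl⟩ := (hf.mem_img y).1 hy
  exact h z hz

theorem fullyNormalized_of [Finite S] {p : ℕ} [Fact p.Prime] (hS : IsPGroup p S)
    {F : FusionSystem S} {R : Subgroup Ω} (hfa : F.IsFullyAutomized p R) (hrec : F.IsReceptive R) :
    F.IsFullyNormalized R := by
  refine ⟨hrec.1, fun Q hQ => ?_⟩
  obtain ⟨f, hf, -, hmem⟩ := exists_mor_normalizer hS hfa hrec (isConj_symm hQ)
  exact Mor.card_le' hf (normalizerIn_le S R) hmem

theorem alp [Finite S] {p : ℕ} [Fact p.Prime] (hS : IsPGroup p S) (F : FusionSystem S)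
    (hF : F.IsSaturated p) {x : Ω} (hx : x ∈ S ⊓ Subgroup.centralizer (S : Set Ω)) (m : ℕ)
    (hA : ∀ R : Subgroup Ω, F.IsFullyAutomized p R → F.IsReceptive R → centralizerIn S R ≤ R →
      m ≤ Nat.card R → ∀ f, Iso F R R f → f x = x) :
    ∀ (P : Subgroup Ω) (f : Ω → Ω), Mor F P f → m ≤ Nat.card P → Fix x P f := by
  apply Helper89.alperin_induction hS F hF (fun P f => m ≤ Nat.card P → Fix x P f)
  · intro P f g h e hm y hy
    rw [← e y hy]
    exact h hm y hy
  · intro P R f hf h hRP hm y hy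
    exact h (hm.trans (card_le_of_le' hf.le hRP)) y (hRP hy)
  · intro P Q f g hf hg hPQ h1 h2 hm y hy
    have hcard : Nat.card P ≤ Nat.card Q := Mor.card_le' hf hg.le hPQ
    show g (f y) = x ↔ y = x
    rw [h2 (hm.trans hcard) (f y) (hPQ y hy), h1 hm y hy]
  · intro P Q f g hf hg hgf h1 hm y hy
    obtain ⟨z, hz, rfl⟩ := hf.surj hy
    rw [hgf z hz]
    exact (h1 (by rw [hf.card_eq]; exact hm) z hz).symm
  · intro R hfa hrec IH f hf hm
    by_cases hc : centralizerIn S R ≤ R
    · have hxR : x ∈ R := hc ⟨hx.1, Subgroup.centralizer_le hrec.1 hx.2⟩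
      have hfx := hA R hfa hrec hc hm f hf
      intro y hy
      constructor
      · intro h
        exact hf.mor.inj hy hxR (h.trans hfx.symm)
      · rintro rfl
        exact hfx
    · obtain ⟨f', hf', hff', -⟩ := receptive_extend_centralizer hrec hf
      have hlt : R < R ⊔ centralizerIn S R := by
        exact lt_of_le_of_ne le_sup_left (fun he => hc (le_sup_right.trans he.ge))
      have : Finite ↥(R ⊔ centralizerIn S R) := finite_of_le hf'.le
      have hcl := Helper89.card_lt_of_lt hlt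
      have h2 := IH _ f' hcl hf' (hm.trans hcl.le)
      intro y hy
      rw [← hff' y hy]
      exact h2 y (le_sup_left (a := R) hy)

/-- the induction hypothesis: automorphisms of the fully normalized self-centralizing subgroups with
large normalizer fix `x`. -/
def IHA (F : FusionSystem S) (x : Ω) (m : ℕ) : Prop :=
  ∀ B : Subgroup Ω, F.IsFullyNormalized B → centralizerIn S B ≤ B →
    m ≤ Nat.card (normalizerIn S B) → ∀ f, Iso F B B f → f x = x

theorem alp_of_IHA [Finite S] {p : ℕ} [Fact p.Prime] (hS : IsPGroup p S) (F : FusionSystem S)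
    (hF : F.IsSaturated p) {x : Ω} (hx : x ∈ S ⊓ Subgroup.centralizer (S : Set Ω)) (m : ℕ)
    (hA : IHA F x m) :
    ∀ (P : Subgroup Ω) (f : Ω → Ω), Mor F P f → m ≤ Nat.card P → Fix x P f :=
  alp hS F hF hx m (fun R hfa hrec hc hm f hf =>
    hA R (fullyNormalized_of hS hfa hrec) hc
      (hm.trans (card_le_of_le' (normalizerIn_le S R) (le_normalizerIn hrec.1))) f hf)

theorem normalizerIn_le_sup_centralizerIn (S U : Subgroup Ω) :
    normalizerIn S U ≤ normalizerIn S (U ⊔ centralizerIn S U) := by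
  intro g hg
  refine (mem_normalizerIn_iff _ _ _).2 ⟨hg.1, ?_⟩
  have key : ∀ k ∈ normalizerIn S U, ∀ y ∈ U ⊔ centralizerIn S U,
      k * y * k⁻¹ ∈ U ⊔ centralizerIn S U := by
    intro k hk y hy
    have hkU : k ∈ Subgroup.normalizer (U : Set Ω) := hk.2
    have hle : U ⊔ centralizerIn S U ≤
        (U ⊔ centralizerIn S U).comap (MulAut.conj k).toMonoidHom := by
      apply sup_le
      · intro u hu
        exact le_sup_left (a := U) ((Subgroup.mem_normalizer_iff.1 hkU u).1 hu)
      · intro c hc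
        apply le_sup_right (a := U)
        refine (mem_centralizerIn_iff _ _ _).2
          ⟨S.mul_mem (S.mul_mem hk.1 hc.1) (S.inv_mem hk.1), ?_⟩
        intro u hu
        have hu' : k⁻¹ * u * k ∈ U := by
          have := (Subgroup.mem_normalizer_iff.1 (Subgroup.inv_mem _ hkU) u).1 hu
          simpa using this
        have h1 := (Subgroup.mem_centralizer_iff.1 hc.2) _ hu'
        show u * (k * c * k⁻¹) = k * c * k⁻¹ * u
        calc u * (k * c * k⁻¹) = k * ((k⁻¹ * u * k) * c) * k⁻¹ := by group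
          _ = k * (c * (k⁻¹ * u * k)) * k⁻¹ := by rw [h1]
          _ = k * c * k⁻¹ * u := by group
    exact hle hy
  intro y
  constructor
  · exact key g hg y
  · intro h
    have := key g⁻¹ (Subgroup.inv_mem _ hg) _ h
    simpa [mul_assoc] using this

/-- automorphisms of a subgroup `T ∋ x` with large normalizer fix `x`. -/
theorem aut_fix [Finite S] {p : ℕ} [Fact p.Prime] (hS : IsPGroup p S) (F : FusionSystem S)
    (hF : F.IsSaturated p) {x : Ω} (hx : x ∈ S ⊓ Subgroup.centralizer (S : Set Ω)) (m : ℕ)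
    (hA : IHA F x m) {T : Subgroup Ω} (hTS : T ≤ S) (hxT : x ∈ T)
    (hm : m ≤ Nat.card (normalizerIn S T)) : ∀ b, Iso F T T b → b x = x := by
  intro b hb
  have hAlp := alp_of_IHA hS F hF hx m hA
  obtain ⟨U, hTU, hUn⟩ := exists_fullyNormalized_conj F hTS
  obtain ⟨φ, hφ, hφU, hφN⟩ := exists_mor_normalizer_of_fullyNormalized hS hF hUn hTU
  have hxN : x ∈ normalizerIn S T := le_normalizerIn hTS hxT
  have hφx : φ x = x := (hAlp _ φ hφ hm x hxN).2 rfl
  have hisoTU : Iso F T U φ := ⟨hφ.mono (le_normalizerIn hTS), hφU⟩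
  obtain ⟨φi, hφi, hφiφ, hφφi⟩ := hisoTU.symm
  have hb1 : Iso F U U (φ ∘ (b ∘ φi)) := (hφi.trans hb).trans hisoTU
  have hxU : x ∈ U := by
    rw [← hφx]
    exact hisoTU.map_mem hxT
  have hφix : φi x = x := by
    have := hφiφ x hxT
    rwa [hφx] at this
  have hUS : U ≤ S := hUn.1
  have hUrec := fullyNormalized_receptive hS hF hUn
  obtain ⟨b2, hb2, hb2U, hb2C⟩ := receptive_extend_centralizer hUrec hb1
  set D := U ⊔ centralizerIn S U with hD
  have hDS : D ≤ S := hb2.le
  have : Finite D := finite_of_le hDS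
  have hb2D : ∀ y ∈ D, b2 y ∈ D := by
    apply hb2.map_sup_mem
    · intro y hy
      rw [hb2U y hy]
      exact le_sup_left (a := U) (hb1.map_mem hy)
    · intro c hc
      exact le_sup_right (a := U) (hb2C c hc)
  have hb2iso : Iso F D D b2 := hb2.iso_self hb2D
  obtain ⟨Ds, hDDs, hDsn⟩ := exists_fullyNormalized_conj F hDS
  obtain ⟨ψ, hψ, hψD, hψN⟩ := exists_mor_normalizer_of_fullyNormalized hS hF hDsn hDDs
  have hcard1 : m ≤ Nat.card (normalizerIn S U) := hm.trans (hUn.2 T (isConj_symm hTU))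
  have hcard2 : m ≤ Nat.card (normalizerIn S D) :=
    hcard1.trans (card_le_of_le' (normalizerIn_le S D) (normalizerIn_le_sup_centralizerIn S U))
  have hcard3 : m ≤ Nat.card (normalizerIn S Ds) := hcard2.trans (hDsn.2 D (isConj_symm hDDs))
  have hxD : x ∈ D := le_sup_left (a := U) hxU
  have hDN : D ≤ normalizerIn S D := le_normalizerIn hDS
  have hψx : ψ x = x := (hAlp _ ψ hψ hcard2 x (hDN hxD)).2 rfl
  have hisoD : Iso F D Ds ψ := ⟨hψ.mono hDN, hψD⟩
  -- `Ds` is self-centralizing
  have hcDs : centralizerIn S Ds ≤ Ds := by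
    have hUD : U ≤ D := le_sup_left
    have hCD : centralizerIn S U ≤ D := le_sup_right
    have hmU : Mor F U ψ := hisoD.mor.mono hUD
    set U₁ := img U ψ with hU₁
    have hconj : F.IsConj U U₁ := hmU.iso_img.isConj
    have hfc := (fullyNormalized_fullyCentralized hS hF hUn).2 U₁ hconj
    have hmC : Mor F (centralizerIn S U) ψ := hisoD.mor.mono hCD
    have hle : img (centralizerIn S U) ψ ≤ centralizerIn S U₁ := by
      intro y hy
      obtain ⟨c, hc, rfl⟩ := (hmC.mem_img y).1 hy
      refine (mem_centralizerIn_iff _ _ _).2 ⟨hmC.mem hc, ?_⟩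
      intro u hu
      obtain ⟨u', hu', rfl⟩ := (hmU.mem_img u).1 hu
      rw [← hisoD.mor.map_mul (hUD hu') (hCD hc), ← hisoD.mor.map_mul (hCD hc) (hUD hu'),
        ((mem_centralizerIn_iff _ _ _).1 hc).2 u' hu']
    have : Finite ↥(centralizerIn S U₁) := finite_of_le (centralizerIn_le S U₁)
    have heq : img (centralizerIn S U) ψ = centralizerIn S U₁ :=
      Subgroup.eq_of_le_of_card_ge hle (by rw [← hmC.iso_img.card_eq]; exact hfc)
    intro c hc
    have hc1 : c ∈ centralizerIn S U₁ := by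
      refine (mem_centralizerIn_iff _ _ _).2 ⟨hc.1, ?_⟩
      intro u hu
      obtain ⟨u', hu', rfl⟩ := (hmU.mem_img u).1 hu
      exact ((mem_centralizerIn_iff _ _ _).1 hc).2 _ (hisoD.map_mem (hUD hu'))
    rw [← heq] at hc1
    obtain ⟨c', hc', rfl⟩ := (hmC.mem_img c).1 hc1
    exact hisoD.map_mem (hCD hc')
  obtain ⟨ψi, hψi, hψiψ, hψψi⟩ := hisoD.symm
  have hb3 : Iso F Ds Ds (ψ ∘ (b2 ∘ ψi)) := (hψi.trans hb2iso).trans hisoD
  have h3 := hA Ds hDsn hcDs hcard3 _ hb3
  have hψix : ψi x = x := by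
    have := hψiψ x hxD
    rwa [hψx] at this
  have h4 : ψ (b2 x) = ψ x := by
    have : ψ (b2 (ψi x)) = x := h3
    rw [hψix] at this
    rw [this, hψx]
  have h5 : b2 x = x := hisoD.mor.inj (hb2D x hxD) hxD h4
  have h6 : φ (b x) = φ x := by
    have : φ (b (φi x)) = b2 x := (hb2U x hxU).symm
    rw [hφix, h5] at this
    rw [this, hφx]
  exact hisoTU.mor.inj (hb.map_mem hxT) hxT h6

end basic

section main

variable {Ω : Type u} [Group Ω] {S : Subgroup Ω}

/-- the hypothesis on the local models. -/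
def ModelHyp (p : ℕ) (F : FusionSystem S) (WS : Subgroup Ω → Subgroup Ω) (x : Ω) : Prop :=
  ∀ R : Subgroup Ω, F.IsFullyNormalized R → F.IsCentric R →
    ∀ N : FusionSystem (normalizerIn S R), F.IsNormalizerSystem R N →
    ∀ (G : Type u) [Group G] (ι : ↥(normalizerIn S R) →* G), N.IsModel p G ι →
      (∀ g : G, g ∈ Subgroup.normalizer
        ((((WS (normalizerIn S R)).subgroupOf (normalizerIn S R)).map ι : Subgroup G) : Set G) →
          g * tf ι x = tf ι x * g) → ∀ g : G, g * tf ι x = tf ι x * g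

theorem main [Finite S] {p : ℕ} [Fact p.Prime] (hS : IsPGroup p S) (F : FusionSystem S)
    (hF : F.IsSaturated p) (WS : Subgroup Ω → Subgroup Ω)
    (hW1 : ∀ P : Subgroup Ω, P ≤ S → WS P ≤ P)
    (hW2 : ∀ P : Subgroup Ω, P ≤ S → P ⊓ Subgroup.centralizer (P : Set Ω) ≤ WS P)
    (hW3 : ∀ P : Subgroup Ω, P ≤ S → normalizerIn S P ≤ normalizerIn S (WS P))
    {x : Ω} (hx : x ∈ S ⊓ Subgroup.centralizer (S : Set Ω))
    (hx0 : ∀ b, Iso F (WS S) (WS S) b → b x = x)
    (hG : ModelHyp p F WS x) :
    ∀ (P : Subgroup Ω) (f : Ω → Ω), Mor F P f → Fix x P f := by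
  have claim : ∀ n : ℕ, ∀ R : Subgroup Ω, F.IsFullyNormalized R → centralizerIn S R ≤ R →
      Nat.card S - Nat.card (normalizerIn S R) = n → ∀ f, Iso F R R f → f x = x := by
    intro n
    induction n using Nat.strong_induction_on with
    | _ n ih =>
      intro R hRn hc hn f hf
      have hRS : R ≤ S := hRn.1
      have hRc : F.IsCentric R :=
        Helper86.centric_of_receptive (fullyNormalized_receptive hS hF hRn) hc
      set P := normalizerIn S R with hP
      have hPS : P ≤ S := normalizerIn_le S R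
      have hRP : R ≤ P := le_normalizerIn hRS
      have hfin : Finite P := finite_of_le hPS
      have hxR : x ∈ R := hc ⟨hx.1, Subgroup.centralizer_le hRS hx.2⟩
      have hxP : x ∈ P := hRP hxR
      obtain ⟨N, hN⟩ := Cfsg.Agent.S5096.result F R hRS
      have hcon := normalizerSystem_constrained hS hF hRn hRc hN
      obtain ⟨G, _, ι, hM⟩ := Cfsg.Agent.S5090.result p (hS.to_le hPS) N hcon
      have hreal := hM.2.1
      set T := WS P with hT
      have hTP : T ≤ P := hW1 P hPS
      have hxT : x ∈ T := hW2 P hPS ⟨hxP, Subgroup.centralizer_le hPS hx.2⟩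
      have haut : ∀ b, Iso F T T b → b x = x := by
        rcases eq_or_lt_of_le hPS with hPeq | hPlt
        · rw [hT, hPeq]
          exact hx0
        · have hlt := Helper89.lt_normalizerIn hS hPlt
          have : Finite ↥(normalizerIn S P) := finite_of_le (normalizerIn_le S P)
          have hcl := Helper89.card_lt_of_lt hlt
          have hcl2 : Nat.card (normalizerIn S P) ≤ Nat.card (normalizerIn S T) :=
            card_le_of_le' (normalizerIn_le S T) (hW3 P hPS)
          apply aut_fix hS F hF hx (Nat.card P + 1) _ (hTP.trans hPS) hxT (by omega)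
          intro B hBn hBc hBm f' hf'
          have h1 : Nat.card (normalizerIn S B) ≤ Nat.card S :=
            card_le_of_le' le_rfl (normalizerIn_le S B)
          exact ih (Nat.card S - Nat.card (normalizerIn S B)) (by omega) B hBn hBc rfl f' hf'
      have key := hG R hRn hRc N hN G ι hM (by
        intro g hg
        have hconj : ∀ y ∈ T, ∃ t ∈ T, tf ι t = g * tf ι y * g⁻¹ := by
          intro y hy
          have h1 : tf ι y ∈ (T.subgroupOf P).map ι :=
            (mem_map_subgroupOf_iff ι T _).2 ⟨y, hy, hTP hy, rfl⟩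
          have h2 := (Subgroup.mem_normalizer_iff.1 hg _).1 h1
          obtain ⟨t, ht, -, ht'⟩ := (mem_map_subgroupOf_iff ι T _).1 h2
          exact ⟨t, ht, ht'⟩
        set b : Ω → Ω := fun y => tinv ι (g * tf ι y * g⁻¹) with hb
        have hbT : ∀ y ∈ T, b y ∈ T ∧ tf ι (b y) = g * tf ι y * g⁻¹ := by
          intro y hy
          obtain ⟨t, ht, ht'⟩ := hconj y hy
          have : b y = t := by
            show tinv ι (g * tf ι y * g⁻¹) = t
            rw [← ht', tinv_tf hreal.1 (hTP ht)]
          rw [this]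
          exact ⟨ht, ht'⟩
        have hbN : Mor N T b :=
          (mor_realized_iff hreal T b).2 ⟨hTP, fun y hy => hTP (hbT y hy).1, g,
            fun y hy => (hbT y hy).2⟩
        have hbF : Mor F T b := ((Helper89.mor_normalizerSystem_iff hN T b).1 hbN).2.2.mor
        have : Finite T := finite_of_le (hTP.trans hPS)
        have hbx := haut b (hbF.iso_self (fun y hy => (hbT y hy).1))
        have h3 := (hbT x hxT).2
        rw [hbx] at h3
        calc g * tf ι x = (g * tf ι x * g⁻¹) * g := by group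
          _ = tf ι x * g := by rw [← h3])
      have hfN : Mor N R f :=
        (Helper89.mor_normalizerSystem_iff hN R f).2 ⟨hRP, fun y hy => hRP (hf.map_mem hy), f,
          by rw [sup_idem]; exact hf.mor, fun _ _ => rfl, hf.2⟩
      obtain ⟨-, -, g, hg⟩ := (mor_realized_iff hreal R f).1 hfN
      have h1 := hg x hxR
      have h2 : tf ι (f x) = tf ι x := by
        rw [h1, key g]
        group
      exact tf_inj hreal.1 (hRP (hf.map_mem hxR)) hxP h2
  intro P f hf
  exact alp hS F hF hx 0 (fun R hfa hrec hc _ f hf =>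
    claim _ R (fullyNormalized_of hS hfa hrec) hc rfl f hf) P f hf (Nat.zero_le _)

/-- subgroup form: `A ≤ Z(S)` is central in `F`. -/
theorem le_center [Finite S] {p : ℕ} [Fact p.Prime] (hS : IsPGroup p S) (F : FusionSystem S)
    (hF : F.IsSaturated p) (WS : Subgroup Ω → Subgroup Ω)
    (hW1 : ∀ P : Subgroup Ω, P ≤ S → WS P ≤ P)
    (hW2 : ∀ P : Subgroup Ω, P ≤ S → P ⊓ Subgroup.centralizer (P : Set Ω) ≤ WS P)
    (hW3 : ∀ P : Subgroup Ω, P ≤ S → normalizerIn S P ≤ normalizerIn S (WS P))
    (A : Subgroup Ω) (hA : A ≤ S ⊓ Subgroup.centralizer (S : Set Ω))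
    (hA0 : ∀ x ∈ A, ∀ b, Iso F (WS S) (WS S) b → b x = x)
    (hG : ∀ x ∈ A, ModelHyp p F WS x) : A ≤ F.center := by
  apply le_sSup
  show F.IsCentral A
  rw [Helper86.isCentral_iff_conjElt hS F hF]
  refine ⟨hA.trans inf_le_left, ?_⟩
  rintro x hx y ⟨φ, hφ, rfl⟩
  have h1 := main hS F hF WS hW1 hW2 hW3 (hA hx) (hA0 x hx) (hG x hx) _ _ (Mor.of_hom hφ) x
    (Subgroup.mem_zpowers x)
  have h2 := h1.2 rfl
  rwa [ext_apply φ (Subgroup.mem_zpowers x)] at h2

/-- elements of the centre of the normalizer system of `T` are fixed by `Aut_F(T)`. -/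
theorem aut_fix_of_mem_center [Finite S] {F : FusionSystem S} {T : Subgroup Ω} (hT : T ≤ S)
    {N : FusionSystem (normalizerIn S T)} (hN : F.IsNormalizerSystem T N) {x : Ω}
    (hx : x ∈ N.center) (hxT : x ∈ T) : ∀ b, Iso F T T b → b x = x := by
  intro b hb
  have : Finite ↥(normalizerIn S T) := finite_of_le (normalizerIn_le S T)
  have hc := (Helper88.isCentral_iff N N.center).1 (Helper88.isCentral_center N)
  have hbN : Mor N T b :=
    (Helper89.mor_normalizerSystem_iff hN T b).2 ⟨le_normalizerIn hT,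
      fun y hy => le_normalizerIn hT (hb.map_mem hy), b, by rw [sup_idem]; exact hb.mor,
      fun _ _ => rfl, hb.2⟩
  obtain ⟨f', -, h1, h2⟩ := hc.2 T b hbN
  rw [← h1 x hxT, h2 x hx]

end main

end Cfsg.Agent.Lib.Helper15.FusWC
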