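import Mathlib
import Cfsg.Agent.Lib.Helper15.FusWC

set_option autoImplicit false

/-! Abstract local-to-global skeleton for saturated fusion systems: a class `C` of maps closed under
restriction, composition and inverses contains the whole system as soon as, for every fully normalized
centric `R`, `Aut_F(R) ⊆ C` follows from a property `D T` of the members `T` of a family `WS (N_S(R))`
of subgroups normalized by `N_S(N_S(R))`, where `D T` follows from `Aut_F(T) ⊆ C`. -/

namespace Cfsg.Agent.Lib.Helper15.FusSkel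

open Cfsg Cfsg.FusionSystem Cfsg.Agent.Lib.Helper87 Cfsg.Agent.Lib.Helper15.FusWC

variable {Ω : Type*} [Group Ω] {S : Subgroup Ω}

/-- a class of maps of the system closed under the operations used in Alperin's theorem. -/
structure MorClass (F : FusionSystem S) (C : Subgroup Ω → (Ω → Ω) → Prop) : Prop where
  congr : ∀ {P : Subgroup Ω} {f g : Ω → Ω}, C P f → (∀ x ∈ P, f x = g x) → C P g
  res : ∀ {P R : Subgroup Ω} {f : Ω → Ω}, Mor F P f → C P f → R ≤ P → C R f
  comp : ∀ {P Q : Subgroup Ω} {f g : Ω → Ω}, Mor F P f → Mor F Q g → (∀ x ∈ P, f x ∈ Q) →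
      C P f → C Q g → C P (g ∘ f)
  inv : ∀ {P Q : Subgroup Ω} {f g : Ω → Ω}, Iso F P Q f → Iso F Q P g →
      (∀ x ∈ P, g (f x) = x) → C P f → C Q g

variable {F : FusionSystem S} {C : Subgroup Ω → (Ω → Ω) → Prop}

theorem alpC [Finite S] {p : ℕ} [Fact p.Prime] (hS : IsPGroup p S)
    (hF : F.IsSaturated p) (hC : MorClass F C) (m : ℕ)
    (hA : ∀ R : Subgroup Ω, F.IsFullyAutomized p R → F.IsReceptive R → centralizerIn S R ≤ R →
      m ≤ Nat.card R → ∀ f, Iso F R R f → C R f) :
    ∀ (P : Subgroup Ω) (f : Ω → Ω), Mor F P f → m ≤ Nat.card P → C P f := by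
  apply Helper89.alperin_induction hS F hF (fun P f => m ≤ Nat.card P → C P f)
  · intro P f g h e hm
    exact hC.congr (h hm) e
  · intro P R f hf h hRP hm
    exact hC.res hf (h (hm.trans (card_le_of_le' hf.le hRP))) hRP
  · intro P Q f g hf hg hPQ h1 h2 hm
    have hcard : Nat.card P ≤ Nat.card Q := Mor.card_le' hf hg.le hPQ
    exact hC.comp hf hg hPQ (h1 hm) (h2 (hm.trans hcard))
  · intro P Q f g hf hg hgf h1 hm
    exact hC.inv hf hg hgf (h1 (by rw [hf.card_eq]; exact hm))
  · intro R hfa hrec IH f hf hm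
    by_cases hc : centralizerIn S R ≤ R
    · exact hA R hfa hrec hc hm f hf
    · obtain ⟨f', hf', hff', -⟩ := receptive_extend_centralizer hrec hf
      have hlt : R < R ⊔ centralizerIn S R := by
        exact lt_of_le_of_ne le_sup_left (fun he => hc (le_sup_right.trans he.ge))
      have : Finite ↥(R ⊔ centralizerIn S R) := finite_of_le hf'.le
      have hcl := Helper89.card_lt_of_lt hlt
      have h2 := IH _ f' hcl hf' (hm.trans hcl.le)
      exact hC.congr (hC.res hf' h2 le_sup_left) hff'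

/-- the induction hypothesis. -/
def IHC (F : FusionSystem S) (C : Subgroup Ω → (Ω → Ω) → Prop) (m : ℕ) : Prop :=
  ∀ B : Subgroup Ω, F.IsFullyNormalized B → centralizerIn S B ≤ B →
    m ≤ Nat.card (normalizerIn S B) → ∀ f, Iso F B B f → C B f

theorem alpC_of_IHC [Finite S] {p : ℕ} [Fact p.Prime] (hS : IsPGroup p S)
    (hF : F.IsSaturated p) (hC : MorClass F C) (m : ℕ) (hA : IHC F C m) :
    ∀ (P : Subgroup Ω) (f : Ω → Ω), Mor F P f → m ≤ Nat.card P → C P f :=
  alpC hS hF hC m (fun R hfa hrec hc hm f hf =>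
    hA R (fullyNormalized_of hS hfa hrec) hc
      (hm.trans (card_le_of_le' (normalizerIn_le S R) (le_normalizerIn hrec.1))) f hf)

/-- conjugating an automorphism by an isomorphism in the class. -/
theorem conj_mem (hC : MorClass F C) {T U : Subgroup Ω} {φ φi b b1 : Ω → Ω}
    (hφ : Iso F T U φ) (hφi : Iso F U T φi) (hφiφ : ∀ x ∈ T, φi (φ x) = x) (hb : Iso F T T b)
    (hb1 : Iso F U U b1) (hbb : ∀ x ∈ T, b1 (φ x) = φ (b x)) (hCφ : C T φ) (hCb1 : C U b1) :
    C T b := by
  have h1 : C U φi := hC.inv hφ hφi hφiφ hCφ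
  have h2 : C T (b1 ∘ φ) := hC.comp hφ.mor hb1.mor (fun x hx => hφ.map_mem hx) hCφ hCb1
  have h3 : C T (φi ∘ (b1 ∘ φ)) :=
    hC.comp (hφ.mor.comp hb1.mor (fun x hx => hφ.map_mem hx)) hφi.mor
      (fun x hx => hb1.map_mem (hφ.map_mem hx)) h2 h1
  refine hC.congr h3 (fun x hx => ?_)
  show φi (b1 (φ x)) = b x
  rw [hbb x hx, hφiφ _ (hb.map_mem hx)]

/-- automorphisms of a subgroup `T` with large normalizer lie in the class. -/
theorem autC [Finite S] {p : ℕ} [Fact p.Prime] (hS : IsPGroup p S)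
    (hF : F.IsSaturated p) (hC : MorClass F C) (m : ℕ)
    (hA : IHC F C m) {T : Subgroup Ω} (hTS : T ≤ S)
    (hm : m ≤ Nat.card (normalizerIn S T)) : ∀ b, Iso F T T b → C T b := by
  intro b hb
  have hAlp := alpC_of_IHC hS hF hC m hA
  obtain ⟨U, hTU, hUn⟩ := exists_fullyNormalized_conj F hTS
  obtain ⟨φ, hφ, hφU, hφN⟩ := exists_mor_normalizer_of_fullyNormalized hS hF hUn hTU
  have hCφ : C T φ := hC.res hφ (hAlp _ φ hφ hm) (le_normalizerIn hTS)
  have hisoTU : Iso F T U φ := ⟨hφ.mono (le_normalizerIn hTS), hφU⟩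
  obtain ⟨φi, hφi, hφiφ, hφφi⟩ := hisoTU.symm
  have hb1 : Iso F U U (φ ∘ (b ∘ φi)) := (hφi.trans hb).trans hisoTU
  have hUS : U ≤ S := hUn.1
  have hUrec := fullyNormalized_receptive hS hF hUn
  obtain ⟨b2, hb2, hb2U, hb2C⟩ := receptive_extend_centralizer hUrec hb1
  set D := U ⊔ centralizerIn S U with hD
  have hDS : D ≤ S := hb2.le
  have : Finite D := finite_of_le hDS
  have hb2D : ∀ y ∈ D, b2 y ∈ D := by
    apply hb2.map_sup_mem
    · intro y hy
      rw [hb2U y hy]
      exact le_sup_left (a := U) (hb1.map_mem hy)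
    · intro c hc
      exact le_sup_right (a := U) (hb2C c hc)
  have hb2iso : Iso F D D b2 := hb2.iso_self hb2D
  obtain ⟨Ds, hDDs, hDsn⟩ := exists_fullyNormalized_conj F hDS
  obtain ⟨ψ, hψ, hψD, hψN⟩ := exists_mor_normalizer_of_fullyNormalized hS hF hDsn hDDs
  have hcard1 : m ≤ Nat.card (normalizerIn S U) := hm.trans (hUn.2 T (isConj_symm hTU))
  have hcard2 : m ≤ Nat.card (normalizerIn S D) :=
    hcard1.trans (card_le_of_le' (normalizerIn_le S D) (normalizerIn_le_sup_centralizerIn S U))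
  have hcard3 : m ≤ Nat.card (normalizerIn S Ds) := hcard2.trans (hDsn.2 D (isConj_symm hDDs))
  have hDN : D ≤ normalizerIn S D := le_normalizerIn hDS
  have hCψ : C D ψ := hC.res hψ (hAlp _ ψ hψ hcard2) hDN
  have hisoD : Iso F D Ds ψ := ⟨hψ.mono hDN, hψD⟩
  -- `Ds` is self-centralizing
  have hcDs : centralizerIn S Ds ≤ Ds := by
    have hUD : U ≤ D := le_sup_left
    have hCD : centralizerIn S U ≤ D := le_sup_right
    have hmU : Mor F U ψ := hisoD.mor.mono hUD
    set U₁ := img U ψ with hU₁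
    have hconj : F.IsConj U U₁ := hmU.iso_img.isConj
    have hfc := (fullyNormalized_fullyCentralized hS hF hUn).2 U₁ hconj
    have hmC : Mor F (centralizerIn S U) ψ := hisoD.mor.mono hCD
    have hle : img (centralizerIn S U) ψ ≤ centralizerIn S U₁ := by
      intro y hy
      obtain ⟨c, hc, rfl⟩ := (hmC.mem_img y).1 hy
      refine (mem_centralizerIn_iff _ _ _).2 ⟨hmC.mem hc, ?_⟩
      intro u hu
      obtain ⟨u', hu', rfl⟩ := (hmU.mem_img u).1 hu
      rw [← hisoD.mor.map_mul (hUD hu') (hCD hc), ← hisoD.mor.map_mul (hCD hc) (hUD hu'),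
        ((mem_centralizerIn_iff _ _ _).1 hc).2 u' hu']
    have : Finite ↥(centralizerIn S U₁) := finite_of_le (centralizerIn_le S U₁)
    have heq : img (centralizerIn S U) ψ = centralizerIn S U₁ :=
      Subgroup.eq_of_le_of_card_ge hle (by rw [← hmC.iso_img.card_eq]; exact hfc)
    intro c hc
    have hc1 : c ∈ centralizerIn S U₁ := by
      refine (mem_centralizerIn_iff _ _ _).2 ⟨hc.1, ?_⟩
      intro u hu
      obtain ⟨u', hu', rfl⟩ := (hmU.mem_img u).1 hu
      exact ((mem_centralizerIn_iff _ _ _).1 hc).2 _ (hisoD.map_mem (hUD hu'))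
    rw [← heq] at hc1
    obtain ⟨c', hc', rfl⟩ := (hmC.mem_img c).1 hc1
    exact hisoD.map_mem (hCD hc')
  obtain ⟨ψi, hψi, hψiψ, hψψi⟩ := hisoD.symm
  have hb3 : Iso F Ds Ds (ψ ∘ (b2 ∘ ψi)) := (hψi.trans hb2iso).trans hisoD
  have h3 : C Ds (ψ ∘ (b2 ∘ ψi)) := hA Ds hDsn hcDs hcard3 _ hb3
  have hCb2 : C D b2 := conj_mem hC hisoD hψi hψiψ hb2iso hb3 (fun x hx => by
    show ψ (b2 (ψi (ψ x))) = ψ (b2 x)
    rw [hψiψ x hx]) hCψ h3
  have hCb1 : C U (φ ∘ (b ∘ φi)) := hC.congr (hC.res hb2 hCb2 le_sup_left) hb2U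
  exact conj_mem hC hisoTU hφi hφiφ hb hb1 (fun x hx => by
    show φ (b (φi (φ x))) = φ (b x)
    rw [hφiφ x hx]) hCφ hCb1

theorem mainC [Finite S] {p : ℕ} [Fact p.Prime] (hS : IsPGroup p S)
    (hF : F.IsSaturated p) (hC : MorClass F C) (WS : Subgroup Ω → Set (Subgroup Ω))
    (hW : ∀ P : Subgroup Ω, P ≤ S → ∀ T ∈ WS P, T ≤ P ∧ normalizerIn S P ≤ normalizerIn S T)
    (D : Subgroup Ω → Prop) (hCD : ∀ T : Subgroup Ω, T ≤ S → (∀ b, Iso F T T b → C T b) → D T)
    (htop : ∀ T ∈ WS S, D T)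
    (hstep : ∀ R : Subgroup Ω, F.IsFullyNormalized R → F.IsCentric R →
      (∀ T ∈ WS (normalizerIn S R), D T) → ∀ f, Iso F R R f → C R f) :
    ∀ (P : Subgroup Ω) (f : Ω → Ω), Mor F P f → C P f := by
  have claim : ∀ n : ℕ, ∀ R : Subgroup Ω, F.IsFullyNormalized R → centralizerIn S R ≤ R →
      Nat.card S - Nat.card (normalizerIn S R) = n → ∀ f, Iso F R R f → C R f := by
    intro n
    induction n using Nat.strong_induction_on with
    | _ n ih =>
      intro R hRn hc hn f hf
      have hRc : F.IsCentric R :=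
        Helper86.centric_of_receptive (fullyNormalized_receptive hS hF hRn) hc
      set P := normalizerIn S R with hP
      have hPS : P ≤ S := normalizerIn_le S R
      have hfin : Finite P := finite_of_le hPS
      apply hstep R hRn hRc _ f hf
      intro T hT
      obtain ⟨hTP, hTN⟩ := hW P hPS T hT
      rcases eq_or_lt_of_le hPS with hPeq | hPlt
      · apply htop
        rw [← hPeq]
        exact hT
      · apply hCD T (hTP.trans hPS)
        have hlt := Helper89.lt_normalizerIn hS hPlt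
        have : Finite ↥(normalizerIn S P) := finite_of_le (normalizerIn_le S P)
        have hcl := Helper89.card_lt_of_lt hlt
        have hcl2 : Nat.card (normalizerIn S P) ≤ Nat.card (normalizerIn S T) :=
          card_le_of_le' (normalizerIn_le S T) hTN
        apply autC hS hF hC (Nat.card P + 1) _ (hTP.trans hPS) (by omega)
        intro B hBn hBc hBm f' hf'
        have h1 : Nat.card (normalizerIn S B) ≤ Nat.card S :=
          card_le_of_le' le_rfl (normalizerIn_le S B)
        exact ih (Nat.card S - Nat.card (normalizerIn S B)) (by omega) B hBn hBc rfl f' hf'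
  intro P f hf
  exact alpC hS hF hC 0 (fun R hfa hrec hc _ f hf =>
    claim _ R (fullyNormalized_of hS hfa hrec) hc rfl f hf) P f hf (Nat.zero_le _)

end Cfsg.Agent.Lib.Helper15.FusSkel
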