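import Mathlib
import Cfsg.Agent.Lib.Helper15.FusSkel
import Cfsg.Agent.Lib.Helper87.Invariant
import Cfsg.Agent.Lib.Helper87.NormalCrit
import Cfsg.Agent.Lib.Helper2.PResidual

set_option autoImplicit false

/-! Tools for centralizers of normal subsystems: an automorphism of `P C_S(P)` of order prime to `p`
acting trivially modulo `P` fixes every element `x⁻¹ θ(x)` with `θ` a map of `C_F(P)`. -/

namespace Cfsg.Agent.Lib.Helper15.FusCE

open Cfsg Cfsg.FusionSystem Cfsg.Agent.Lib.Helper87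

section grp

variable {G : Type*} [Group G]

theorem le_of_sylIn_of_coprime [Finite G] {p : ℕ} [Fact p.Prime] {K H H0 : Subgroup G}
    (h : IsSylIn p K H) (hK : K ≤ H0) (hc : ∀ g ∈ H, (orderOf g).Coprime p → g ∈ H0) :
    H ≤ H0 := by
  intro x hx
  have h1 := Helper2.sylow_sup_pResidual h.toSylow
  have h2 : ((h.toSylow : Subgroup H) ⊔ Cfsg.pResidual p H) ≤ H0.subgroupOf H := by
    refine sup_le ?_ ?_
    · rw [h.coe_toSylow]
      intro y hy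
      exact Subgroup.mem_subgroupOf.2 (hK (Subgroup.mem_subgroupOf.1 hy))
    · unfold Cfsg.pResidual
      rw [Subgroup.closure_le]
      intro g hg
      refine Subgroup.mem_subgroupOf.2 (hc g g.2 ?_)
      rw [Subgroup.orderOf_coe]
      exact hg
  rw [h1] at h2
  exact Subgroup.mem_subgroupOf.1 (h2 (Subgroup.mem_top (⟨x, hx⟩ : H)))

theorem fix_of_coprime {p : ℕ} [Fact p.Prime] (hG : IsPGroup p G) (γ : MulAut G)
    (hγ : (orderOf γ).Coprime p) (c : G) (h : γ (c⁻¹ * γ c) = c⁻¹ * γ c) : γ c = c := by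
  set z := c⁻¹ * γ c with hz
  have hc : γ c = c * z := by rw [hz]; group
  have h1 : ∀ k : ℕ, (γ ^ k) c = c * z ^ k := by
    intro k
    induction k with
    | zero => simp
    | succ k ih =>
      rw [pow_succ', MulAut.mul_apply, ih, map_mul, map_pow, h, hc, pow_succ', mul_assoc]
  have h2 := h1 (orderOf γ)
  rw [pow_orderOf_eq_one] at h2
  have h3 : z ^ orderOf γ = 1 := by
    have : c * 1 = c * z ^ orderOf γ := by simpa using h2
    exact (mul_left_cancel this).symm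
  obtain ⟨k, hk⟩ := hG z
  have h4 : orderOf z = 1 :=
    Nat.eq_one_of_dvd_coprimes (Nat.Coprime.pow_right k hγ) (orderOf_dvd_of_pow_eq_one h3)
      (orderOf_dvd_of_pow_eq_one hk)
  rw [hc, orderOf_eq_one_iff.1 h4, mul_one]

theorem exists_pow_coprime {A B : Type*} [Group A] [Group B] [Finite B] {p : ℕ} [Fact p.Prime]
    (α : A) (γ : B) (hα : (orderOf α).Coprime p) :
    ∃ j : ℕ, α ^ j = α ∧ (orderOf (γ ^ j)).Coprime p := by
  have hp : p.Prime := Fact.out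
  obtain ⟨k, m, hm, hn⟩ := Nat.exists_eq_pow_mul_and_not_dvd (orderOf_pos γ).ne' p hp.ne_one
  have co : Nat.Coprime (p ^ k) (orderOf α) := (Nat.Coprime.pow_right k hα).symm
  obtain ⟨j, hj0, hj1⟩ := Nat.chineseRemainder co 0 1
  refine ⟨j, ?_, ?_⟩
  · have := (pow_eq_pow_iff_modEq (x := α) (n := j) (m := 1)).2 hj1
    simpa using this
  · obtain ⟨t, rfl⟩ := (Nat.modEq_zero_iff_dvd).1 hj0
    have h1 : (γ ^ (p ^ k * t)) ^ m = 1 := by
      rw [← pow_mul, show p ^ k * t * m = (p ^ k * m) * t by ring, ← hn, pow_mul,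
        pow_orderOf_eq_one, one_pow]
    exact Nat.Coprime.coprime_dvd_left (orderOf_dvd_of_pow_eq_one h1)
      ((Nat.Prime.coprime_iff_not_dvd hp).2 hm).symm

theorem comm_aux (c1 c2 z1 z2 : G) (h12 : z1 * c2 = c2 * z1) (hz : z1 * z2 = z2 * z1)
    (h21 : z2 * c1 = c1 * z2) :
    (c1 * z1) * (c2 * z2) * (c1 * z1)⁻¹ * (c2 * z2)⁻¹ = c1 * c2 * c1⁻¹ * c2⁻¹ := by
  have e1 : z1 * (c2 * z2) * z1⁻¹ = c2 * z2 := by
    rw [mul_inv_eq_iff_eq_mul, ← mul_assoc, h12, mul_assoc, hz, mul_assoc]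
  have e2 : z2 * c1⁻¹ * z2⁻¹ = c1⁻¹ := by
    rw [mul_inv_eq_iff_eq_mul]
    have : Commute z2 c1 := h21
    exact this.inv_right.eq
  calc (c1 * z1) * (c2 * z2) * (c1 * z1)⁻¹ * (c2 * z2)⁻¹
      = c1 * (z1 * (c2 * z2) * z1⁻¹) * c1⁻¹ * (c2 * z2)⁻¹ := by group
    _ = c1 * (c2 * z2) * c1⁻¹ * (c2 * z2)⁻¹ := by rw [e1]
    _ = c1 * c2 * (z2 * c1⁻¹ * z2⁻¹) * c2⁻¹ := by group
    _ = c1 * c2 * c1⁻¹ * c2⁻¹ := by rw [e2]

end grp

section mor

variable {Ω : Type*} [Group Ω] {S : Subgroup Ω} {F : FusionSystem S}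

theorem Mor.map_zpow' {P : Subgroup Ω} {f : Ω → Ω} (h : Mor F P f) {x : Ω} (hx : x ∈ P) (k : ℤ) :
    f (x ^ k) = (f x) ^ k := by
  cases k with
  | ofNat n => simpa using h.map_pow hx n
  | negSucc n =>
    rw [zpow_negSucc, zpow_negSucc, h.map_inv (P.pow_mem hx _), h.map_pow hx]

theorem Mor.zpowers_iff {P : Subgroup Ω} {f : Ω → Ω} (h : Mor F P f) {b : Ω} (hb : b ∈ P) :
    ∀ y, y ∈ Subgroup.zpowers (f b) ↔ ∃ x ∈ Subgroup.zpowers b, f x = y := by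
  intro y
  constructor
  · intro hy
    obtain ⟨k, rfl⟩ := Subgroup.mem_zpowers_iff.1 hy
    exact ⟨b ^ k, Subgroup.zpow_mem_zpowers b k, Mor.map_zpow' h hb k⟩
  · rintro ⟨x, hx, rfl⟩
    obtain ⟨k, rfl⟩ := Subgroup.mem_zpowers_iff.1 hx
    rw [Mor.map_zpow' h hb k]
    exact Subgroup.zpow_mem_zpowers _ k

theorem mem_sup_zp (P : Subgroup Ω) (b : Ω) : b ∈ P ⊔ Subgroup.zpowers b :=
  le_sup_right (a := P) (Subgroup.mem_zpowers b)

theorem Mor.map_sz_mem {P K : Subgroup Ω} {b : Ω} {f : Ω → Ω}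
    (h : Mor F (P ⊔ Subgroup.zpowers b) f) (hP : ∀ x ∈ P, f x ∈ K) (hb : f b ∈ K) :
    ∀ x ∈ P ⊔ Subgroup.zpowers b, f x ∈ K := by
  refine h.map_sup_mem hP (fun x hx => ?_)
  obtain ⟨k, rfl⟩ := Subgroup.mem_zpowers_iff.1 hx
  rw [Mor.map_zpow' h (mem_sup_zp P b) k]
  exact K.zpow_mem hb k

theorem Mor.eq_on_sz {P : Subgroup Ω} {b : Ω} {f g : Ω → Ω}
    (h : Mor F (P ⊔ Subgroup.zpowers b) f) (h' : Mor F (P ⊔ Subgroup.zpowers b) g)
    (hP : ∀ x ∈ P, f x = g x) (hb : f b = g b) : ∀ x ∈ P ⊔ Subgroup.zpowers b, f x = g x := by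
  refine h.eq_on_sup h' hP (fun x hx => ?_)
  obtain ⟨k, rfl⟩ := Subgroup.mem_zpowers_iff.1 hx
  rw [Mor.map_zpow' h (mem_sup_zp P b) k, Mor.map_zpow' h' (mem_sup_zp P b) k, hb]

theorem Mor.iso_sz {P P' : Subgroup Ω} {b : Ω} {f : Ω → Ω}
    (h : Mor F (P ⊔ Subgroup.zpowers b) f) (hP : ∀ y, y ∈ P' ↔ ∃ x ∈ P, f x = y) :
    Iso F (P ⊔ Subgroup.zpowers b) (P' ⊔ Subgroup.zpowers (f b)) f :=
  h.iso_sup hP (Mor.zpowers_iff h (mem_sup_zp P b))

theorem sz_le {P K : Subgroup Ω} {b : Ω} (hP : P ≤ K) (hb : b ∈ K) :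
    P ⊔ Subgroup.zpowers b ≤ K :=
  sup_le hP ((Subgroup.zpowers_le).2 hb)

/-- an automorphism of `P⟨b⟩` in the system that is trivial on the receptive subgroup `P` and sends
`b ∈ C_S(P)` to `b u`, `u ∈ P`: then `u` is a commutator of two elements of `C_S(P)`. -/
theorem comm_of_aut [Finite S] {p : ℕ} [Fact p.Prime] (hS : IsPGroup p S)
    (hF : F.IsSaturated p) {P : Subgroup Ω} (hP : F.IsReceptive P) {b u : Ω}
    (hb : b ∈ centralizerIn S P) (hu : u ∈ P) {d : Ω → Ω}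
    (hd : Mor F (P ⊔ Subgroup.zpowers b) d) (hdP : ∀ x ∈ P, d x = x) (hdb : d b = b * u) :
    ∃ c1 ∈ centralizerIn S P, ∃ c2 ∈ centralizerIn S P, u = c1 * c2 * c1⁻¹ * c2⁻¹ := by
  set V := P ⊔ Subgroup.zpowers b with hV
  have hVS : V ≤ S := hd.le
  have : Finite V := finite_of_le hVS
  have hPV : P ≤ V := le_sup_left
  have hbV : b ∈ V := mem_sup_zp P b
  have hdV : ∀ x ∈ V, d x ∈ V :=
    Mor.map_sz_mem hd (fun x hx => by rw [hdP x hx]; exact hPV hx)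
      (by rw [hdb]; exact V.mul_mem hbV (hPV hu))
  have hiso : Iso F V V d := hd.iso_self hdV
  obtain ⟨α, hα, eα⟩ := hiso.exists_aut
  obtain ⟨k, hk⟩ := hS ⟨u, hP.1 hu⟩
  have hk' : u ^ (p ^ k) = 1 := by simpa using congrArg Subtype.val hk
  have hfixP : ∀ (n : ℕ) (x : Ω) (hx : x ∈ P), ((α ^ n) ⟨x, hPV hx⟩ : V) = ⟨x, hPV hx⟩ := by
    intro n x hx
    induction n with
    | zero => simp
    | succ n ih =>
      rw [pow_succ', MulAut.mul_apply, ih]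
      apply Subtype.ext
      rw [eα]
      exact hdP x hx
  have hfixb : ∀ n : ℕ, (((α ^ n) ⟨b, hbV⟩ : V) : Ω) = b * u ^ n := by
    intro n
    induction n with
    | zero => simp
    | succ n ih =>
      rw [pow_succ', MulAut.mul_apply, eα, ih, hd.map_mul hbV (hPV (P.pow_mem hu n)), hdb,
        hdP _ (P.pow_mem hu n), pow_succ', mul_assoc]
  have hαk : α ^ (p ^ k) = 1 := by
    have h1 : Mor F V (autFun (α ^ (p ^ k))) :=
      (mem_autGroup_iff F hVS _).1 (Subgroup.pow_mem _ hα _)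
    have h2 := Mor.eq_on_sz h1 (mor_id F hVS) (fun x hx => by
      rw [autFun_apply _ (hPV hx), hfixP _ x hx]; rfl) (by
      rw [autFun_apply _ hbV, hfixb, hk', mul_one]; rfl)
    ext x
    have h3 := h2 x x.2
    rw [autFun_coe] at h3
    simpa using h3
  have hAp : IsPGroup p (Subgroup.zpowers α) := by
    rintro ⟨g, hg⟩
    obtain ⟨j, rfl⟩ := Subgroup.mem_zpowers_iff.1 hg
    refine ⟨k, Subtype.ext ?_⟩
    show (α ^ j) ^ (p ^ k) = 1
    rw [← zpow_natCast, ← zpow_mul, mul_comm, zpow_mul, zpow_natCast, hαk, one_zpow]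
  obtain ⟨Vs, hconj, hfa, -⟩ := hF V hVS
  obtain ⟨f₀, hf₀⟩ := (isConj_iff F V Vs).1 hconj
  obtain ⟨f, hf, hcj⟩ := exists_iso_conj_into hfa hf₀ (Subgroup.zpowers α)
    ((Subgroup.zpowers_le).2 hα) hAp
  obtain ⟨s, hsS, hs⟩ := hcj α (Subgroup.mem_zpowers α)
  have hfd : ∀ x ∈ V, f (d x) = s * f x * s⁻¹ := fun x hx => by
    rw [← eα ⟨x, hx⟩]; exact hs ⟨x, hx⟩
  have hmP : Mor F P f := hf.mor.mono hPV
  have hisoP := hmP.iso_img
  obtain ⟨g0, hg0, hg0f, -⟩ := hisoP.symm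
  obtain ⟨ρ, hρ, hρP, hρC⟩ := receptive_extend_centralizer hP hg0
  have hsC : s ∈ centralizerIn S (img P f) := by
    refine (mem_centralizerIn_iff _ _ _).2 ⟨hsS, fun y hy => ?_⟩
    obtain ⟨x, hx, rfl⟩ := hisoP.surj hy
    have h1 := hfd x (hPV hx)
    rw [hdP x hx] at h1
    calc f x * s = (s * f x * s⁻¹) * s := by rw [← h1]
      _ = s * f x := by group
  have hfbC : f b ∈ centralizerIn S (img P f) :=
    hf.mor.map_mem_centralizerIn hPV hmP.mem_img hbV ((mem_centralizerIn_iff _ _ _).1 hb).2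
  have hfu : f u = (f b)⁻¹ * s * f b * s⁻¹ := by
    have h1 := hfd b hbV
    rw [hdb, hf.mor.map_mul hbV (hPV hu)] at h1
    calc f u = (f b)⁻¹ * (f b * f u) := by group
      _ = (f b)⁻¹ * s * f b * s⁻¹ := by rw [h1]; group
  have hC' : centralizerIn S (img P f) ≤ img P f ⊔ centralizerIn S (img P f) := le_sup_right
  refine ⟨(ρ (f b))⁻¹, Subgroup.inv_mem _ (hρC _ hfbC), ρ s, hρC _ hsC, ?_⟩
  have h2 : ρ (f u) = u := by
    rw [hρP _ (hisoP.map_mem hu), hg0f u hu]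
  rw [← h2, hfu, hρ.map_mul (Subgroup.mul_mem _ (Subgroup.mul_mem _ (Subgroup.inv_mem _ (hC' hfbC))
    (hC' hsC)) (hC' hfbC)) (Subgroup.inv_mem _ (hC' hsC)),
    hρ.map_mul (Subgroup.mul_mem _ (Subgroup.inv_mem _ (hC' hfbC)) (hC' hsC)) (hC' hfbC),
    hρ.map_mul (Subgroup.inv_mem _ (hC' hfbC)) (hC' hsC), hρ.map_inv (hC' hfbC),
    hρ.map_inv (hC' hsC), inv_inv]

/-- the data of an automorphism `g` of `D = P C_S(P)` in the system, stabilizing `P` and trivial on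
`C_S(P)` modulo `P`. -/
structure KAut (F : FusionSystem S) (P : Subgroup Ω) (g : Ω → Ω) : Prop where
  iso : Iso F (P ⊔ centralizerIn S P) (P ⊔ centralizerIn S P) g
  mapP : ∀ x ∈ P, g x ∈ P
  modP : ∀ c ∈ centralizerIn S P, c⁻¹ * g c ∈ P

namespace KAut

variable {P : Subgroup Ω} {g : Ω → Ω}

theorem isoP [Finite S] (h : KAut F P g) : Iso F P P g := by
  have : Finite P := finite_of_le ((le_sup_left : P ≤ P ⊔ centralizerIn S P).trans h.iso.le)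
  exact (h.iso.mor.mono le_sup_left).iso_self h.mapP

theorem mapC [Finite S] (h : KAut F P g) {c : Ω} (hc : c ∈ centralizerIn S P) :
    g c ∈ centralizerIn S P :=
  h.iso.mor.map_mem_centralizerIn le_sup_left h.isoP.2 (le_sup_right (a := P) hc)
    ((mem_centralizerIn_iff _ _ _).1 hc).2

theorem eq_mul (_h : KAut F P g) (c : Ω) : g c = c * (c⁻¹ * g c) := by group

theorem modC [Finite S] (h : KAut F P g) {c : Ω} (hc : c ∈ centralizerIn S P) :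
    c⁻¹ * g c ∈ centralizerIn S P :=
  Subgroup.mul_mem _ (Subgroup.inv_mem _ hc) (h.mapC hc)

theorem fix_comm [Finite S] (h : KAut F P g) {c1 c2 : Ω} (h1 : c1 ∈ centralizerIn S P)
    (h2 : c2 ∈ centralizerIn S P) : g (c1 * c2 * c1⁻¹ * c2⁻¹) = c1 * c2 * c1⁻¹ * c2⁻¹ := by
  have hC : centralizerIn S P ≤ P ⊔ centralizerIn S P := le_sup_right
  have hm := h.iso.mor
  rw [hm.map_mul (Subgroup.mul_mem _ (Subgroup.mul_mem _ (hC h1) (hC h2))
    (Subgroup.inv_mem _ (hC h1))) (Subgroup.inv_mem _ (hC h2)),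
    hm.map_mul (Subgroup.mul_mem _ (hC h1) (hC h2)) (Subgroup.inv_mem _ (hC h1)),
    hm.map_mul (hC h1) (hC h2), hm.map_inv (hC h1), hm.map_inv (hC h2), h.eq_mul c1, h.eq_mul c2]
  exact comm_aux c1 c2 _ _ (((mem_centralizerIn_iff _ _ _).1 h2).2 _ (h.modP c1 h1))
    (((mem_centralizerIn_iff _ _ _).1 (h.modC h2)).2 _ (h.modP c1 h1))
    (((mem_centralizerIn_iff _ _ _).1 h1).2 _ (h.modP c2 h2))

/-- the inverse. -/
theorem symm [Finite S] (h : KAut F P g) :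
    ∃ gi, KAut F P gi ∧ (∀ x ∈ P ⊔ centralizerIn S P, gi (g x) = x) ∧
      ∀ x ∈ P ⊔ centralizerIn S P, g (gi x) = x := by
  obtain ⟨gi, hgi, h1, h2⟩ := h.iso.symm
  have hP : P ≤ P ⊔ centralizerIn S P := le_sup_left
  have hC : centralizerIn S P ≤ P ⊔ centralizerIn S P := le_sup_right
  have hmapP : ∀ x ∈ P, gi x ∈ P := by
    intro x hx
    obtain ⟨x', hx', rfl⟩ := h.isoP.surj hx
    rw [h1 x' (hP hx')]
    exact hx'
  have : Finite P := finite_of_le (hP.trans h.iso.le)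
  have hisoP : Iso F P P gi := (hgi.mor.mono hP).iso_self hmapP
  refine ⟨gi, ⟨hgi, hmapP, fun c hc => ?_⟩, h1, h2⟩
  have hc' : gi c ∈ centralizerIn S P :=
    hgi.mor.map_mem_centralizerIn hP hisoP.2 (hC hc) ((mem_centralizerIn_iff _ _ _).1 hc).2
  have h3 := h.modP _ hc'
  rw [h2 c (hC hc)] at h3
  have h4 : c⁻¹ * gi c = ((gi c)⁻¹ * c)⁻¹ := by group
  rw [h4]
  exact P.inv_mem h3

/-- comparison with another extension of `g|_P` to `P⟨b⟩`. -/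
theorem fix_cmp [Finite S] {p : ℕ} [Fact p.Prime] (hS : IsPGroup p S)
    (hF : F.IsSaturated p) (hP : F.IsReceptive P) (h : KAut F P g) {b w : Ω}
    (hb : b ∈ centralizerIn S P) (hw : w ∈ P) {k : Ω → Ω}
    (hk : Mor F (P ⊔ Subgroup.zpowers b) k) (hkP : ∀ x ∈ P, k x = g x) (hkb : k b = b * w) :
    g ((g b)⁻¹ * k b) = (g b)⁻¹ * k b := by
  have hPD : P ≤ P ⊔ centralizerIn S P := le_sup_left
  have hCD : centralizerIn S P ≤ P ⊔ centralizerIn S P := le_sup_right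
  obtain ⟨gi, hgi, h1, h2⟩ := h.symm
  have hkD : ∀ x ∈ P ⊔ Subgroup.zpowers b, k x ∈ P ⊔ centralizerIn S P :=
    Mor.map_sz_mem hk (fun x hx => by rw [hkP x hx]; exact hPD (h.mapP x hx))
      (by rw [hkb]; exact Subgroup.mul_mem _ (hCD hb) (hPD hw))
  have hd : Mor F (P ⊔ Subgroup.zpowers b) (gi ∘ k) := hk.comp hgi.iso.mor hkD
  have hu : b⁻¹ * gi (b * w) ∈ P := by
    rw [hgi.iso.mor.map_mul (hCD hb) (hPD hw), ← mul_assoc]
    exact P.mul_mem (hgi.modP b hb) (hgi.mapP w hw)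
  obtain ⟨c1, hc1, c2, hc2, hu'⟩ := comm_of_aut hS hF hP hb hu hd
    (fun x hx => by show gi (k x) = x; rw [hkP x hx, h1 x (hPD hx)])
    (by show gi (k b) = _; rw [hkb]; group)
  have h3 : g (b⁻¹ * gi (b * w)) = b⁻¹ * gi (b * w) := by
    rw [hu']; exact h.fix_comm hc1 hc2
  have h4 : g (b⁻¹ * gi (b * w)) = (g b)⁻¹ * k b := by
    rw [h.iso.mor.map_mul (Subgroup.inv_mem _ (hCD hb))
      (hgi.iso.map_mem (Subgroup.mul_mem _ (hCD hb) (hPD hw))), h.iso.mor.map_inv (hCD hb),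
      h2 _ (Subgroup.mul_mem _ (hCD hb) (hPD hw)), hkb]
  rw [← h4, h3] 
  exact h3

end KAut

theorem fix_of_fix {p : ℕ} [Fact p.Prime] (hS : IsPGroup p S) {D : Subgroup Ω}
    (hD : D ≤ S) (γ : MulAut D) (hγ : (orderOf γ).Coprime p) {c : Ω} (hc : c ∈ D)
    (h : autFun γ (c⁻¹ * autFun γ c) = c⁻¹ * autFun γ c) : autFun γ c = c := by
  have h1 := fix_of_coprime (hS.to_le hD) γ hγ ⟨c, hc⟩ (by
    apply Subtype.ext
    rw [← autFun_coe]
    have h2 : (((⟨c, hc⟩ : D)⁻¹ * γ ⟨c, hc⟩ : D) : Ω) = c⁻¹ * autFun γ c := by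
      rw [autFun_apply γ hc]; rfl
    rw [h2]
    exact h)
  rw [autFun_apply γ hc, h1]

/-- an extension of `g|_P` fixing `v` forces `g v = v`. -/
theorem KAut.fix_of_ext [Finite S] {p : ℕ} [Fact p.Prime] (hS : IsPGroup p S)
    (hF : F.IsSaturated p) {P : Subgroup Ω} (hP : F.IsReceptive P)
    {γ : MulAut ↥(P ⊔ centralizerIn S P)} (h : KAut F P (autFun γ)) (hγ : (orderOf γ).Coprime p)
    {v : Ω} (hv : v ∈ centralizerIn S P) {k : Ω → Ω} (hk : Mor F (P ⊔ Subgroup.zpowers v) k)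
    (hkP : ∀ x ∈ P, k x = autFun γ x) (hkv : k v = v) : autFun γ v = v := by
  have hCD : centralizerIn S P ≤ P ⊔ centralizerIn S P := le_sup_right
  have h1 := h.fix_cmp hS hF hP hv P.one_mem hk hkP (by rw [hkv, mul_one])
  rw [hkv] at h1
  apply fix_of_fix hS h.iso.le γ hγ (hCD hv)
  have h2 : v⁻¹ * autFun γ v = ((autFun γ v)⁻¹ * v)⁻¹ := by group
  rw [h2, h.iso.mor.map_inv (Subgroup.mul_mem _ (Subgroup.inv_mem _ (hCD (h.mapC hv))) (hCD hv)), h1]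

/-- `g` fixes the focal elements of `C_F(P)`. -/
theorem KAut.fix_focal [Finite S] {p : ℕ} [Fact p.Prime] (hS : IsPGroup p S)
    (hF : F.IsSaturated p) {P : Subgroup Ω} (hP : F.IsReceptive P)
    {γ : MulAut ↥(P ⊔ centralizerIn S P)} (h : KAut F P (autFun γ)) (hγ : (orderOf γ).Coprime p)
    {x : Ω} (hx : x ∈ centralizerIn S P) {θ : Ω → Ω} (hθ : Mor F (P ⊔ Subgroup.zpowers x) θ)
    (hθP : ∀ r ∈ P, θ r = r) : autFun γ (x⁻¹ * θ x) = x⁻¹ * θ x := by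
  have hPD : P ≤ P ⊔ centralizerIn S P := le_sup_left
  have hCD : centralizerIn S P ≤ P ⊔ centralizerIn S P := le_sup_right
  set g := autFun γ with hg
  have hQ : ∀ y, y ∈ P ↔ ∃ r ∈ P, θ r = y := fun y =>
    ⟨fun hy => ⟨y, hy, hθP y hy⟩, by rintro ⟨r, hr, rfl⟩; rw [hθP r hr]; exact hr⟩
  have hb : θ x ∈ centralizerIn S P :=
    hθ.map_mem_centralizerIn le_sup_left hQ (mem_sup_zp P x) ((mem_centralizerIn_iff _ _ _).1 hx).2
  have hθiso := Mor.iso_sz hθ hQ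
  obtain ⟨θi, hθi, hθiθ, -⟩ := hθiso.symm
  have hVD : P ⊔ Subgroup.zpowers x ≤ P ⊔ centralizerIn S P := sz_le hPD (hCD hx)
  have hgV : Mor F (P ⊔ Subgroup.zpowers x) g := h.iso.mor.mono hVD
  have hgx : g x = x * (x⁻¹ * g x) := by group
  have hgVV : ∀ r ∈ P ⊔ Subgroup.zpowers x, g r ∈ P ⊔ Subgroup.zpowers x :=
    Mor.map_sz_mem hgV (fun r hr => le_sup_left (a := P) (h.mapP r hr)) (by
      rw [hgx]
      exact Subgroup.mul_mem _ (mem_sup_zp P x) (le_sup_left (a := P) (h.modP x hx)))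
  have hk : Mor F (P ⊔ Subgroup.zpowers (θ x)) (θ ∘ (g ∘ θi)) :=
    (hθi.mor.comp hgV (fun r hr => hθi.map_mem hr)).comp hθ
      (fun r hr => hgVV _ (hθi.map_mem hr))
  have hθiP : ∀ r ∈ P, θi r = r := fun r hr => by
    have := hθiθ r (le_sup_left (a := P) hr)
    rwa [hθP r hr] at this
  have hkP : ∀ r ∈ P, (θ ∘ (g ∘ θi)) r = g r := fun r hr => by
    show θ (g (θi r)) = g r
    rw [hθiP r hr, hθP _ (h.mapP r hr)]
  have hkb : (θ ∘ (g ∘ θi)) (θ x) = θ x * (x⁻¹ * g x) := by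
    show θ (g (θi (θ x))) = _
    rw [hθiθ x (mem_sup_zp P x), hgx, hθ.map_mul (mem_sup_zp P x)
      (le_sup_left (a := P) (h.modP x hx)), hθP _ (h.modP x hx)]
    congr 1
    group
  have h1 := h.fix_cmp hS hF hP hb (h.modP x hx) hk hkP hkb
  rw [hkb] at h1
  have hyC : x⁻¹ * θ x ∈ centralizerIn S P := Subgroup.mul_mem _ (Subgroup.inv_mem _ hx) hb
  apply fix_of_fix hS h.iso.le γ hγ (hCD hyC)
  rw [← hg]
  have hz1 : (x⁻¹ * g x) * x = x * (x⁻¹ * g x) :=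
    ((mem_centralizerIn_iff _ _ _).1 hx).2 _ (h.modP x hx)
  have hz2 : (x⁻¹ * g x) * θ x = θ x * (x⁻¹ * g x) :=
    ((mem_centralizerIn_iff _ _ _).1 hb).2 _ (h.modP x hx)
  have h2 : (x⁻¹ * θ x)⁻¹ * g (x⁻¹ * θ x) = ((g (θ x))⁻¹ * (θ x * (x⁻¹ * g x)))⁻¹ := by
    rw [h.iso.mor.map_mul (Subgroup.inv_mem _ (hCD hx)) (hCD hb), h.iso.mor.map_inv (hCD hx)]
    set z := x⁻¹ * g x with hz
    have e1 : (g x)⁻¹ = z⁻¹ * x⁻¹ := by rw [hz]; group
    rw [e1]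
    have e2 : x * z⁻¹ = z⁻¹ * x := by
      have : Commute z x := hz1
      exact this.inv_left.eq.symm
    have e3 : (θ x)⁻¹ * z⁻¹ = z⁻¹ * (θ x)⁻¹ := by
      have : Commute z (θ x) := hz2
      exact this.inv_inv.eq.symm
    calc (x⁻¹ * θ x)⁻¹ * (z⁻¹ * x⁻¹ * g (θ x)) = (θ x)⁻¹ * (x * z⁻¹) * x⁻¹ * g (θ x) := by group
      _ = (θ x)⁻¹ * z⁻¹ * g (θ x) := by rw [e2]; group
      _ = z⁻¹ * (θ x)⁻¹ * g (θ x) := by rw [e3]
      _ = ((g (θ x))⁻¹ * (θ x * z))⁻¹ := by group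
  rw [h2, h.iso.mor.map_inv (Subgroup.mul_mem _ (Subgroup.inv_mem _ (hCD (h.mapC hb)))
    (Subgroup.mul_mem _ (hCD hb) (hPD (h.modP x hx)))), h1]

end mor

end Cfsg.Agent.Lib.Helper15.FusCE
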