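import Mathlib
import Cfsg.Agent.Lib.Helper15.FusCE1

set_option autoImplicit false

/-! Centralizers of normal subsystems: the groups of automorphisms of `R ≤ T` that extend to `R Y`
fixing `Y`, and those that lift to `P C_S(P)` trivially modulo `P`. -/

namespace Cfsg.Agent.Lib.Helper15.FusCE

open Cfsg Cfsg.FusionSystem Cfsg.Agent.Lib.Helper87

variable {Ω : Type*} [Group Ω] {S T : Subgroup Ω} {F : FusionSystem S}

section aut

variable {P : Subgroup Ω}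

theorem autFun_mul' (a b : MulAut P) {x : Ω} (hx : x ∈ P) :
    autFun (a * b) x = autFun a (autFun b x) := by
  rw [autFun_apply b hx, autFun_coe, autFun_apply _ hx]; rfl

theorem autFun_one' {x : Ω} (hx : x ∈ P) : autFun (1 : MulAut P) x = x := by
  rw [autFun_apply _ hx]; rfl

theorem autFun_inv_autFun (a : MulAut P) {x : Ω} (hx : x ∈ P) : autFun a⁻¹ (autFun a x) = x := by
  rw [← autFun_mul' _ _ hx, inv_mul_cancel, autFun_one' hx]

theorem autFun_autFun_inv (a : MulAut P) {x : Ω} (hx : x ∈ P) : autFun a (autFun a⁻¹ x) = x := by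
  rw [← autFun_mul' _ _ hx, mul_inv_cancel, autFun_one' hx]

end aut

namespace KAut

variable {P : Subgroup Ω} {g g' : Ω → Ω}

theorem congr (h : KAut F P g) (e : ∀ x ∈ P ⊔ centralizerIn S P, g x = g' x) : KAut F P g' :=
  ⟨h.iso.congr e, fun x hx => by rw [← e x (le_sup_left (a := P) hx)]; exact h.mapP x hx,
   fun c hc => by rw [← e c (le_sup_right (a := P) hc)]; exact h.modP c hc⟩

theorem comp [Finite S] (h : KAut F P g) (h' : KAut F P g') : KAut F P (g ∘ g') :=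
  ⟨h'.iso.trans h.iso, fun x hx => h.mapP _ (h'.mapP x hx), fun c hc => by
    have e : c⁻¹ * g (g' c) = (c⁻¹ * g' c) * ((g' c)⁻¹ * g (g' c)) := by group
    show c⁻¹ * g (g' c) ∈ P
    rw [e]; exact P.mul_mem (h'.modP c hc) (h.modP _ (h'.mapC hc))⟩

theorem refl (hP : P ≤ S) : KAut F P id :=
  ⟨Iso.refl F (sup_le hP (centralizerIn_le S P)), fun x hx => hx, fun c _ => by simp⟩

theorem conj [Finite S] (h : KAut F P g) {m mi : Ω → Ω}
    (hm : Iso F (P ⊔ centralizerIn S P) (P ⊔ centralizerIn S P) m)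
    (hmi : Iso F (P ⊔ centralizerIn S P) (P ⊔ centralizerIn S P) mi)
    (hmP : ∀ x ∈ P, m x ∈ P) (hmiP : ∀ x ∈ P, mi x ∈ P)
    (hmmi : ∀ x ∈ P ⊔ centralizerIn S P, m (mi x) = x) : KAut F P (m ∘ (g ∘ mi)) := by
  have hPD : P ≤ P ⊔ centralizerIn S P := le_sup_left
  have hCD : centralizerIn S P ≤ P ⊔ centralizerIn S P := le_sup_right
  have : Finite P := finite_of_le (hPD.trans h.iso.le)
  have hisoP : Iso F P P mi := (hmi.mor.mono hPD).iso_self hmiP
  refine ⟨(hmi.trans h.iso).trans hm, fun x hx => hmP _ (h.mapP _ (hmiP x hx)), fun c hc => ?_⟩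
  have hc' : mi c ∈ centralizerIn S P :=
    hmi.mor.map_mem_centralizerIn hPD hisoP.2 (hCD hc) ((mem_centralizerIn_iff _ _ _).1 hc).2
  show c⁻¹ * m (g (mi c)) ∈ P
  have e : c⁻¹ * m (g (mi c)) = m ((mi c)⁻¹ * g (mi c)) := by
    rw [hm.mor.map_mul (Subgroup.inv_mem _ (hCD hc')) (hCD (h.mapC hc')),
      hm.mor.map_inv (hCD hc'), hmmi c (hCD hc)]
  rw [e]
  exact hmP _ (h.modP _ hc')

end KAut

/-- transport of a lift fixing `χ(Y)` back to an extension fixing `Y`. -/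
theorem extC_of_fix [Finite S] {R P Y : Subgroup Ω} {χ g a : Ω → Ω}
    (hχ : Mor F (R ⊔ centralizerIn S R) χ) (hχR : ∀ y, y ∈ P ↔ ∃ x ∈ R, χ x = y)
    (hg : KAut F P g) (ha : ∀ x ∈ R, a x ∈ R) (hc : ∀ x ∈ R, g (χ x) = χ (a x))
    (hY : Y ≤ centralizerIn S R) (hfix : ∀ v ∈ Y, g (χ v) = χ v) : ExtC F Y R a := by
  have hW : R ⊔ Y ≤ R ⊔ centralizerIn S R := sup_le_sup_left hY R
  have hχW : Mor F (R ⊔ Y) χ := hχ.mono hW
  have hχD : ∀ w ∈ R ⊔ centralizerIn S R, χ w ∈ P ⊔ centralizerIn S P :=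
    hχ.map_sup_mem (fun x hx => le_sup_left (a := P) ((hχR _).2 ⟨x, hx, rfl⟩))
      (fun c hc => le_sup_right (a := P) (hχ.map_mem_centralizerIn le_sup_left hχR
        (le_sup_right (a := R) hc) ((mem_centralizerIn_iff _ _ _).1 hc).2))
  have hgχ : Mor F (R ⊔ Y) (g ∘ χ) := hχW.comp hg.iso.mor (fun w hw => hχD w (hW hw))
  have hisoW := hχW.iso_img
  obtain ⟨χi, hχi, hχiχ, -⟩ := hisoW.symm
  have himg : ∀ w ∈ R ⊔ Y, (g ∘ χ) w ∈ img (R ⊔ Y) χ :=
    hgχ.map_sup_mem (fun x hx => by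
      show g (χ x) ∈ _
      rw [hc x hx]
      exact hisoW.map_mem (le_sup_left (a := R) (ha x hx))) (fun v hv => by
      show g (χ v) ∈ _
      rw [hfix v hv]
      exact hisoW.map_mem (le_sup_right (a := R) hv))
  refine ⟨χi ∘ (g ∘ χ), hgχ.comp hχi.mor himg, fun x hx => ?_, fun v hv => ?_⟩
  · show χi (g (χ x)) = a x
    rw [hc x hx, hχiχ _ (le_sup_left (a := R) (ha x hx))]
  · show χi (g (χ v)) = v
    rw [hfix v hv, hχiχ _ (le_sup_right (a := R) hv)]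

/-- the automorphisms of `R` extending to `R Y` and fixing `Y`. -/
def extGrp (F : FusionSystem S) (Y R : Subgroup Ω) (hRY : R ⊔ Y ≤ S) : Subgroup (MulAut R) where
  carrier := {α | ExtC F Y R (autFun α)}
  mul_mem' := by
    intro a b ha hb
    exact (ExtC.comp hb ha (fun x hx => autFun_mem b hx)).congr
      (fun x hx => (autFun_mul' a b hx).symm)
  one_mem' := ⟨id, mor_id F hRY, fun x hx => (autFun_one' hx).symm, fun x _ => rfl⟩
  inv_mem' := by
    intro a ha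
    obtain ⟨g, hg, hgf⟩ := ExtC.inv (P' := R) ha (iso_autFun (ExtC.mor ha)).2
    refine hg.congr (fun x hx => ?_)
    have := hgf (autFun a⁻¹ x) (autFun_mem _ hx)
    rw [autFun_autFun_inv a hx] at this
    exact this

theorem mem_extGrp {Y R : Subgroup Ω} (hRY : R ⊔ Y ≤ S) (α : MulAut R) :
    α ∈ extGrp F Y R hRY ↔ ExtC F Y R (autFun α) := Iff.rfl

/-- the automorphisms in `Aut_E(R)` which, transported by `χ` to `P`, lift to `P C_S(P)` trivially
modulo `P`. -/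
def mGrp [Finite S] (E : FusionSystem T) (F : FusionSystem S) (R P : Subgroup Ω) (χ : Ω → Ω)
    (hP : P ≤ S) (hχ : ∀ x ∈ R, χ x ∈ P) : Subgroup (MulAut R) where
  carrier := {α | α ∈ E.autGroup R ∧ ∃ g, KAut F P g ∧ ∀ x ∈ R, g (χ x) = χ (autFun α x)}
  mul_mem' := by
    rintro a b ⟨ha, g, hg, e⟩ ⟨hb, g', hg', e'⟩
    refine ⟨Subgroup.mul_mem _ ha hb, g ∘ g', hg.comp hg', fun x hx => ?_⟩
    show g (g' (χ x)) = _
    rw [e' x hx, e _ (autFun_mem b hx), autFun_mul' a b hx]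
  one_mem' := ⟨Subgroup.one_mem _, id, KAut.refl hP, fun x hx => by rw [autFun_one' hx]; rfl⟩
  inv_mem' := by
    rintro a ⟨ha, g, hg, e⟩
    obtain ⟨gi, hgi, h1, -⟩ := hg.symm
    refine ⟨Subgroup.inv_mem _ ha, gi, hgi, fun x hx => ?_⟩
    have h3 := e (autFun a⁻¹ x) (autFun_mem _ hx)
    rw [autFun_autFun_inv a hx] at h3
    rw [← h3, h1 _ (le_sup_left (a := P) (hχ _ (autFun_mem _ hx)))]

theorem mem_mGrp [Finite S] {E : FusionSystem T} {R P : Subgroup Ω} {χ : Ω → Ω}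
    (hP : P ≤ S) (hχ : ∀ x ∈ R, χ x ∈ P) (α : MulAut R) :
    α ∈ mGrp E F R P χ hP hχ ↔
      α ∈ E.autGroup R ∧ ∃ g, KAut F P g ∧ ∀ x ∈ R, g (χ x) = χ (autFun α x) := Iff.rfl

theorem mGrp_le_extGrp [Finite S] {p : ℕ} [Fact p.Prime] {E : FusionSystem T}
    {R P Y : Subgroup Ω} {χ : Ω → Ω} (hP : P ≤ S) (hRY : R ⊔ Y ≤ S)
    (hχ : Mor F (R ⊔ centralizerIn S R) χ) (hχR : ∀ y, y ∈ P ↔ ∃ x ∈ R, χ x = y)
    (hY : Y ≤ centralizerIn S R)
    (hsyl : IsSylIn p (autInducedBy T R) (E.autGroup R))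
    (hKM : autInducedBy T R ≤ mGrp E F R P χ hP (fun x hx => (hχR _).2 ⟨x, hx, rfl⟩))
    (hKH : autInducedBy T R ≤ extGrp F Y R hRY)
    (hfix : ∀ (α : MulAut R) (γ : MulAut ↥(P ⊔ centralizerIn S P)), α ∈ E.autGroup R →
      KAut F P (autFun γ) → (orderOf γ).Coprime p →
      (∀ x ∈ R, autFun γ (χ x) = χ (autFun α x)) → ∀ v ∈ Y, autFun γ (χ v) = χ v) :
    mGrp E F R P χ hP (fun x hx => (hχR _).2 ⟨x, hx, rfl⟩) ≤ extGrp F Y R hRY := by
  have hRS : R ≤ S := le_sup_left.trans hRY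
  have : Finite R := finite_of_le hRS
  have hDS : P ⊔ centralizerIn S P ≤ S := sup_le hP (centralizerIn_le S P)
  have : Finite ↥(P ⊔ centralizerIn S P) := finite_of_le hDS
  apply le_of_sylIn_of_coprime (hsyl.mono hKM (fun α hα => hα.1)) hKH
  rintro α ⟨hαE, g, hg, e⟩ hαo
  obtain ⟨γ, hγ, eγ⟩ := hg.iso.exists_aut
  have hγg : ∀ x ∈ P ⊔ centralizerIn S P, g x = autFun γ x := fun x hx => by
    rw [autFun_apply γ hx, eγ]
  have hχP : ∀ x ∈ R, χ x ∈ P ⊔ centralizerIn S P :=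
    fun x hx => le_sup_left (a := P) ((hχR _).2 ⟨x, hx, rfl⟩)
  obtain ⟨j, hj1, hj2⟩ := exists_pow_coprime α γ hαo
  have hpow : ∀ n : ℕ, KAut F P (autFun (γ ^ n)) ∧
      ∀ x ∈ R, autFun (γ ^ n) (χ x) = χ (autFun (α ^ n) x) := by
    intro n
    induction n with
    | zero =>
      refine ⟨(KAut.refl hP).congr (fun x hx => ?_), fun x hx => ?_⟩
      · rw [pow_zero, autFun_one' hx]; rfl
      · rw [pow_zero, pow_zero, autFun_one' hx, autFun_one' (hχP x hx)]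
    | succ n ih =>
      refine ⟨((hg.congr hγg).comp ih.1).congr (fun x hx => ?_), fun x hx => ?_⟩
      · rw [pow_succ', autFun_mul' _ _ hx]; rfl
      · rw [pow_succ', pow_succ', autFun_mul' _ _ (hχP x hx), ih.2 x hx, autFun_mul' _ _ hx,
          ← hγg _ (hχP _ (autFun_mem _ hx)), e _ (autFun_mem _ hx)]
  have hcomp : ∀ x ∈ R, autFun (γ ^ j) (χ x) = χ (autFun α x) := fun x hx => by
    rw [(hpow j).2 x hx, hj1]
  exact extC_of_fix hχ hχR (hpow j).1 (fun x hx => autFun_mem α hx) hcomp hY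
    (hfix α (γ ^ j) hαE (hpow j).1 hj2 hcomp)

end Cfsg.Agent.Lib.Helper15.FusCE
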