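import Mathlib
import Cfsg.Agent.Lib.Helper15.FusCE2

set_option autoImplicit false

/-! Centralizers of normal subsystems: the Alperin-type induction over the normal subsystem. -/

namespace Cfsg.Agent.Lib.Helper15.FusCE

open Cfsg Cfsg.FusionSystem Cfsg.Agent.Lib.Helper87

variable {Ω : Type*} [Group Ω] {S T : Subgroup Ω} {F : FusionSystem S} {E : FusionSystem T}

theorem receptive_of_stronglyClosed [Finite S] {p : ℕ} (hF : F.IsSaturated p)
    (hT : F.StronglyClosed T) : F.IsReceptive T := by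
  obtain ⟨Q, hconj, -, hrec⟩ := hF T hT.1
  obtain ⟨f, hf⟩ := (isConj_iff F T Q).1 hconj
  have hQT : Q ≤ T := by
    intro y hy
    obtain ⟨x, hx, rfl⟩ := hf.surj hy
    exact StronglyClosed.map_mem hT hf.mor hx hx
  have : Finite T := finite_of_le hT.1
  have : Q = T := Subgroup.eq_of_le_of_card_ge hQT hf.card_eq.le
  rwa [this] at hrec

/-- an `F`-conjugate of an `E`-centric subgroup of `T` contains its centralizer in `T`. -/
theorem centralizerIn_le_of_conj (hFrat : FratF E F) {R P : Subgroup Ω} (hRT : R ≤ T)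
    (hRc : E.IsCentric R) {χ : Ω → Ω} (hχ : Iso F R P χ) : centralizerIn T P ≤ P := by
  obtain ⟨a, f₀, ha, hf₀, e⟩ := hFrat R χ hRT hχ.mor
  have hQ := hRc.2 (img R f₀) hf₀.iso_img.isConj
  obtain ⟨ai, hai, haia, haai⟩ := ha.symm
  intro c hc
  obtain ⟨hcT, hcc⟩ := (mem_centralizerIn_iff _ _ _).1 hc
  have hc' : ai c ∈ centralizerIn T (img R f₀) := by
    refine (mem_centralizerIn_iff _ _ _).2 ⟨hai.map_mem hcT, fun q hq => ?_⟩
    obtain ⟨x, hx, rfl⟩ := hf₀.iso_img.surj hq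
    have hqT : f₀ x ∈ T := hf₀.mem hx
    apply ha.mor.inj (T.mul_mem hqT (hai.map_mem hcT)) (T.mul_mem (hai.map_mem hcT) hqT)
    rw [ha.mor.map_mul hqT (hai.map_mem hcT), ha.mor.map_mul (hai.map_mem hcT) hqT, haai c hcT,
      ← e x hx]
    exact hcc _ (hχ.map_mem hx)
  obtain ⟨x0, hx0, e0⟩ := hf₀.iso_img.surj (hQ hc')
  have : c = χ x0 := by rw [e x0 hx0, e0, haai c hcT]
  rw [this]
  exact hχ.map_mem hx0

/-- conjugation by an element of `N_T(P)` is a lift trivial modulo `P`. -/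
theorem kAut_conj [Finite S] (hT : F.StronglyClosed T) {P : Subgroup Ω} (hPS : P ≤ S)
    (hcP : centralizerIn T P ≤ P) {s : Ω} (hsT : s ∈ T) (hsN : s ∈ normalizerIn S P) :
    KAut F P (fun x => s * x * s⁻¹) := by
  have hDS : P ⊔ centralizerIn S P ≤ S := sup_le hPS (centralizerIn_le S P)
  have : Finite ↥(P ⊔ centralizerIn S P) := finite_of_le hDS
  obtain ⟨hsS, hsP⟩ := (mem_normalizerIn_iff _ _ _).1 hsN
  have hm : Mor F (P ⊔ centralizerIn S P) (fun x => s * x * s⁻¹) := mor_conj F hDS hsS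
  have hC : ∀ c ∈ centralizerIn S P, s * c * s⁻¹ ∈ centralizerIn S P := by
    intro c hc
    obtain ⟨hcS, hcc⟩ := (mem_centralizerIn_iff _ _ _).1 hc
    refine (mem_centralizerIn_iff _ _ _).2 ⟨S.mul_mem (S.mul_mem hsS hcS) (S.inv_mem hsS),
      fun x hx => ?_⟩
    have hx' : s⁻¹ * x * s ∈ P := by
      rw [hsP]
      have : s * (s⁻¹ * x * s) * s⁻¹ = x := by group
      rwa [this]
    have h1 := hcc _ hx'
    calc x * (s * c * s⁻¹) = s * ((s⁻¹ * x * s) * c) * s⁻¹ := by group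
      _ = s * (c * (s⁻¹ * x * s)) * s⁻¹ := by rw [h1]
      _ = s * c * s⁻¹ * x := by group
  refine ⟨hm.iso_self (hm.map_sup_mem (fun x hx => le_sup_left (a := P) ((hsP x).1 hx))
    (fun c hc => le_sup_right (a := P) (hC c hc))), fun x hx => (hsP x).1 hx, fun c hc => ?_⟩
  apply hcP
  have hcS : c ∈ S := centralizerIn_le S P hc
  have h1 : c⁻¹ * (s * c * s⁻¹) ∈ centralizerIn S P :=
    Subgroup.mul_mem _ (Subgroup.inv_mem _ hc) (hC c hc)
  refine (mem_centralizerIn_iff _ _ _).2 ⟨?_, ((mem_centralizerIn_iff _ _ _).1 h1).2⟩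
  have h2 : c⁻¹ * (s * c * s⁻¹) = (c⁻¹ * s * c⁻¹⁻¹) * s⁻¹ := by group
  rw [h2]
  exact T.mul_mem (StronglyClosed.conj_mem hT (S.inv_mem hcS) hsT) (T.inv_mem hsT)

theorem autT_le_mGrp [Finite S] (hT : F.StronglyClosed T) {R P : Subgroup Ω} (hRT : R ≤ T)
    (hPS : P ≤ S) (hcP : centralizerIn T P ≤ P) {χ : Ω → Ω} (hχ : Mor F (normalizerIn S R) χ)
    (hχR : ∀ y, y ∈ P ↔ ∃ x ∈ R, χ x = y)
    (hχN : ∀ x ∈ normalizerIn S R, χ x ∈ normalizerIn S P) :
    autInducedBy T R ≤ mGrp E F R P χ hPS (fun x hx => (hχR _).2 ⟨x, hx, rfl⟩) := by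
  intro α hα
  obtain ⟨t, ht, et⟩ := (mem_autInducedBy_iff T R α).1 hα
  have htN : t ∈ normalizerIn S R := ⟨hT.1 ht, mem_normalizer_of_induces et⟩
  have hRN : R ≤ normalizerIn S R := le_normalizerIn (hRT.trans hT.1)
  refine ⟨autInducedBy_le_autGroup E hRT hα, _,
    kAut_conj hT hPS hcP (StronglyClosed.map_mem hT hχ htN ht) (hχN t htN), fun x hx => ?_⟩
  rw [autFun_apply α hx, et, hχ.map_conj htN (hRN hx)]

/-- the group `mGrp` is normalized by `Aut_E(R)`. -/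
theorem mGrp_normal [Finite S] (hsub : E.IsSubsystemOf F) {R P : Subgroup Ω} (hRT : R ≤ T)
    (hP : F.IsReceptive P) {χ : Ω → Ω} (hχ : Iso F R P χ) {l a : MulAut R}
    (hl : l ∈ E.autGroup R) (ha : a ∈ mGrp E F R P χ hP.1 (fun _ hx => hχ.map_mem hx)) :
    l * a * l⁻¹ ∈ mGrp E F R P χ hP.1 (fun _ hx => hχ.map_mem hx) := by
  obtain ⟨haE, g, hg, e⟩ := ha
  have hPD : P ≤ P ⊔ centralizerIn S P := le_sup_left
  have hCD : centralizerIn S P ≤ P ⊔ centralizerIn S P := le_sup_right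
  have hDS : P ⊔ centralizerIn S P ≤ S := sup_le hP.1 (centralizerIn_le S P)
  have : Finite ↥(P ⊔ centralizerIn S P) := finite_of_le hDS
  have hlE : Iso E R R (autFun l) := iso_autFun ((mem_autGroup_iff E hRT l).1 hl)
  have hlF : Iso F R R (autFun l) := ⟨Mor.of_subsystem hsub hlE.1, hlE.2⟩
  obtain ⟨χi, hχi, hχiχ, -⟩ := hχ.symm
  have hls : Iso F P P (χ ∘ (autFun l ∘ χi)) := (hχi.trans hlF).trans hχ
  obtain ⟨m, hm, hmP, hmC⟩ := receptive_extend_centralizer hP hls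
  have hmiso : Iso F (P ⊔ centralizerIn S P) (P ⊔ centralizerIn S P) m :=
    hm.iso_self (hm.map_sup_mem (fun x hx => by rw [hmP x hx]; exact hPD (hls.map_mem hx))
      (fun c hc => hCD (hmC c hc)))
  obtain ⟨mi, hmi, hmim, hmmi⟩ := hmiso.symm
  have hmχ : ∀ x ∈ R, m (χ x) = χ (autFun l x) := fun x hx => by
    rw [hmP _ (hχ.map_mem hx)]
    show χ (autFun l (χi (χ x))) = _
    rw [hχiχ x hx]
  have hmiχ : ∀ x ∈ R, mi (χ x) = χ (autFun l⁻¹ x) := fun x hx => by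
    have h1 := hmχ _ (autFun_mem l⁻¹ hx)
    rw [autFun_autFun_inv l hx] at h1
    rw [← h1, hmim _ (hPD (hχ.map_mem (autFun_mem l⁻¹ hx)))]
  have hmPP : ∀ x ∈ P, m x ∈ P := fun x hx => by rw [hmP x hx]; exact hls.map_mem hx
  have hmiPP : ∀ x ∈ P, mi x ∈ P := fun x hx => by
    obtain ⟨r, hr, rfl⟩ := hχ.surj hx
    rw [hmiχ r hr]
    exact hχ.map_mem (autFun_mem _ hr)
  refine ⟨Subgroup.mul_mem _ (Subgroup.mul_mem _ hl haE) (Subgroup.inv_mem _ hl), _,
    hg.conj hmiso hmi hmPP hmiPP hmmi, fun x hx => ?_⟩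
  show m (g (mi (χ x))) = _
  rw [hmiχ x hx, e _ (autFun_mem _ hx), hmχ _ (autFun_mem _ (autFun_mem _ hx)),
    autFun_mul' _ _ hx, autFun_mul' _ _ (autFun_mem _ hx)]

/-- hypothesis on `Y`: lifts of order prime to `p` fix the transported `Y`. -/
def FixHyp (p : ℕ) (E : FusionSystem T) (F : FusionSystem S) (Y : Subgroup Ω) : Prop :=
  ∀ (R P : Subgroup Ω) (χ : Ω → Ω) (α : MulAut R) (γ : MulAut ↥(P ⊔ centralizerIn S P)),
    R ≤ T → F.IsReceptive P → Mor F (R ⊔ centralizerIn S R) χ →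
    (∀ y, y ∈ P ↔ ∃ x ∈ R, χ x = y) → α ∈ E.autGroup R → KAut F P (autFun γ) →
    (orderOf γ).Coprime p → (∀ x ∈ R, autFun γ (χ x) = χ (autFun α x)) →
    ∀ v ∈ Y, autFun γ (χ v) = χ v

theorem autT_le_extGrp {R Y : Subgroup Ω} (hTS : T ≤ S) (hY : Y ≤ centralizerIn S T)
    (hRY : R ⊔ Y ≤ S) : autInducedBy T R ≤ extGrp F Y R hRY := by
  intro α hα
  obtain ⟨t, ht, et⟩ := (mem_autInducedBy_iff T R α).1 hα
  refine ⟨fun x => t * x * t⁻¹, mor_conj F hRY (hTS ht), fun x hx => ?_, fun v hv => ?_⟩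
  · rw [autFun_apply α hx, et]
  · have := ((mem_centralizerIn_iff _ _ _).1 (hY hv)).2 t ht
    show t * v * t⁻¹ = v
    rw [this]
    group

/-- the Frattini step. -/
theorem aut_le_extGrp_of_lt [Finite S] {p : ℕ} [Fact p.Prime] (hS : IsPGroup p S)
    (hFs : F.IsSaturated p) (hsub : E.IsSubsystemOf F) (hT : F.StronglyClosed T)
    (hFrat : FratF E F) {Y : Subgroup Ω} (hY : Y ≤ centralizerIn S T) (hfix : FixHyp p E F Y)
    {R : Subgroup Ω} (hfa : E.IsFullyAutomized p R) (hrec : E.IsReceptive R)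
    (IH : ∀ (P' : Subgroup Ω) (f' : Ω → Ω), Nat.card R < Nat.card P' → Mor E P' f' →
      ExtC F Y P' f') (hc : centralizerIn T R ≤ R) (hlt : R < T) (hRY : R ⊔ Y ≤ S) :
    E.autGroup R ≤ extGrp F Y R hRY := by
  have hTS : T ≤ S := hT.1
  have : Finite T := finite_of_le hTS
  have hTp : IsPGroup p T := hS.to_le hTS
  have hRT : R ≤ T := hlt.le
  have hRS : R ≤ S := hRT.trans hTS
  have : Finite R := finite_of_le hRS
  have hYR : Y ≤ centralizerIn S R := hY.trans (centralizerIn_anti S hRT)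
  have hsyl : IsSylIn p (autInducedBy T R) (E.autGroup R) := (fullyAutomized_iff E p hRT).1 hfa
  have hKH := autT_le_extGrp (F := F) (R := R) hTS hY hRY
  obtain ⟨P, hRP, hPn⟩ := exists_fullyNormalized_conj F hRS
  obtain ⟨χ, hχ, hχR, hχN⟩ := exists_mor_normalizer_of_fullyNormalized hS hFs hPn hRP
  have hPrec := fullyNormalized_receptive hS hFs hPn
  have hRN : R ≤ normalizerIn S R := le_normalizerIn hRS
  have hχ' : Mor F (R ⊔ centralizerIn S R) χ :=
    hχ.mono (sup_le hRN (centralizerIn_le_normalizerIn S R))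
  have hiso : Iso F R P χ := ⟨hχ.mono hRN, hχR⟩
  have hcP : centralizerIn T P ≤ P :=
    centralizerIn_le_of_conj hFrat hRT (Helper86.centric_of_receptive hrec hc) hiso
  have hKM := autT_le_mGrp (E := E) hT hRT hPrec.1 hcP hχ hχR hχN
  have hML := mGrp_le_extGrp (E := E) hPrec.1 hRY hχ' hχR hYR hsyl hKM hKH
    (fun α γ hα hγ ho hcm => hfix R P χ α γ hRT hPrec hχ' hχR hα hγ ho hcm)
  have hsylM := hsyl.mono hKM (fun α hα => hα.1)
  intro l hl
  have hLM : (autInducedBy T R).map (MulAut.conj l).toMonoidHom ≤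
      mGrp E F R P χ hPrec.1 (fun x hx => (hχR _).2 ⟨x, hx, rfl⟩) := by
    rintro _ ⟨κ, hκ, rfl⟩
    exact mGrp_normal hsub hRT hPrec hiso hl (hKM hκ)
  obtain ⟨μ, hμ, hμL⟩ := hsylM.exists_conj hLM (hsyl.2.1.map _)
  have hν : ∀ κ ∈ autInducedBy T R, (μ * l) * κ * (μ * l)⁻¹ ∈ autInducedBy T R := by
    intro κ hκ
    have h1 := hμL _ ⟨κ, hκ, rfl⟩
    have h2 : (μ * l) * κ * (μ * l)⁻¹ = μ * (MulAut.conj l).toMonoidHom κ * μ⁻¹ := by
      show _ = μ * (l * κ * l⁻¹) * μ⁻¹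
      group
    rw [h2]
    exact h1
  have hνE : μ * l ∈ E.autGroup R := Subgroup.mul_mem _ hμ.1 hl
  have hνiso : Iso E R R (autFun (μ * l)) := iso_autFun ((mem_autGroup_iff E hRT _).1 hνE)
  obtain ⟨ν', hν', hν'R⟩ := receptive_extend hrec hνiso (normalizerIn T R) (normalizerIn_le T R)
    inf_le_right (fun g hg => by
      have hκ := (conjToAut T R ⟨g, hg⟩).2
      obtain ⟨k, hk, ek⟩ := (mem_autInducedBy_iff T R _).1 (hν _ hκ)
      refine ⟨k, hk, fun x hx => ?_⟩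
      have h1 := ek ((μ * l) ⟨x, hx⟩)
      rw [MulAut.mul_apply, MulAut.inv_apply_self, MulAut.mul_apply] at h1
      rw [autFun_apply _ hx, ← h1, ← autFun_coe]
      rfl)
  have hlt' : R < R ⊔ normalizerIn T R :=
    lt_of_lt_of_le (Helper89.lt_normalizerIn hTp hlt) le_sup_right
  have : Finite ↥(R ⊔ normalizerIn T R) := finite_of_le (hν'.le.trans hTS)
  have h3 : μ * l ∈ extGrp F Y R hRY :=
    ((IH _ ν' (Helper89.card_lt_of_lt hlt') hν').mono le_sup_left).congr hν'R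
  have h4 : l = μ⁻¹ * (μ * l) := by group
  rw [h4]
  exact Subgroup.mul_mem _ (Subgroup.inv_mem _ (hML hμ)) h3

/-- the top case, from the extension condition. -/
theorem aut_le_extGrp_top [Finite S] {p : ℕ} [Fact p.Prime]
    (hE : E.IsNormalIn F p) {Y : Subgroup Ω} (hY : Y ≤ centralizerIn S T) (hfix : FixHyp p E F Y)
    (hfa : E.IsFullyAutomized p T) (hRY : T ⊔ Y ≤ S) :
    E.autGroup T ≤ extGrp F Y T hRY := by
  obtain ⟨⟨-, hFs, hinv⟩, hN1⟩ := hE
  obtain ⟨-, hT, -, -⟩ := (isInvariantIn_iff E F).1 hinv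
  have hTS : T ≤ S := hT.1
  have hDS : T ⊔ centralizerIn S T ≤ S := sup_le hTS (centralizerIn_le S T)
  have hsyl : IsSylIn p (autInducedBy T T) (E.autGroup T) := (fullyAutomized_iff E p le_rfl).1 hfa
  have hKH := autT_le_extGrp (F := F) (R := T) hTS hY hRY
  have hrec := receptive_of_stronglyClosed hFs hT
  have hχR : ∀ y, y ∈ T ↔ ∃ x ∈ T, id x = y :=
    fun y => ⟨fun hy => ⟨y, hy, rfl⟩, by rintro ⟨x, hx, rfl⟩; exact hx⟩
  have hAM : E.autGroup T ≤ mGrp E F T T id hTS (fun x hx => (hχR _).2 ⟨x, hx, rfl⟩) := by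
    intro α hα
    obtain ⟨β, hβ, h1, h2⟩ := hN1 α hα
    have hβx : ∀ x (hx : x ∈ T), autFun β x = autFun α x := fun x hx => by
      rw [autFun_apply β (le_sup_left (a := T) hx), autFun_apply α hx]
      exact h1 ⟨x, hx⟩
    refine ⟨hα, autFun β, ⟨iso_autFun ((mem_autGroup_iff F hDS β).1 hβ), fun x hx => ?_,
      fun c hc => ?_⟩, fun x hx => hβx x hx⟩
    · rw [hβx x hx]
      exact autFun_mem α hx
    · rw [autFun_apply β (le_sup_right (a := T) hc)]
      exact (h2 ⟨c, le_sup_right (a := T) hc⟩ hc).1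
  exact hAM.trans (mGrp_le_extGrp (E := E) hTS hRY (mor_id F hDS) hχR hY hsyl
    ((autInducedBy_le_autGroup E le_rfl).trans hAM) hKH
    (fun α γ hα hγ ho hcm => hfix T T id α γ le_rfl hrec (mor_id F hDS) hχR hα hγ ho hcm))

/-- every map of the normal subsystem `E` extends to a map of `F` fixing `Y`. -/
theorem main_ext [Finite S] {p : ℕ} [Fact p.Prime] (hS : IsPGroup p S)
    (hE : E.IsNormalIn F p) {Y : Subgroup Ω} (hY : Y ≤ centralizerIn S T)
    (hfix : FixHyp p E F Y) : ∀ (P : Subgroup Ω) (f : Ω → Ω), Mor E P f → ExtC F Y P f := by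
  have hE' := hE
  obtain ⟨⟨hEs, hFs, hinv⟩, -⟩ := hE
  obtain ⟨hsub, hT, -, hFrat⟩ := (isInvariantIn_iff E F).1 hinv
  have hTS : T ≤ S := hT.1
  have : Finite T := finite_of_le hTS
  have hTp : IsPGroup p T := hS.to_le hTS
  apply Helper89.alperin_induction hTp E hEs (fun P f => ExtC F Y P f)
  · intro P f g h e
    exact h.congr e
  · intro P R f _ h hRP
    exact h.mono hRP
  · intro P Q f g _ _ hPQ h1 h2
    exact h1.comp h2 hPQ
  · intro P Q f g hf _ hgf h1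
    obtain ⟨g', hg', e⟩ := h1.inv hf.2
    refine hg'.congr (fun y hy => ?_)
    obtain ⟨x, hx, rfl⟩ := hf.surj hy
    rw [e x hx, hgf x hx]
  · intro R hfa hrec IH f hf
    have hRT : R ≤ T := hf.le
    have hRY : R ⊔ Y ≤ S := sup_le (hRT.trans hTS) (hY.trans (centralizerIn_le S T))
    by_cases hc : centralizerIn T R ≤ R
    · obtain ⟨l, hl, el⟩ := hf.exists_aut
      have key : l ∈ extGrp F Y R hRY := by
        rcases eq_or_lt_of_le hRT with rfl | hlt
        · exact aut_le_extGrp_top hE' hY hfix hfa hRY hl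
        · exact aut_le_extGrp_of_lt hS hFs hsub hT hFrat hY hfix hfa hrec IH hc hlt hRY hl
      exact ExtC.congr key (fun x hx => by rw [autFun_apply l hx, el])
    · obtain ⟨f', hf', hff', -⟩ := receptive_extend_centralizer hrec hf
      have hlt : R < R ⊔ centralizerIn T R :=
        lt_of_le_of_ne le_sup_left (fun he => hc (le_sup_right.trans he.ge))
      have : Finite ↥(R ⊔ centralizerIn T R) := finite_of_le (hf'.le.trans hTS)
      exact ((IH _ f' (Helper89.card_lt_of_lt hlt) hf').mono le_sup_left).congr hff'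

end Cfsg.Agent.Lib.Helper15.FusCE
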