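import Mathlib
import Cfsg.Agent.Lib.Helper15.FusCE3

set_option autoImplicit false

/-! The focal subgroup of `C_F(T)` centralizes a normal subsystem over `T`. -/

namespace Cfsg.Agent.Lib.Helper15.FusCE

open Cfsg Cfsg.FusionSystem Cfsg.Agent.Lib.Helper87

variable {Ω : Type*} [Group Ω] {S T : Subgroup Ω} {F : FusionSystem S} {E : FusionSystem T}

theorem fixHyp_focal [Finite S] {p : ℕ} [Fact p.Prime] (hS : IsPGroup p S)
    (hF : F.IsSaturated p) {x : Ω} (hx : x ∈ centralizerIn S T) {bb : Ω → Ω}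
    (hbb : Mor F (T ⊔ Subgroup.zpowers x) bb) (hbbT : ∀ t ∈ T, bb t = t) :
    FixHyp p E F (Subgroup.zpowers (x⁻¹ * bb x)) := by
  intro R P χ α γ hRT hPrec hχ hχR _ hγ ho _ v hv
  have hQ : ∀ y, y ∈ T ↔ ∃ r ∈ T, bb r = y := fun y =>
    ⟨fun hy => ⟨y, hy, hbbT y hy⟩, by rintro ⟨r, hr, rfl⟩; rw [hbbT r hr]; exact hr⟩
  have hbx : bb x ∈ centralizerIn S T :=
    hbb.map_mem_centralizerIn le_sup_left hQ (mem_sup_zp T x) ((mem_centralizerIn_iff _ _ _).1 hx).2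
  have hanti := centralizerIn_anti S hRT
  have hRD : R ≤ R ⊔ centralizerIn S R := le_sup_left
  have hCD : centralizerIn S R ≤ R ⊔ centralizerIn S R := le_sup_right
  have hxD : x ∈ R ⊔ centralizerIn S R := hCD (hanti hx)
  have hbxD : bb x ∈ R ⊔ centralizerIn S R := hCD (hanti hbx)
  have hV : R ⊔ Subgroup.zpowers x ≤ R ⊔ centralizerIn S R := sz_le hRD hxD
  have hbb' : Mor F (R ⊔ Subgroup.zpowers x) bb := hbb.mono (sup_le_sup_right hRT _)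
  have hχV : Mor F (R ⊔ Subgroup.zpowers x) χ := hχ.mono hV
  have hisoV := Mor.iso_sz hχV hχR
  obtain ⟨χi, hχi, hχiχ, -⟩ := hisoV.symm
  have hbbD : ∀ r ∈ R ⊔ Subgroup.zpowers x, bb r ∈ R ⊔ centralizerIn S R :=
    Mor.map_sz_mem hbb' (fun r hr => by rw [hbbT r (hRT hr)]; exact hRD hr) hbxD
  have hθ : Mor F (P ⊔ Subgroup.zpowers (χ x)) (χ ∘ (bb ∘ χi)) :=
    (hχi.mor.comp hbb' (fun r hr => hχi.map_mem hr)).comp hχ
      (fun r hr => hbbD _ (hχi.map_mem hr))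
  have hθP : ∀ r ∈ P, (χ ∘ (bb ∘ χi)) r = r := by
    intro r hr
    obtain ⟨r0, hr0, rfl⟩ := (hχR r).1 hr
    show χ (bb (χi (χ r0))) = χ r0
    rw [hχiχ r0 (le_sup_left (a := R) hr0), hbbT r0 (hRT hr0)]
  have hχx : χ x ∈ centralizerIn S P :=
    hχ.map_mem_centralizerIn hRD hχR hxD ((mem_centralizerIn_iff _ _ _).1 (hanti hx)).2
  have h1 := hγ.fix_focal hS hF hPrec ho hχx hθ hθP
  have h2 : (χ ∘ (bb ∘ χi)) (χ x) = χ (bb x) := by
    show χ (bb (χi (χ x))) = _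
    rw [hχiχ x (mem_sup_zp R x)]
  rw [h2] at h1
  have hyD : x⁻¹ * bb x ∈ R ⊔ centralizerIn S R := Subgroup.mul_mem _ (Subgroup.inv_mem _ hxD) hbxD
  have h3 : χ (x⁻¹ * bb x) = (χ x)⁻¹ * χ (bb x) := by
    rw [hχ.map_mul (Subgroup.inv_mem _ hxD) hbxD, hχ.map_inv hxD]
  have hχyD : χ (x⁻¹ * bb x) ∈ P ⊔ centralizerIn S P := by
    rw [h3]
    exact le_sup_right (a := P) (Subgroup.mul_mem _ (Subgroup.inv_mem _ hχx)
      (hχ.map_mem_centralizerIn hRD hχR hbxD ((mem_centralizerIn_iff _ _ _).1 (hanti hbx)).2))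
  obtain ⟨k, rfl⟩ := Subgroup.mem_zpowers_iff.1 hv
  rw [Mor.map_zpow' hχ hyD k, Mor.map_zpow' hγ.iso.mor hχyD k, h3, h1]

/-- `foc(C_F(T)) ≤ C_S(E)`, elementwise form. -/
theorem focal_ext [Finite S] {p : ℕ} [Fact p.Prime] (hS : IsPGroup p S)
    (hE : E.IsNormalIn F p) {x : Ω} (hx : x ∈ centralizerIn S T) {bb : Ω → Ω}
    (hbb : Mor F (T ⊔ Subgroup.zpowers x) bb) (hbbT : ∀ t ∈ T, bb t = t) :
    Subgroup.zpowers (x⁻¹ * bb x) ≤ centralizerIn S T ∧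
      ∀ (P : Subgroup Ω) (f : Ω → Ω), Mor E P f →
        ExtC F (Subgroup.zpowers (x⁻¹ * bb x)) P f := by
  have hQ : ∀ y, y ∈ T ↔ ∃ r ∈ T, bb r = y := fun y =>
    ⟨fun hy => ⟨y, hy, hbbT y hy⟩, by rintro ⟨r, hr, rfl⟩; rw [hbbT r hr]; exact hr⟩
  have hbx : bb x ∈ centralizerIn S T :=
    hbb.map_mem_centralizerIn le_sup_left hQ (mem_sup_zp T x) ((mem_centralizerIn_iff _ _ _).1 hx).2
  have hY : Subgroup.zpowers (x⁻¹ * bb x) ≤ centralizerIn S T :=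
    (Subgroup.zpowers_le).2 (Subgroup.mul_mem _ (Subgroup.inv_mem _ hx) hbx)
  exact ⟨hY, main_ext hS hE hY (fixHyp_focal hS hE.1.2.1 hx hbb hbbT)⟩

end Cfsg.Agent.Lib.Helper15.FusCE
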