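import Mathlib
import Cfsg.Agent.S0622
import Cfsg.Agent.S0623
import Cfsg.Agent.S0607
import Cfsg.Agent.Lib.Helper14.StableClosure
import Cfsg.Agent.Lib.Helper14.Cores
import Cfsg.Agent.Lib.Helper1.Coprime2
import Cfsg.Agent.Lib.Helper15.ZJBridge

set_option autoImplicit false

/-! The stable normal closure `W(S)` is normal in action-`p`-stable groups of characteristic `p`. -/

namespace Cfsg.Agent.Lib.Helper15.WS

open Cfsg.Agent.Lib.Helper15.ZJ Cfsg.Agent.Lib.Helper40
open scoped commutatorElement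

variable {G : Type*} [Group G]

/-- `W(S)` viewed in `G`. -/
noncomputable abbrev WW (p : ℕ) (S : Subgroup G) : Subgroup G :=
  (Cfsg.stableNormalClosure p ↥S).map S.subtype

theorem WW_le_ZE [Finite G] (p : ℕ) (S : Subgroup G) : WW p S ≤ ZE p S := by
  rw [← omegaCenterThompson_map_eq]
  exact Subgroup.map_mono (Cfsg.Agent.Lib.Helper14.stableNormalClosure_le_omegaCenterThompson p ↥S)

theorem WW_le [Finite G] (p : ℕ) (S : Subgroup G) : WW p S ≤ S := Subgroup.map_subtype_le _

theorem WW_PE [Finite G] (p : ℕ) (S : Subgroup G) : PE p (WW p S) :=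
  (ZE_PE p S).mono (WW_le_ZE p S)

theorem normalizer_le_normalizer_WW [Finite G] {p : ℕ} [Fact p.Prime] {S : Subgroup G}
    (hS : IsPGroup p S) :
    Subgroup.normalizer (S : Set G) ≤ Subgroup.normalizer (WW p S : Set G) := by
  have := (Cfsg.Agent.S0622.result (S := ↥S) hS).1
  exact Cfsg.Agent.Lib.Helper1.normalizer_le_normalizer_map_of_characteristic S _

/-- ambient form of S0623 -/
theorem quad_central [Finite G] {p : ℕ} [Fact p.Prime] {S : Subgroup G} (hS : IsPGroup p S)
    {x : G} (hx : x ∈ S)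
    (hq : ⁅⁅WW p S, Subgroup.zpowers x⁆, Subgroup.zpowers x⁆ = ⊥) :
    ∀ w ∈ WW p S, w * x = x * w := by
  have hz : (Subgroup.zpowers (⟨x, hx⟩ : S)).map S.subtype = Subgroup.zpowers x := by
    rw [MonoidHom.map_zpowers]
    rfl
  have h1 : ⁅⁅Cfsg.stableNormalClosure p ↥S, Subgroup.zpowers (⟨x, hx⟩ : S)⁆,
      Subgroup.zpowers (⟨x, hx⟩ : S)⁆ = ⊥ := by
    rw [← Subgroup.map_eq_bot_iff_of_injective _ S.subtype_injective, Subgroup.map_commutator,
      Subgroup.map_commutator, hz]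
    exact hq
  have h2 := Cfsg.Agent.S0623.result hS _ h1
  have h3 : ⁅WW p S, Subgroup.zpowers x⁆ = ⊥ := by
    rw [← hz, ← Subgroup.map_commutator, h2, Subgroup.map_bot]
  rw [Subgroup.commutator_eq_bot_iff_le_centralizer] at h3
  intro w hw
  exact (Subgroup.mem_centralizer_iff.1 (h3 hw) x (Subgroup.mem_zpowers x)).symm

theorem PE_closure {e : ℕ} {s : Set G} (hc : ∀ x ∈ s, ∀ y ∈ s, x * y = y * x)
    (he : ∀ x ∈ s, x ^ e = 1) : PE e (Subgroup.closure s) := by
  have h1 : Subgroup.closure s ≤ Subgroup.centralizer s := by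
    rw [Subgroup.closure_le]
    intro x hx
    rw [SetLike.mem_coe, Subgroup.mem_centralizer_iff]
    intro y hy
    exact hc y hy x hx
  have h2 : Subgroup.closure s ≤ Subgroup.centralizer (Subgroup.closure s : Set G) := by
    rw [Subgroup.closure_le]
    intro x hx
    rw [SetLike.mem_coe, Subgroup.mem_centralizer_iff]
    intro y hy
    exact (Subgroup.mem_centralizer_iff.1 (h1 hy) x hx).symm
  have hcc : ∀ x ∈ Subgroup.closure s, ∀ y ∈ Subgroup.closure s, x * y = y * x := by
    intro x hx y hy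
    exact (Subgroup.mem_centralizer_iff.1 (h2 hy) x hx)
  refine ⟨hcc, ?_⟩
  let E : Subgroup G :=
    { carrier := {x | x ∈ Subgroup.closure s ∧ x ^ e = 1}
      one_mem' := ⟨Subgroup.one_mem _, one_pow _⟩
      mul_mem' := by
        rintro x y ⟨hx, hx'⟩ ⟨hy, hy'⟩
        refine ⟨Subgroup.mul_mem _ hx hy, ?_⟩
        have : Commute x y := hcc x hx y hy
        rw [this.mul_pow, hx', hy', one_mul]
      inv_mem' := by
        rintro x ⟨hx, hx'⟩
        exact ⟨Subgroup.inv_mem _ hx, by rw [inv_pow, hx', inv_one]⟩ }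
  have hE : Subgroup.closure s ≤ E := by
    rw [Subgroup.closure_le]
    intro x hx
    exact ⟨Subgroup.subset_closure hx, he x hx⟩
  intro a ha
  exact (hE ha).2

theorem commutator_sup_centralizer {U K C : Subgroup G} [C.Normal]
    (hC : C ≤ Subgroup.centralizer (U : Set G)) : ⁅U, K ⊔ C⁆ = ⁅U, K⁆ := by
  apply le_antisymm
  · rw [Subgroup.commutator_le]
    intro u hu x hx
    rw [Subgroup.mem_sup_of_normal_right] at hx
    obtain ⟨k, hk, c, hc, rfl⟩ := hx
    have h1 : c * u⁻¹ = u⁻¹ * c :=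
      (Subgroup.mem_centralizer_iff.1 (hC hc) u⁻¹ (U.inv_mem hu)).symm
    have h2 : ⁅u, k * c⁆ = ⁅u, k⁆ := by
      rw [commutatorElement_def, commutatorElement_def]
      calc u * (k * c) * u⁻¹ * (k * c)⁻¹ = u * k * (c * u⁻¹) * c⁻¹ * k⁻¹ := by group
        _ = u * k * u⁻¹ * k⁻¹ := by rw [h1]; group
    rw [h2]
    exact Subgroup.commutator_mem_commutator hu hk
  · exact Subgroup.commutator_mono le_rfl le_sup_left

theorem normalizer_le_normalizer_sSup_AE [Finite G] (e : ℕ) (T : Subgroup G) :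
    Subgroup.normalizer (T : Set G) ≤ Subgroup.normalizer ((sSup (AE e T) : Subgroup G) : Set G) := by
  intro g hg
  apply mem_normalizer_of_cj_eq
  have h1 : cj g T = T := cj_eq_of_mem_normalizer hg
  have h2 := AE_map (e := e) (T := T) (MulAut.conj g).toMonoidHom (MulAut.conj g).injective.injOn
  rw [show T.map (MulAut.conj g).toMonoidHom = T from h1] at h2
  conv_rhs => rw [h2]
  rw [sSup_image]
  exact (Subgroup.gc_map_comap (MulAut.conj g).toMonoidHom).l_sSup

theorem isPGroup_of_forall_coprime [Finite G] {p : ℕ} [Fact p.Prime]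
    (C : Subgroup G) (h : ∀ c ∈ C, (orderOf c).Coprime p → c = 1) : IsPGroup p ↥C := by
  intro g
  have hpos : orderOf (g : G) ≠ 0 := (orderOf_pos (g : G)).ne'
  obtain ⟨k, m, hm, hkm⟩ := Nat.exists_eq_pow_mul_and_not_dvd hpos p (Fact.out : p.Prime).ne_one
  refine ⟨k, ?_⟩
  have h1 : orderOf ((g : G) ^ (p ^ k)) = m := by
    rw [orderOf_pow' _ (pow_ne_zero k (Fact.out : p.Prime).ne_zero), hkm,
      Nat.gcd_eq_right (Dvd.intro _ rfl),
      Nat.mul_div_cancel_left _ (pow_pos (Fact.out : p.Prime).pos k)]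
  have h2 : (g : G) ^ (p ^ k) = 1 := by
    apply h _ (C.pow_mem g.2 _)
    rw [h1]
    exact ((Nat.Prime.coprime_iff_not_dvd Fact.out).2 hm).symm
  exact Subtype.ext h2

/-- Step 1: `N_G(J(S))` normalizes `W(S)`. -/
theorem normalizer_J_le [Finite G] {p : ℕ} [Fact p.Prime] (S : Sylow p G)
    (hc : Subgroup.centralizer (Cfsg.pCore p G : Set G) ≤ Cfsg.pCore p G)
    (h3 : ∀ (V : Subgroup ↥(Subgroup.normalizer
        (Cfsg.thompsonSubgroupOf p (S : Subgroup G) : Set G))) [V.Normal],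
      V.map (Subgroup.normalizer (Cfsg.thompsonSubgroupOf p (S : Subgroup G) : Set G)).subtype ≤
        (Cfsg.omegaCenterThompson p ↥(S : Subgroup G)).map (S : Subgroup G).subtype →
      Cfsg.IsPStableOn p V) :
    Subgroup.normalizer (Cfsg.thompsonSubgroupOf p (S : Subgroup G) : Set G) ≤
      Subgroup.normalizer (WW p (S : Subgroup G) : Set G) := by
  set L := Subgroup.normalizer (Cfsg.thompsonSubgroupOf p (S : Subgroup G) : Set G) with hL
  have hSL : (S : Subgroup G) ≤ L := by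
    rw [hL, thompsonSubgroupOf_eq]
    exact Subgroup.le_normalizer.trans (normalizer_le_normalizer_sSup_AE p _)
  have hτ : ∀ X : Subgroup ↥(S : Subgroup G),
      (X.map (Subgroup.inclusion hSL)).map L.subtype = X.map (S : Subgroup G).subtype := by
    intro X
    rw [Subgroup.map_map]
    rfl
  have hQS : Cfsg.pCore p G ≤ (S : Subgroup G) := Cfsg.Agent.Lib.Helper51.pCore_le_sylow p S
  have hstab : Cfsg.IsStableEmbedding p (Subgroup.inclusion hSL) := by
    refine ⟨Subgroup.inclusion_injective hSL, inferInstance, ⟨S.subtype hSL, ?_⟩, ?_, ?_, ?_⟩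
    · rw [Sylow.coe_subtype]
      ext x
      rw [Subgroup.mem_subgroupOf, MonoidHom.mem_range]
      constructor
      · intro hx
        exact ⟨⟨x, hx⟩, rfl⟩
      · rintro ⟨y, rfl⟩
        exact y.2
    · have hQL : (Cfsg.pCore p G).subgroupOf L ≤ Cfsg.pCore p ↥L := by
        apply Cfsg.Agent.Lib.Helper51.le_pCore p
        · have := Cfsg.Agent.Lib.Helper51.pCore_normal (G := G) p
          infer_instance
        · exact (Cfsg.Agent.Lib.Helper51.pCore_isPGroup (G := G) p).comap_subtype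
      intro x hx
      apply hQL
      rw [Subgroup.mem_subgroupOf]
      apply hc
      rw [Subgroup.mem_centralizer_iff]
      intro q hq
      have h1 : (⟨q, hSL (hQS hq)⟩ : L) ∈ Cfsg.pCore p ↥L := hQL hq
      exact congrArg Subtype.val (Subgroup.mem_centralizer_iff.1 hx _ h1)
    · constructor
      rintro _ ⟨j, hj, rfl⟩ n
      have h1 : ((j : (S : Subgroup G)) : G) ∈ Cfsg.thompsonSubgroupOf p (S : Subgroup G) :=
        ⟨j, hj, rfl⟩
      obtain ⟨j', hj', hjj⟩ := (Subgroup.mem_normalizer_iff.1 n.2 _).1 h1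
      exact ⟨j', hj', Subtype.ext hjj⟩
    · intro V _ hV
      apply h3 V
      calc V.map L.subtype ≤ ((Cfsg.omegaCenterThompson p ↥(S : Subgroup G)).map
            (Subgroup.inclusion hSL)).map L.subtype := Subgroup.map_mono hV
        _ = _ := hτ _
  have hn := Cfsg.Agent.Lib.Helper14.IsStableEmbedding.stableNormalClosure_map_normal hstab
  intro n hn'
  apply Repl.mem_normalizer_of_conj
  intro w hw
  have hWW : WW p (S : Subgroup G) = ((Cfsg.stableNormalClosure p ↥(S : Subgroup G)).map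
      (Subgroup.inclusion hSL)).map L.subtype := (hτ _).symm
  rw [hWW] at hw ⊢
  obtain ⟨w0, hw0, rfl⟩ := hw
  exact ⟨_, hn.conj_mem w0 hw0 ⟨n, hn'⟩, rfl⟩

/-- Step 2: `W(S) ≤ O_p(G)`. -/
theorem WW_le_pCore [Finite G] {p : ℕ} [Fact p.Prime] (S : Sylow p G)
    (hc : Subgroup.centralizer (Cfsg.pCore p G : Set G) ≤ Cfsg.pCore p G)
    (h2 : Cfsg.IsPStableOnSection p (Cfsg.pCore p G)
      ((frattini ↥(Cfsg.pCore p G)).map (Cfsg.pCore p G).subtype)) :
    WW p (S : Subgroup G) ≤ Cfsg.pCore p G := by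
  set Q := Cfsg.pCore p G with hQ
  have hQS : Q ≤ (S : Subgroup G) := Cfsg.Agent.Lib.Helper51.pCore_le_sylow p S
  have hQp : IsPGroup p Q := Cfsg.Agent.Lib.Helper51.pCore_isPGroup p
  have hQn : Q.Normal := Cfsg.Agent.Lib.Helper51.pCore_normal p
  intro w hw
  have hq : ⁅⁅Q, Subgroup.zpowers w⁆, Subgroup.zpowers w⁆ = ⊥ :=
    quad_of_normalizes (WW_PE p _).1
      ((hQS.trans Subgroup.le_normalizer).trans (normalizer_le_normalizer_WW S.2)) hw
  obtain ⟨D, hDn, hKD, ⟨k, hk⟩, hwD⟩ := h2 w (by rw [hq]; exact bot_le)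
  set K0 := Cfsg.sectionKernel Q ((frattini ↥Q).map Q.subtype) with hK0
  have hK0p : IsPGroup p K0 := by
    apply isPGroup_of_forall_coprime
    intro g hg hgp
    have hA : Subgroup.zpowers g ≤ Subgroup.centralizer (Q : Set G) := by
      apply Cfsg.Agent.Lib.Helper1.coprime_trivial_on_frattini_quotient
      · rw [Subgroup.normalizer_eq_top]; exact le_top
      · rw [Nat.card_zpowers]
        obtain ⟨n, hn⟩ := IsPGroup.iff_card.1 (hQp.to_subgroup (frattini ↥Q))
        rw [hn]
        exact Nat.Coprime.pow_right n hgp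
      · intro a ha x hx
        have haK : a ∈ K0 := (Subgroup.zpowers_le.2 hg) ha
        have h4 := Subgroup.mem_centralizer_iff.1 haK _ (Subgroup.mem_map_of_mem _ hx)
        rw [← map_mul, ← map_mul] at h4
        have h5 := QuotientGroup.eq.1 h4
        have h6 := (inferInstance : ((frattini ↥Q).map Q.subtype).Normal).conj_mem _ h5 (x * a)
        have h7 : x * a * ((x * a)⁻¹ * (a * x)) * (x * a)⁻¹ = a * x * a⁻¹ * x⁻¹ := by group
        rwa [h7] at h6
    have hgQ : g ∈ Q := hc (hA (Subgroup.mem_zpowers g))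
    obtain ⟨n, hn⟩ := (IsPGroup.iff_orderOf.1 hQp) ⟨g, hgQ⟩
    rw [Subgroup.orderOf_mk] at hn
    rw [hn] at hgp
    rcases Nat.eq_zero_or_pos n with rfl | hpos
    · rw [pow_zero] at hn
      exact orderOf_eq_one_iff.1 hn
    · exfalso
      have := Nat.Coprime.coprime_dvd_left (dvd_pow_self p hpos.ne') hgp
      rw [Nat.coprime_self] at this
      exact (Fact.out : p.Prime).one_lt.ne' this
  have hDp : IsPGroup p D := by
    obtain ⟨n, hn⟩ := IsPGroup.iff_card.1 hK0p
    apply IsPGroup.of_card (n := n + k)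
    rw [← Subgroup.relIndex_bot_left, ← Subgroup.relIndex_mul_relIndex ⊥ K0 D bot_le hKD,
      Subgroup.relIndex_bot_left, hn, hk, pow_add]
  exact Cfsg.Agent.Lib.Helper51.le_pCore p hDn hDp hwD

theorem AE_eq_of_forall_le [Finite G] {e : ℕ} {T S : Subgroup G} (hTS : T ≤ S)
    (h : ∀ A ∈ AE e S, A ≤ T) : AE e T = AE e S := by
  obtain ⟨A0, hA0⟩ := AE_nonempty e S
  ext A
  rw [mem_AE_sub_iff hTS hA0 (h A0 hA0)]
  exact ⟨fun h => h.1, fun h' => ⟨h', h A h'⟩⟩

theorem quad_conj {V : Subgroup G} (hV : V.Normal) {a : G} (g : G)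
    (hq : ⁅⁅V, Subgroup.zpowers a⁆, Subgroup.zpowers a⁆ = ⊥) :
    ⁅⁅V, Subgroup.zpowers (g * a * g⁻¹)⁆, Subgroup.zpowers (g * a * g⁻¹)⁆ = ⊥ := by
  have h1 : V.map (MulAut.conj g).toMonoidHom = V :=
    cj_eq_of_mem_normalizer (by rw [Subgroup.normalizer_eq_top]; trivial)
  have h2 : (Subgroup.zpowers a).map (MulAut.conj g).toMonoidHom =
      Subgroup.zpowers (g * a * g⁻¹) := by
    rw [MonoidHom.map_zpowers]
    rfl
  have h3 := congrArg (Subgroup.map (MulAut.conj g).toMonoidHom) hq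
  rw [Subgroup.map_commutator, Subgroup.map_commutator, h1, h2, Subgroup.map_bot] at h3
  exact h3

theorem mem_AE_top_of_sylow [Finite G] {p : ℕ} [Fact p.Prime] (S : Sylow p G) {A : Subgroup G}
    (hA : A ∈ AE p (S : Subgroup G)) : A ∈ AE p (⊤ : Subgroup G) := by
  refine ⟨le_top, hA.2.1, fun B _ hB => ?_⟩
  have hBp : IsPGroup p B := by
    intro b
    refine ⟨1, Subtype.ext ?_⟩
    rw [pow_one, Subgroup.coe_pow, Subgroup.coe_one]
    exact hB.2 b b.2
  obtain ⟨x, -, hx⟩ := (relSylow_of_sylow S le_top).exists_conj_le le_top hBp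
  rw [← card_cj x B]
  apply hA.2.2 _ hx
  exact (PE_map_iff (T := ⊤) (MulAut.conj x).toMonoidHom (MulAut.conj x).injective.injOn le_top).2 hB

/-- `W(S)` is normal in an action-`p`-stable group of characteristic `p`. -/
theorem WW_normal [Finite G] {p : ℕ} [Fact p.Prime] (hst : Cfsg.IsActionPStable p G)
    (hc : Subgroup.centralizer (Cfsg.pCore p G : Set G) ≤ Cfsg.pCore p G) (S : Sylow p G) :
    (WW p (S : Subgroup G)).Normal := by
  set W := WW p (S : Subgroup G) with hW
  set Q := Cfsg.pCore p G with hQ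
  have hWQ : W ≤ Q := WW_le_pCore S hc hst.2.1
  have hQS : Q ≤ (S : Subgroup G) := Cfsg.Agent.Lib.Helper51.pCore_le_sylow p S
  have hQn : Q.Normal := Cfsg.Agent.Lib.Helper51.pCore_normal p
  have hSW : (S : Subgroup G) ≤ Subgroup.normalizer (W : Set G) :=
    Subgroup.le_normalizer.trans (normalizer_le_normalizer_WW S.2)
  have hLW := normalizer_J_le S hc (hst.2.2 S)
  have hWPE : PE p W := WW_PE p _
  -- conjugates of elements of `W` centralize `W`
  have hcomm : ∀ h : G, ∀ y ∈ W, ∀ w ∈ W, w * (h * y * h⁻¹) = (h * y * h⁻¹) * w := by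
    intro h y hy
    have hx : h * y * h⁻¹ ∈ (S : Subgroup G) := hQS (hQn.conj_mem y (hWQ hy) h)
    apply quad_central S.2 hx
    apply quad_of_normalizes (A := cj h W)
    · exact ((PE_map_iff (e := p) (T := ⊤) (MulAut.conj h).toMonoidHom
        (MulAut.conj h).injective.injOn le_top).2 hWPE).1
    · rw [← cj_normalizer]
      intro u hu
      rw [mem_cj]
      apply hSW
      apply hQS
      have := hQn.conj_mem u (hWQ hu) h⁻¹
      rwa [inv_inv] at this
    · exact conj_mem_cj hy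
  set V := Subgroup.normalClosure (W : Set G) with hV
  have hVdef : V = Subgroup.closure (Group.conjugatesOfSet (W : Set G)) := rfl
  have hmemconj : ∀ x ∈ Group.conjugatesOfSet (W : Set G), ∃ g : G, ∃ y ∈ W, x = g * y * g⁻¹ := by
    intro x hx
    rw [Group.mem_conjugatesOfSet_iff] at hx
    obtain ⟨y, hy, hyx⟩ := hx
    rw [isConj_iff] at hyx
    obtain ⟨g, rfl⟩ := hyx
    exact ⟨g, y, hy, rfl⟩
  have hVPE : PE p V := by
    rw [hVdef]
    apply PE_closure
    · intro x hx y hy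
      obtain ⟨g, a, ha, rfl⟩ := hmemconj x hx
      obtain ⟨h, b, hb, rfl⟩ := hmemconj y hy
      have h1 := hcomm (g⁻¹ * h) b hb a ha
      calc g * a * g⁻¹ * (h * b * h⁻¹) = g * (a * (g⁻¹ * h * b * (g⁻¹ * h)⁻¹)) * g⁻¹ := by group
        _ = g * ((g⁻¹ * h * b * (g⁻¹ * h)⁻¹) * a) * g⁻¹ := by rw [h1]
        _ = h * b * h⁻¹ * (g * a * g⁻¹) := by group
    · intro x hx
      obtain ⟨g, a, ha, rfl⟩ := hmemconj x hx
      rw [conj_pow, hWPE.2 a ha]
      group
  have hVn : V.Normal := Subgroup.normalClosure_normal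
  have hWV : W ≤ V := Subgroup.le_normalClosure
  have hVea : Cfsg.IsElementaryAbelian p V := PE_iff_isElementaryAbelian.1 hVPE
  set C := Subgroup.centralizer (V : Set G) with hC
  have hCn : C.Normal := inferInstance
  -- quadratic elements centralize `W`
  have claim1 : ∀ a : G, ⁅⁅V, Subgroup.zpowers a⁆, Subgroup.zpowers a⁆ = ⊥ →
      ∀ w ∈ W, w * a = a * w := by
    intro a hq w hw
    have hmem := hst.1 V hVea a hq
    obtain ⟨t, ht, c, hcC, rfl⟩ := Cfsg.Agent.Lib.Helper14.exists_mul_of_mk_mem_pCore C S hmem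
    have hsup : Subgroup.zpowers t ⊔ C = Subgroup.zpowers (t * c) ⊔ C := by
      apply le_antisymm
      · refine sup_le ?_ le_sup_right
        rw [Subgroup.zpowers_le]
        have h5 : (t * c) * c⁻¹ ∈ Subgroup.zpowers (t * c) ⊔ C :=
          Subgroup.mul_mem _ (Subgroup.mem_sup_left (Subgroup.mem_zpowers _))
            (Subgroup.mem_sup_right (C.inv_mem hcC))
        rwa [mul_inv_cancel_right] at h5
      · refine sup_le ?_ le_sup_right
        rw [Subgroup.zpowers_le]
        exact Subgroup.mul_mem _ (Subgroup.mem_sup_left (Subgroup.mem_zpowers _))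
          (Subgroup.mem_sup_right hcC)
    have hgen : ∀ x : G, ⁅⁅V, Subgroup.zpowers x⁆, Subgroup.zpowers x⁆ =
        ⁅⁅V, Subgroup.zpowers x ⊔ C⁆, Subgroup.zpowers x ⊔ C⁆ := by
      intro x
      rw [commutator_sup_centralizer (U := V) (K := Subgroup.zpowers x) (C := C) le_rfl]
      rw [commutator_sup_centralizer (U := ⁅V, Subgroup.zpowers x⁆) (K := Subgroup.zpowers x)
        (C := C) (Subgroup.centralizer_le (Subgroup.commutator_le_left V _))]
    have hqt : ⁅⁅V, Subgroup.zpowers t⁆, Subgroup.zpowers t⁆ = ⊥ := by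
      rw [hgen t, hsup, ← hgen (t * c)]
      exact hq
    have hqW : ⁅⁅W, Subgroup.zpowers t⁆, Subgroup.zpowers t⁆ = ⊥ := by
      rw [eq_bot_iff, ← hqt]
      exact Subgroup.commutator_mono (Subgroup.commutator_mono hWV le_rfl) le_rfl
    have h1 := quad_central S.2 ht hqW w hw
    have h2 : w * c = c * w := Subgroup.mem_centralizer_iff.1 hcC w (hWV hw)
    calc w * (t * c) = (w * t) * c := by group
      _ = t * (w * c) := by rw [h1]; group
      _ = t * c * w := by rw [h2]; group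
  have claim2 : ∀ a : G, ⁅⁅V, Subgroup.zpowers a⁆, Subgroup.zpowers a⁆ = ⊥ → a ∈ C := by
    intro a hq
    have h1 : V ≤ Subgroup.centralizer ({a} : Set G) := by
      rw [hVdef, Subgroup.closure_le]
      intro x hx
      obtain ⟨g, y, hy, rfl⟩ := hmemconj x hx
      rw [SetLike.mem_coe, Subgroup.mem_centralizer_iff]
      intro b hb
      rw [Set.mem_singleton_iff] at hb
      subst hb
      have h2 := claim1 (g⁻¹ * b * g⁻¹⁻¹) (quad_conj hVn g⁻¹ hq) y hy
      calc b * (g * y * g⁻¹) = g * ((g⁻¹ * b * g⁻¹⁻¹) * y) * g⁻¹ := by group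
        _ = g * (y * (g⁻¹ * b * g⁻¹⁻¹)) * g⁻¹ := by rw [h2]
        _ = g * y * g⁻¹ * b := by group
    rw [hC, Subgroup.mem_centralizer_iff]
    intro v hv
    exact (Subgroup.mem_centralizer_iff.1 (h1 hv) a rfl).symm
  -- `J(S)` centralizes `V`
  have hAC : ∀ A ∈ AE p (S : Subgroup G), A ≤ C := by
    intro A hA
    have hA' : A ∈ Cfsg.maxElementaryAbelianSubgroups p G := by
      rw [maxElementaryAbelianSubgroups_eq]
      exact mem_AE_top_of_sylow S hA
    obtain ⟨-, h2, h3⟩ := Cfsg.Agent.S0607.result V hVea A hA'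
    by_contra hcon
    have h4 : ⁅V, A⁆ ≠ ⊥ := by
      intro h
      rw [Subgroup.commutator_eq_bot_iff_le_centralizer] at h
      exact hcon (Subgroup.le_centralizer_iff.1 h)
    apply h3 h4
    rw [Subgroup.commutator_eq_bot_iff_le_centralizer, Subgroup.le_centralizer_iff]
    intro a ha
    apply claim2
    rw [eq_bot_iff, ← h2]
    have hza : Subgroup.zpowers a ≤
        ⁅V, A⁆ ⊔ (A ⊓ Subgroup.centralizer ((⁅V, A⁆ : Subgroup G) : Set G)) := by
      rwa [Subgroup.zpowers_le]
    exact Subgroup.commutator_mono (Subgroup.commutator_mono le_rfl hza) hza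
  -- Frattini
  have hfr := frattini S C
  have hAE : AE p ((S : Subgroup G) ⊓ C) = AE p (S : Subgroup G) :=
    AE_eq_of_forall_le inf_le_left (fun A hA => le_inf hA.1 (hAC A hA))
  have hNT : Subgroup.normalizer (((S : Subgroup G) ⊓ C : Subgroup G) : Set G) ≤
      Subgroup.normalizer (W : Set G) := by
    refine le_trans ?_ hLW
    rw [thompsonSubgroupOf_eq, ← hAE]
    exact normalizer_le_normalizer_sSup_AE p _
  constructor
  intro w hw g
  have hg : g ∈ Subgroup.normalizer (((S : Subgroup G) ⊓ C : Subgroup G) : Set G) ⊔ C := by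
    rw [hfr]; trivial
  rw [Subgroup.mem_sup_of_normal_right] at hg
  obtain ⟨n, hn, c, hcC, rfl⟩ := hg
  have h2 : w * c = c * w := Subgroup.mem_centralizer_iff.1 hcC w (hWV hw)
  have h3 : n * c * w * (n * c)⁻¹ = n * w * n⁻¹ := by
    calc n * c * w * (n * c)⁻¹ = n * (c * w) * c⁻¹ * n⁻¹ := by group
      _ = n * w * n⁻¹ := by rw [← h2]; group
  rw [h3]
  exact (Subgroup.mem_normalizer_iff.1 (hNT hn) w).1 hw

end Cfsg.Agent.Lib.Helper15.WS
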