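import Mathlib

set_option autoImplicit false

namespace Cfsg.Agent.Lib.Helper15.GS

open Matrix Polynomial

theorem POLY_charpoly_mul {n : Type*} [Fintype n] [DecidableEq n] {F : Type*} [Field F]
    (M : Matrix n n F) (c : F) (hM : M * M = c • (1 : Matrix n n F)) :
    M.charpoly * (-M).charpoly = (X ^ 2 - C c) ^ Fintype.card n := by
  unfold Matrix.charpoly
  rw [← Matrix.det_mul]
  have h : M.charmatrix * (-M).charmatrix = (X ^ 2 - C c : F[X]) • (1 : Matrix n n F[X]) := by
    unfold Matrix.charmatrix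
    rw [map_neg, sub_neg_eq_add]
    have h1 : (C.mapMatrix M) * (C.mapMatrix M) = (C c : F[X]) • (1 : Matrix n n F[X]) := by
      rw [← map_mul, hM]
      ext i j : 1
      simp only [RingHom.mapMatrix_apply, Matrix.map_apply, Matrix.smul_apply, Matrix.one_apply,
        smul_eq_mul]
      split_ifs <;> simp
    have h2 : Matrix.scalar n (X : F[X]) = (X : F[X]) • (1 : Matrix n n F[X]) := by
      rw [Matrix.scalar_apply, Matrix.smul_one_eq_diagonal]
    rw [h2, sub_mul, mul_add, mul_add, h1]
    simp only [smul_mul_assoc, one_mul, mul_smul_comm, mul_one, smul_smul, sub_smul]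
    rw [sq]
    abel
  rw [h, Matrix.det_smul, Matrix.det_one, mul_one]

theorem POLY_det {n : Type*} [Fintype n] [DecidableEq n] {F : Type*} [Field F] (k : ℕ)
    (hn : Fintype.card n = 2 * k) (M : Matrix n n F) (c : F)
    (h : M.charpoly = (X ^ 2 - C c) ^ k) : M.det = (-c) ^ k := by
  rw [Matrix.det_eq_sign_charpoly_coeff, hn, pow_mul, neg_one_sq, one_pow, one_mul, h,
    Polynomial.coeff_zero_eq_eval_zero]
  simp

theorem det_of_charpoly {n : Type*} [Fintype n] [DecidableEq n] {F : Type*} [Field F]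
    (h2 : (2 : F) ≠ 0) (k : ℕ) (hn : Fintype.card n = 2 * k)
    (M : Matrix n n F) (c : F) (hM : M * M = c • (1 : Matrix n n F))
    (hch : (-M).charpoly = M.charpoly) : M.det = (-c) ^ k := by
  apply POLY_det k hn
  have h1 := POLY_charpoly_mul M c hM
  rw [hch, hn, mul_comm 2 k, pow_mul, ← sq] at h1
  have hmon : ((X ^ 2 - C c : F[X]) ^ k).Monic := (monic_X_pow_sub_C c two_ne_zero).pow k
  rcases sq_eq_sq_iff_eq_or_eq_neg.1 h1 with h3 | h3
  · exact h3
  · exfalso
    have h4 := M.charpoly_monic
    rw [h3, Polynomial.Monic, Polynomial.leadingCoeff_neg, hmon.leadingCoeff] at h4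
    apply h2
    linear_combination -h4

end Cfsg.Agent.Lib.Helper15.GS
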