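import Mathlib
import Cfsg.Agent.Lib.Helper15.GSPOLY

set_option autoImplicit false

namespace Cfsg.Agent.Lib.Helper15.GS

open Matrix Polynomial

theorem det_of_sq {n : Type*} [Fintype n] [DecidableEq n] {F : Type*} [Field F] (k : ℕ)
    (hn : Fintype.card n = 2 * k) (G : Matrix n n F) (c : F) (hc : ¬ IsSquare c)
    (hG : G * G = c • (1 : Matrix n n F)) : G.det = (-c) ^ k := by
  apply POLY_det k hn
  have h1 := POLY_charpoly_mul G c hG
  have hirr : Irreducible (X ^ 2 - C c : F[X]) := by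
    apply X_pow_sub_C_irreducible_of_prime Nat.prime_two
    intro b hb
    exact hc ⟨b, by rw [← hb, sq]⟩
  have hdvd : G.charpoly ∣ (X ^ 2 - C c : F[X]) ^ Fintype.card n := ⟨_, h1.symm⟩
  obtain ⟨i, -, hi⟩ := (dvd_prime_pow hirr.prime _).1 hdvd
  have hmon : ∀ j, ((X ^ 2 - C c : F[X]) ^ j).Monic := fun j =>
    (monic_X_pow_sub_C c two_ne_zero).pow j
  have h2 : G.charpoly = (X ^ 2 - C c : F[X]) ^ i :=
    Polynomial.eq_of_monic_of_associated G.charpoly_monic (hmon i) hi
  have h3 : G.charpoly.natDegree = 2 * i := by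
    rw [h2, Polynomial.natDegree_pow, natDegree_X_pow_sub_C, mul_comm]
  rw [Matrix.charpoly_natDegree_eq_dim, hn] at h3
  have h4 : i = k := by omega
  rw [h2, h4]

end Cfsg.Agent.Lib.Helper15.GS
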