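import Cfsg.Agent.Lib.Helper15.PearlD

set_option autoImplicit false

/-!
The Hall-Petrescu collection formula, in the following form: in a finite group `X`, for `x y : X`
there are `c i ∈ γ_{i+1}(X)` (`c i ∈ Gm X i`) with
`(x ^ n * y ^ n)⁻¹ * (x * y) ^ n = ∏_{1 ≤ i < j} c i ^ (n.choose (i + 1))` modulo `Gm X j`.
-/

namespace Cfsg.Agent.Lib.Helper15.HP

open Cfsg.Agent.Lib.Helper15.Poly Cfsg.Agent.Lib.Helper15.Pearl

variable {X : Type*} [Group X]

/-- the lower central filtration, with `Lc 0 = Lc 1 = ⊤` -/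
def Lc (X : Type*) [Group X] : ℕ → Subgroup X := fun k => Gm X (k - 1)

theorem Lc_anti (a : ℕ) : Lc X (a + 1) ≤ Lc X a := Gm_anti (by omega)

theorem Lc_comm [Finite X] (a b : ℕ) : ⁅Lc X a, Lc X b⁆ ≤ Lc X (a + b) := by
  rcases Nat.eq_zero_or_pos a with rfl | ha
  · have h1 : ⁅Lc X 0, Lc X b⁆ ≤ Lc X b := by
      have : (Lc X b).Normal := Gm_normal _
      exact Subgroup.commutator_le_right _ _
    simpa using h1
  rcases Nat.eq_zero_or_pos b with rfl | hb
  · have h1 : ⁅Lc X a, Lc X 0⁆ ≤ Lc X a := by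
      have : (Lc X a).Normal := Gm_normal _
      exact Subgroup.commutator_le_left _ _
    simpa using h1
  · refine (Gm_comm (a - 1) (b - 1)).trans (Gm_anti (by omega))

/-- the power sequence -/
def pw (x : X) : ℕ → X := fun n => x ^ n

theorem pw_mem (x : X) : ∀ j, pw x ∈ PP (Lc X) j 0 := by
  intro j
  rw [mem_PP_iff]
  intro i _ n
  rcases i with _ | _ | i
  · exact Subgroup.mem_top _
  · exact Subgroup.mem_top _
  · have h1 : D (pw x) = fun _ => x := by
      funext n
      simp only [D, pw, pow_succ']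
      group
    have h2 : D (fun _ : ℕ => x) = 1 := by
      funext n
      simp [D]
    have h3 : ∀ i, D^[i] (1 : ℕ → X) = 1 := by
      intro i
      induction i with
      | zero => rfl
      | succ i ih => rw [Function.iterate_succ_apply, D_one, ih]
    rw [Function.iterate_succ_apply, Function.iterate_succ_apply, h1, h2, h3]
    exact Subgroup.one_mem _

/-- the Hall-Petrescu sequence -/
def hp (x y : X) : ℕ → X := (pw x * pw y)⁻¹ * pw (x * y)

theorem hp_apply (x y : X) (n : ℕ) : hp x y n = (x ^ n * y ^ n)⁻¹ * (x * y) ^ n := rfl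

theorem hp_mem [Finite X] (x y : X) (j : ℕ) : hp x y ∈ PP (Lc X) j 0 := by
  have H := good (Lc X) Lc_anti Lc_comm j
  exact H.mul _ _ _ (H.inv _ _ (H.mul _ _ _ (pw_mem x j) (pw_mem y j))) (pw_mem (x * y) j)

theorem hp_zero (x y : X) : hp x y 0 = 1 := by simp [hp_apply]

theorem hp_one (x y : X) : hp x y 1 = 1 := by simp [hp_apply]

/-- values of the Taylor polynomial lie in any subgroup containing the relevant powers -/
theorem tq_mem (g : ℕ → X) (M : Subgroup X) (n : ℕ) :
    ∀ j, (∀ i < j, tc g i ^ (n.choose (i + 1)) ∈ M) → tq g j n ∈ M := by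
  intro j
  induction j with
  | zero => intro _; exact M.one_mem
  | succ j ih =>
    intro h
    rw [tq_succ]
    exact M.mul_mem (ih fun i hi => h i (by omega)) (h j (by omega))

/-- **Hall-Petrescu**, membership form. -/
theorem hall_petrescu [Finite X] (x y : X) (j : ℕ) (hj : Gm X j = ⊥) (M : Subgroup X) (n : ℕ)
    (hM : ∀ i, 1 ≤ i → i < j → ∀ c ∈ Gm X i, c ^ (n.choose (i + 1)) ∈ M) :
    (x ^ n * y ^ n)⁻¹ * (x * y) ^ n ∈ M := by
  rw [← hp_apply]
  have hg := hp_mem x y (j + 1)
  obtain ⟨h1, h2⟩ := taylor Lc_anti Lc_comm (j + 1) (hp x y) hg (hp_zero x y) j (by omega)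
  have h3 := vanish (j + 1) 0 (tr (hp x y) j) h1 (fun n hn => h2 n (by omega)) n
  have h4 : tr (hp x y) j n = 1 := by
    have : Lc X (0 + (j + 1)) = ⊥ := by
      rw [← hj]; simp [Lc]
    rwa [this, Subgroup.mem_bot] at h3
  have h5 : hp x y n = tq (hp x y) j n * tr (hp x y) j n :=
    congrFun (eq_tq_mul_tr (hp x y) j) n
  rw [h5, h4, mul_one]
  apply tq_mem
  intro i hi
  rcases Nat.eq_zero_or_pos i with rfl | hi0
  · rw [tc_zero, hp_one, one_pow]; exact M.one_mem
  · apply hM i hi0 hi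
    have := tc_mem Lc_anti Lc_comm (j + 1) (hp x y) hg (hp_zero x y) i (by omega)
    simpa [Lc] using this

end Cfsg.Agent.Lib.Helper15.HP
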