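import Cfsg.Agent.Lib.Helper75.JCFour
import Cfsg.Agent.Lib.Helper15.ZJ
import Cfsg.Agent.Lib.Helper12.Card
import Cfsg.Agent.Lib.Helper14.Sup

set_option autoImplicit false

/-! S2945 ladder, rung COUNT. -/

namespace Cfsg.Agent.Lib.Helper15.JC45

open Subgroup
open Cfsg.Agent.Lib.Helper75.JC
open Cfsg.Agent.Lib.Helper15.ZJ (PE PE_sup)

variable {G : Type*} [Group G]

/-- a commuting family of subgroups separated by elements `κ i`. -/
theorem family {ι : Type*} [Fintype ι] (H : ι → Subgroup G) (κ : ι → G)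
    (hc : ∀ i j, ∀ x ∈ H i, ∀ y ∈ H j, x * y = y * x)
    (ho : ∀ i j, i ≠ j → ∀ x ∈ H j, κ i * x = x * κ i)
    (hf : ∀ i, ∀ x ∈ H i, κ i * x = x * κ i → x = 1) :
    Nat.card (⨆ i, H i : Subgroup G) = ∏ i, Nat.card (H i) ∧
    (∀ x ∈ ⨆ i, H i, (∀ i, κ i * x = x * κ i) → x = 1) := by
  classical
  have hcomm : Pairwise fun i j : ι => ∀ x y : G, x ∈ H i → y ∈ H j → Commute x y :=
    fun i j _ x y hx hy => hc i j x hx y hy
  have hind : iSupIndep H := by
    intro i
    rw [Subgroup.disjoint_def]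
    intro x hx1 hx2
    have h1 : (⨆ j, ⨆ (_ : j ≠ i), H j) ≤ centralizer {κ i} := by
      refine iSup₂_le fun j hj => ?_
      intro y hy
      rw [mem_centralizer_singleton_iff]
      exact (ho i j hj.symm y hy).symm
    have h2 := h1 hx2
    rw [mem_centralizer_singleton_iff] at h2
    exact hf i x hx1 h2.symm
  have hinj := Subgroup.injective_noncommPiCoprod_of_iSupIndep (hcomm := hcomm) hind
  have hrange : (Subgroup.noncommPiCoprod hcomm).range = ⨆ i, H i := Subgroup.noncommPiCoprod_range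
  constructor
  · rw [← hrange, ← Nat.card_pi]
    exact (Nat.card_congr (MonoidHom.ofInjective hinj).toEquiv).symm
  · intro x hx hκ
    rw [← hrange] at hx
    obtain ⟨f, rfl⟩ := hx
    have hf1 : f = 1 := by
      funext i
      have h1 : f = Pi.mulSingle i (f i) * Function.update f i 1 := by
        funext j
        by_cases hj : j = i
        · subst hj
          simp
        · simp [hj]
      have h2 : Subgroup.noncommPiCoprod hcomm (Function.update f i 1) ∈ centralizer {κ i} := by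
        rw [Subgroup.noncommPiCoprod_apply]
        apply Subgroup.noncommProd_mem
        intro j _
        rw [mem_centralizer_singleton_iff]
        by_cases hj : j = i
        · subst hj
          simp
        · simp only [Function.update_of_ne hj]
          exact (ho i j (Ne.symm hj) _ (f j).2).symm
      rw [mem_centralizer_singleton_iff] at h2
      have h3 := hκ i
      rw [h1, map_mul, Subgroup.noncommPiCoprod_mulSingle] at h3
      have h4 : κ i * (f i : G) = (f i : G) * κ i := by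
        set r := Subgroup.noncommPiCoprod hcomm (Function.update f i 1) with hr
        have h5 : κ i * ((f i : G) * r) = (f i : G) * κ i * r := by
          rw [h3, mul_assoc, mul_assoc, h2]
        rw [← mul_assoc] at h5
        exact mul_right_cancel h5
      exact Subtype.ext (hf i _ (f i).2 h4)
    rw [hf1, map_one]

theorem PE_iSup {ι : Type*} {e : ℕ} (H : ι → Subgroup G) (hH : ∀ i, PE e (H i))
    (hc : ∀ i j, ∀ x ∈ H i, ∀ y ∈ H j, x * y = y * x) : PE e (⨆ i, H i) := by
  have h1 : ∀ i, (⨆ j, H j) ≤ centralizer (H i : Set G) := by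
    intro i
    refine iSup_le fun j => ?_
    intro x hx
    rw [mem_centralizer_iff]
    intro y hy
    exact hc i j y hy x hx
  have h3 : (⨆ j, H j) ≤ centralizer ((⨆ j, H j : Subgroup G) : Set G) :=
    iSup_le fun i => le_centralizer_iff.1 (h1 i)
  have hcc : ∀ x ∈ ⨆ j, H j, ∀ y ∈ ⨆ j, H j, x * y = y * x := by
    intro x hx y hy
    exact (mem_centralizer_iff.1 (h3 hy) x hx)
  refine ⟨hcc, ?_⟩
  let E : Subgroup G :=
    { carrier := {x | x ∈ (⨆ j, H j) ∧ x ^ e = 1}
      one_mem' := ⟨Subgroup.one_mem _, one_pow _⟩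
      mul_mem' := by
        rintro x y ⟨hx, hx'⟩ ⟨hy, hy'⟩
        refine ⟨Subgroup.mul_mem _ hx hy, ?_⟩
        have : Commute x y := hcc x hx y hy
        rw [this.mul_pow, hx', hy', one_mul]
      inv_mem' := by
        rintro x ⟨hx, hx'⟩
        exact ⟨Subgroup.inv_mem _ hx, by rw [inv_pow, hx', inv_one]⟩ }
  have hE : (⨆ j, H j) ≤ E :=
    iSup_le fun i x hx => ⟨Subgroup.mem_iSup_of_mem i hx, (hH i).2 x hx⟩
  intro a ha
  exact (hE ha).2

/-- the local count on a four-group -/
theorem local_count [Finite G] {A₁ W : Subgroup G} (hA : PE 2 A₁) (hW : Four W)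
    (hN : A₁ ≤ normalizer (W : Set G)) :
    Nat.card A₁ * Nat.card (W ⊓ centralizer (A₁ : Set G) : Subgroup G) ≤
      4 * Nat.card (A₁ ⊓ centralizer (W : Set G) : Subgroup G) := by
  by_cases h : A₁ ≤ centralizer (W : Set G)
  · rw [inf_eq_left.2 h, mul_comm]
    apply Nat.mul_le_mul_right
    rw [← hW.card]
    exact Subgroup.card_le_of_le inf_le_left
  · obtain ⟨s, hs, hsW⟩ := SetLike.not_le_iff_exists.1 h
    have hsN := hN hs
    have hinv : ∀ a ∈ A₁, a⁻¹ = a := by
      intro a ha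
      have := hA.2 a ha
      rw [pow_two] at this
      exact inv_eq_of_mul_eq_one_left this
    -- a fixed point of `s`
    obtain ⟨u, hu, hu1, hsu⟩ : ∃ u ∈ W, u ≠ 1 ∧ s * u * s⁻¹ = u := by
      have hne : ∃ w ∈ W, w ≠ 1 := by
        by_contra hcon
        push Not at hcon
        have : W = ⊥ := (Subgroup.eq_bot_iff_forall _).2 hcon
        have h4 := hW.card
        rw [this] at h4
        simp at h4
      obtain ⟨w, hw, hw1⟩ := hne
      by_cases hsw : s * w * s⁻¹ = w
      · exact ⟨w, hw, hw1, hsw⟩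
      · have hw' : s * w * s⁻¹ ∈ W := Four.conj_mem hsN hw
        refine ⟨w * (s * w * s⁻¹), W.mul_mem hw hw', ?_, ?_⟩
        · intro h1
          apply hsw
          have h2 : s * w * s⁻¹ = w⁻¹ := (inv_eq_of_mul_eq_one_right h1).symm
          rw [h2, hW.inv_eq hw]
        · have h2 : s * (s * w * s⁻¹) * s⁻¹ = w := by
            have h3 : s * s = 1 := by
              have := hA.2 s hs
              rwa [pow_two] at this
            calc s * (s * w * s⁻¹) * s⁻¹ = (s * s) * w * (s * s)⁻¹ := by group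
              _ = w := by rw [h3]; simp
          calc s * (w * (s * w * s⁻¹)) * s⁻¹ = (s * w * s⁻¹) * (s * (s * w * s⁻¹) * s⁻¹) := by group
            _ = (s * w * s⁻¹) * w := by rw [h2]
            _ = w * (s * w * s⁻¹) := hW.comm hw' hw
    have huniq : ∀ v ∈ W, v ≠ 1 → s * v * s⁻¹ = v → v = u := by
      intro v hv hv1 hsv
      by_contra hvu
      exact hsW (hW.fix_all hv hu hv1 hu1 hvu hsv hsu)
    have hfixall : ∀ t ∈ A₁, t * u * t⁻¹ = u := by
      intro t ht
      apply huniq _ (Four.conj_mem (hN ht) hu)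
      · intro h1
        apply hu1
        have : u = t⁻¹ * (t * u * t⁻¹) * t := by group
        rw [this, h1]
        group
      · have hst : s * t = t * s := hA.1 s hs t ht
        calc s * (t * u * t⁻¹) * s⁻¹ = (s * t) * u * (s * t)⁻¹ := by group
          _ = (t * s) * u * (t * s)⁻¹ := by rw [hst]
          _ = t * (s * u * s⁻¹) * t⁻¹ := by group
          _ = t * u * t⁻¹ := by rw [hsu]
    have hidx : ((A₁ ⊓ centralizer (W : Set G) : Subgroup G).subgroupOf A₁).index = 2 := by
      rw [Subgroup.index_eq_two_iff]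
      refine ⟨⟨s, hs⟩, ?_⟩
      rintro ⟨b, hb⟩
      simp only [mem_subgroupOf, Subgroup.coe_mul, mem_inf]
      by_cases hbW : b ∈ centralizer (W : Set G)
      · right
        refine ⟨⟨hb, hbW⟩, ?_⟩
        rintro ⟨-, h1⟩
        apply hsW
        have : s = b⁻¹ * (b * s) := by group
        rw [this]
        exact Subgroup.mul_mem _ (Subgroup.inv_mem _ hbW) h1
      · left
        refine ⟨⟨A₁.mul_mem hb hs, ?_⟩, fun h1 => hbW h1.2⟩
        exact hW.mul_mem_centralizer (hN hb) hsN hu hu1 (hfixall b hb) hsu hbW hsW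
    have hcard1 : Nat.card A₁ = 2 * Nat.card (A₁ ⊓ centralizer (W : Set G) : Subgroup G) := by
      have := Cfsg.Agent.Lib.Helper12.relIndex_mul_card'
        (inf_le_left : A₁ ⊓ centralizer (W : Set G) ≤ A₁)
      rw [Subgroup.relIndex, hidx] at this
      exact this.symm
    have hcard2 : Nat.card (W ⊓ centralizer (A₁ : Set G) : Subgroup G) ≤ 2 := by
      have h1 : W ⊓ centralizer (A₁ : Set G) ≤ zpowers u := by
        rintro v ⟨hv, hvc⟩
        by_cases hv1 : v = 1
        · rw [hv1]; exact Subgroup.one_mem _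
        · have h2 : s * v * s⁻¹ = v := by
            have := mem_centralizer_iff.1 hvc s hs
            rw [this]
            group
          rw [huniq v hv hv1 h2]
          exact mem_zpowers u
      refine (Subgroup.card_le_of_le h1).trans ?_
      rw [Nat.card_zpowers]
      apply orderOf_le_of_pow_eq_one (by norm_num)
      rw [pow_two]
      exact hW.sq u hu
    rw [hcard1]
    calc 2 * Nat.card (A₁ ⊓ centralizer (W : Set G) : Subgroup G) *
          Nat.card (W ⊓ centralizer (A₁ : Set G) : Subgroup G)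
        ≤ 2 * Nat.card (A₁ ⊓ centralizer (W : Set G) : Subgroup G) * 2 :=
          Nat.mul_le_mul_left _ hcard2
      _ = 4 * Nat.card (A₁ ⊓ centralizer (W : Set G) : Subgroup G) := by ring

theorem four_mul_lt (n : ℕ) (hn : 2 ≤ n) : 4 * n < 4 ^ n := by
  induction n, hn using Nat.le_induction with
  | base => norm_num
  | succ n hn ih =>
    rw [pow_succ]
    omega

/-- [COUNT] -/
theorem count [Finite G] {A W : Subgroup G} {k : G} (hA : PE 2 A) (hW : Four W)
    (hk : k ∈ normalizer (W : Set G)) (hfix : ∀ w ∈ W, k * w * k⁻¹ = w → w = 1)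
    (hcomm : ∀ a ∈ A, ∀ w ∈ W, ∀ v ∈ W, (a * w * a⁻¹) * v = v * (a * w * a⁻¹))
    (horth : ∀ a ∈ A, a ∉ normalizer (W : Set G) → ∀ w ∈ W, k * (a * w * a⁻¹) = (a * w * a⁻¹) * k)
    (hnot : ¬ A ≤ normalizer (W : Set G)) :
    ∃ E : Subgroup G, PE 2 E ∧ E ≤ A ⊔ W ∧ Nat.card A < Nat.card E := by
  classical
  set A₁ : Subgroup G := A ⊓ normalizer (W : Set G) with hA₁
  set A₀ : Subgroup G := A₁ ⊓ centralizer (W : Set G) with hA₀
  have hA₁A : A₁ ≤ A := inf_le_left
  have hA₁N : A₁ ≤ normalizer (W : Set G) := inf_le_right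
  have hA₀A : A₀ ≤ A := inf_le_left.trans hA₁A
  -- general conjugation facts
  have hC : ∀ a ∈ A, ∀ a' ∈ A, ∀ w ∈ W, ∀ v ∈ W,
      (a * w * a⁻¹) * (a' * v * a'⁻¹) = (a' * v * a'⁻¹) * (a * w * a⁻¹) := by
    intro a ha a' ha' w hw v hv
    have h1 := hcomm (a'⁻¹ * a) (A.mul_mem (A.inv_mem ha') ha) w hw v hv
    calc (a * w * a⁻¹) * (a' * v * a'⁻¹)
        = a' * (((a'⁻¹ * a) * w * (a'⁻¹ * a)⁻¹) * v) * a'⁻¹ := by group
      _ = a' * (v * ((a'⁻¹ * a) * w * (a'⁻¹ * a)⁻¹)) * a'⁻¹ := by rw [h1]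
      _ = (a' * v * a'⁻¹) * (a * w * a⁻¹) := by group
  have hO : ∀ a ∈ A, ∀ a' ∈ A, a⁻¹ * a' ∉ normalizer (W : Set G) → ∀ w ∈ W,
      (a * k * a⁻¹) * (a' * w * a'⁻¹) = (a' * w * a'⁻¹) * (a * k * a⁻¹) := by
    intro a ha a' ha' hn w hw
    have h1 := horth (a⁻¹ * a') (A.mul_mem (A.inv_mem ha) ha') hn w hw
    calc (a * k * a⁻¹) * (a' * w * a'⁻¹)
        = a * (k * ((a⁻¹ * a') * w * (a⁻¹ * a')⁻¹)) * a⁻¹ := by group
      _ = a * (((a⁻¹ * a') * w * (a⁻¹ * a')⁻¹) * k) * a⁻¹ := by rw [h1]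
      _ = (a' * w * a'⁻¹) * (a * k * a⁻¹) := by group
  have hF : ∀ g : G, ∀ w ∈ W,
      (g * k * g⁻¹) * (g * w * g⁻¹) = (g * w * g⁻¹) * (g * k * g⁻¹) → w = 1 := by
    intro g w hw h
    apply hfix w hw
    have h1 : k * w = w * k := by
      have h2 : g * (k * w) * g⁻¹ = g * (w * k) * g⁻¹ := by
        calc g * (k * w) * g⁻¹ = (g * k * g⁻¹) * (g * w * g⁻¹) := by group
          _ = (g * w * g⁻¹) * (g * k * g⁻¹) := h
          _ = g * (w * k) * g⁻¹ := by group
      exact mul_left_cancel (mul_right_cancel h2)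
    rw [h1]
    group
  -- the transversal
  let T := A ⧸ (A₁.subgroupOf A)
  let _ : Fintype T := Fintype.ofFinite T
  let t : T → G := fun i => ((Quotient.out i : A) : G)
  have htA : ∀ i, t i ∈ A := fun i => (Quotient.out i : A).2
  have hne : ∀ i j : T, i ≠ j → (t i)⁻¹ * t j ∉ normalizer (W : Set G) := by
    intro i j hij h
    apply hij
    rw [← QuotientGroup.out_eq' i, ← QuotientGroup.out_eq' j, QuotientGroup.eq, mem_subgroupOf]
    exact ⟨A.mul_mem (A.inv_mem (htA i)) (htA j), h⟩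
  let H : T → Subgroup G := fun i => W.map (MulAut.conj (t i)).toMonoidHom
  let κ : T → G := fun i => t i * k * (t i)⁻¹
  have hH : ∀ i x, x ∈ H i ↔ ∃ w ∈ W, x = t i * w * (t i)⁻¹ := by
    intro i x
    simp only [H, Subgroup.mem_map, MulEquiv.coe_toMonoidHom, MulAut.conj_apply]
    constructor
    · rintro ⟨w, hw, rfl⟩; exact ⟨w, hw, rfl⟩
    · rintro ⟨w, hw, rfl⟩; exact ⟨w, hw, rfl⟩
  have hc : ∀ i j, ∀ x ∈ H i, ∀ y ∈ H j, x * y = y * x := by
    intro i j x hx y hy
    obtain ⟨w, hw, rfl⟩ := (hH i x).1 hx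
    obtain ⟨v, hv, rfl⟩ := (hH j y).1 hy
    exact hC _ (htA i) _ (htA j) w hw v hv
  have ho : ∀ i j, i ≠ j → ∀ x ∈ H j, κ i * x = x * κ i := by
    intro i j hij x hx
    obtain ⟨w, hw, rfl⟩ := (hH j x).1 hx
    exact hO _ (htA i) _ (htA j) (hne i j hij) w hw
  have hf : ∀ i, ∀ x ∈ H i, κ i * x = x * κ i → x = 1 := by
    intro i x hx h
    obtain ⟨w, hw, rfl⟩ := (hH i x).1 hx
    rw [hF _ w hw h]
    group
  obtain ⟨hcardM, hfixM⟩ := family H κ hc ho hf
  set M : Subgroup G := ⨆ i, H i with hM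
  have hHcard : ∀ i, Nat.card (H i) = 4 := by
    intro i
    rw [← hW.card]
    exact Subgroup.card_map_of_injective (MulAut.conj (t i)).injective
  have hn : Nat.card T = A₁.relIndex A := rfl
  have hcardM' : Nat.card M = 4 ^ Nat.card T := by
    rw [hcardM, Finset.prod_congr rfl (fun i _ => hHcard i), Finset.prod_const, Finset.card_univ,
      Nat.card_eq_fintype_card]
  have hPEW : PE 2 W := ⟨fun x hx y hy => hW.comm hx hy, fun a ha => by rw [pow_two]; exact hW.sq a ha⟩
  have hPEH : ∀ i, PE 2 (H i) := by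
    intro i
    refine ⟨fun x hx y hy => hc i i x hx y hy, ?_⟩
    intro x hx
    obtain ⟨w, hw, rfl⟩ := (hH i x).1 hx
    rw [pow_two]
    calc t i * w * (t i)⁻¹ * (t i * w * (t i)⁻¹) = t i * (w * w) * (t i)⁻¹ := by group
      _ = 1 := by rw [hW.sq w hw]; group
  have hPEM : PE 2 M := PE_iSup H hPEH hc
  have hMA₀ : ∀ m ∈ M, ∀ a ∈ A₀, m * a = a * m := by
    have h1 : M ≤ centralizer (A₀ : Set G) := by
      refine iSup_le fun i => ?_
      intro x hx
      obtain ⟨w, hw, rfl⟩ := (hH i x).1 hx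
      rw [mem_centralizer_iff]
      intro a ha
      have h2 : a * t i = t i * a := hA.1 a (hA₀A ha) _ (htA i)
      have h3 : w * a = a * w := mem_centralizer_iff.1 ha.2 w hw
      calc a * (t i * w * (t i)⁻¹) = (a * t i) * w * (t i)⁻¹ := by group
        _ = t i * (a * w) * (t i)⁻¹ := by rw [h2]; group
        _ = t i * (w * a) * (t i)⁻¹ := by rw [h3]
        _ = t i * w * ((t i)⁻¹ * (t i * a) * (t i)⁻¹) := by group
        _ = t i * w * ((t i)⁻¹ * (a * t i) * (t i)⁻¹) := by rw [h2]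
        _ = t i * w * (t i)⁻¹ * a := by group
    intro m hm a ha
    exact (mem_centralizer_iff.1 (h1 hm) a ha).symm
  refine ⟨M ⊔ A₀, PE_sup hPEM (hA.mono hA₀A) hMA₀, ?_, ?_⟩
  · refine sup_le (iSup_le fun i => ?_) (hA₀A.trans le_sup_left)
    intro x hx
    obtain ⟨w, hw, rfl⟩ := (hH i x).1 hx
    have h1 : t i ∈ A ⊔ W := mem_sup_left (htA i)
    exact Subgroup.mul_mem _ (Subgroup.mul_mem _ h1 (mem_sup_right hw)) (Subgroup.inv_mem _ h1)
  · -- the count
    set D : Subgroup G := M ⊓ A₀ with hD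
    -- decomposition of the elements of `M`
    let Z : Subgroup G := centralizer (W : Set G) ⊓
      centralizer {y | ∃ a ∈ A₁, y = a * k * a⁻¹}
    have hMle : M ≤ W ⊔ Z := by
      refine iSup_le fun i => ?_
      by_cases hi : t i ∈ normalizer (W : Set G)
      · refine le_trans ?_ le_sup_left
        intro x hx
        obtain ⟨w, hw, rfl⟩ := (hH i x).1 hx
        exact Four.conj_mem hi hw
      · refine le_trans ?_ le_sup_right
        intro x hx
        obtain ⟨w, hw, rfl⟩ := (hH i x).1 hx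
        refine Subgroup.mem_inf.2 ⟨?_, ?_⟩
        · rw [mem_centralizer_iff]
          intro v hv
          exact (hcomm _ (htA i) w hw v hv).symm
        · rw [mem_centralizer_iff]
          rintro y ⟨a, ha, rfl⟩
          apply hO a (hA₁A ha) _ (htA i) _ w hw
          intro h1
          apply hi
          have : t i = a * (a⁻¹ * t i) := by group
          rw [this]
          exact Subgroup.mul_mem _ (hA₁N ha) h1
    have hdec : ∀ x ∈ M, ∃ w ∈ W, ∃ r ∈ Z, x = w * r := by
      intro x hx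
      refine (Cfsg.Agent.Lib.Helper14.mem_sup_of_commute ?_).1 (hMle hx)
      intro w hw r hr
      exact mem_centralizer_iff.1 hr.1 w hw
    have hZk : ∀ r ∈ Z, ∀ a ∈ A₁, (a * k * a⁻¹) * r = r * (a * k * a⁻¹) := by
      intro r hr a ha
      exact mem_centralizer_iff.1 hr.2 _ ⟨a, ha, rfl⟩
    choose! wf hwf rf hrf hwr using hdec
    have hwfC : ∀ x ∈ D, wf x ∈ W ⊓ centralizer (A₁ : Set G) := by
      intro x hx
      refine Subgroup.mem_inf.2 ⟨hwf x hx.1, ?_⟩
      rw [mem_centralizer_iff]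
      intro a ha
      have hxa : a * x * a⁻¹ = x := by
        have : a * x = x * a := hA.1 a (hA₁A ha) x (hA₀A hx.2)
        rw [this]; group
      set w := wf x with hw
      set r := rf x with hr
      have hwW : w ∈ W := hwf x hx.1
      have hrZ : r ∈ Z := hrf x hx.1
      have hx' : x = w * r := hwr x hx.1
      have h1 : w⁻¹ * (a * w * a⁻¹) = r * (a * r * a⁻¹)⁻¹ := by
        have h2 : (a * w * a⁻¹) * (a * r * a⁻¹) = w * r := by
          calc (a * w * a⁻¹) * (a * r * a⁻¹) = a * (w * r) * a⁻¹ := by group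
            _ = w * r := by rw [← hx', hxa]
        calc w⁻¹ * (a * w * a⁻¹) = w⁻¹ * ((a * w * a⁻¹) * (a * r * a⁻¹)) * (a * r * a⁻¹)⁻¹ := by
              group
          _ = r * (a * r * a⁻¹)⁻¹ := by rw [h2]; group
      have hk1 : k * r = r * k := by
        have := hZk r hrZ 1 A₁.one_mem
        simpa using this
      have hk2 : k * (a * r * a⁻¹) = (a * r * a⁻¹) * k := by
        have h3 := hZk r hrZ a⁻¹ (A₁.inv_mem ha)
        calc k * (a * r * a⁻¹) = a * ((a⁻¹ * k * a⁻¹⁻¹) * r) * a⁻¹ := by group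
          _ = a * (r * (a⁻¹ * k * a⁻¹⁻¹)) * a⁻¹ := by rw [h3]
          _ = (a * r * a⁻¹) * k := by group
      have hk3 : k * (w⁻¹ * (a * w * a⁻¹)) * k⁻¹ = w⁻¹ * (a * w * a⁻¹) := by
        rw [h1]
        have c1 : Commute k r := hk1
        have c2 : Commute k (a * r * a⁻¹) := hk2
        have c3 : Commute k (r * (a * r * a⁻¹)⁻¹) := c1.mul_right c2.inv_right
        rw [c3.eq]
        group
      have h4 := hfix _ (W.mul_mem (W.inv_mem hwW) (Four.conj_mem (hA₁N ha) hwW)) hk3
      have h5 : a * w * a⁻¹ = w := by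
        have := eq_of_inv_mul_eq_one h4
        exact this.symm
      calc a * w = (a * w * a⁻¹) * a := by group
        _ = w * a := by rw [h5]
    have hinj : Function.Injective
        (fun x : D => (⟨wf x.1, hwfC x.1 x.2⟩ : (W ⊓ centralizer (A₁ : Set G) : Subgroup G))) := by
      rintro ⟨x, hx⟩ ⟨y, hy⟩ hxy
      have hxy' : wf x = wf y := congrArg Subtype.val hxy
      apply Subtype.ext
      change x = y
      have hz : x⁻¹ * y ∈ D := D.mul_mem (D.inv_mem hx) hy
      have h1 : x⁻¹ * y = (rf x)⁻¹ * rf y := by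
        conv_lhs => rw [hwr x hx.1, hwr y hy.1, hxy']
        group
      have hk1 : k * (x⁻¹ * y) = (x⁻¹ * y) * k := by
        rw [h1]
        have := hZk _ (Z.mul_mem (Z.inv_mem (hrf x hx.1)) (hrf y hy.1)) 1 A₁.one_mem
        simpa using this
      have h2 : x⁻¹ * y = 1 := by
        apply hfixM _ hz.1
        intro i
        have hcz : t i * (x⁻¹ * y) = (x⁻¹ * y) * t i := hA.1 _ (htA i) _ (hA₀A hz.2)
        have c1 : Commute (t i) (x⁻¹ * y) := hcz
        have c2 : Commute k (x⁻¹ * y) := hk1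
        exact ((c1.mul_left c2).mul_left c1.inv_left).eq
      exact (eq_of_inv_mul_eq_one h2)
    have hDle : Nat.card D ≤ Nat.card (W ⊓ centralizer (A₁ : Set G) : Subgroup G) :=
      Nat.card_le_card_of_injective _ hinj
    have hloc := local_count (hA.mono hA₁A) hW hA₁N
    have hprod := Cfsg.Agent.Lib.Helper14.card_mul_card_le_card_sup_mul_card_inf M A₀
    have hcardA : A₁.relIndex A * Nat.card A₁ = Nat.card A :=
      Cfsg.Agent.Lib.Helper12.relIndex_mul_card' hA₁A
    have hn2 : 2 ≤ Nat.card T := by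
      have h0 : Nat.card T ≠ 0 := Nat.card_pos.ne'
      have h1 : Nat.card T ≠ 1 := by
        rw [hn, Ne, Subgroup.relIndex_eq_one]
        intro h
        exact hnot (h.trans hA₁N)
      omega
    have hDpos : 0 < Nat.card D := Nat.card_pos
    have hA₀pos : 0 < Nat.card A₀ := Nat.card_pos
    apply Nat.lt_of_mul_lt_mul_right (a := Nat.card D)
    calc Nat.card A * Nat.card D = Nat.card T * (Nat.card A₁ * Nat.card D) := by
          rw [← hcardA, hn]; ring
      _ ≤ Nat.card T * (Nat.card A₁ * Nat.card (W ⊓ centralizer (A₁ : Set G) : Subgroup G)) :=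
          Nat.mul_le_mul_left _ (Nat.mul_le_mul_left _ hDle)
      _ ≤ Nat.card T * (4 * Nat.card A₀) := Nat.mul_le_mul_left _ hloc
      _ = (4 * Nat.card T) * Nat.card A₀ := by ring
      _ < 4 ^ Nat.card T * Nat.card A₀ := Nat.mul_lt_mul_of_pos_right (four_mul_lt _ hn2) hA₀pos
      _ = Nat.card M * Nat.card A₀ := by rw [hcardM']
      _ ≤ Nat.card (M ⊔ A₀ : Subgroup G) * Nat.card D := hprod

end Cfsg.Agent.Lib.Helper15.JC45
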