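import Cfsg.Agent.Lib.Helper54.NIL.Defs

set_option autoImplicit false

namespace Cfsg.Agent.Lib.Helper15.NIL

open Module Cfsg.Agent.Lib.Helper54.NIL

variable {F V : Type*} [Field F] [AddCommGroup V] [Module F V]

/-- [BLB] -/
theorem card_extensions [Fintype F] [FiniteDimensional F V] (W : Submodule F V)
    (N₀ : Module.End F V) (hW : ∀ w ∈ W, N₀ w ∈ W) (P : Module.End F (V ⧸ W) → Prop) :
    Nat.card {N : Module.End F V // (∀ w ∈ W, N w = N₀ w) ∧
        ∃ M : Module.End F (V ⧸ W), P M ∧ ∀ x, M (W.mkQ x) = W.mkQ (N x)} =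
      Nat.card {M : Module.End F (V ⧸ W) // P M} *
        Fintype.card F ^ (finrank F W * finrank F (V ⧸ W)) := by
  classical
  obtain ⟨s, hs⟩ := LinearMap.exists_rightInverse_of_surjective W.mkQ
    (LinearMap.range_eq_top.2 W.mkQ_surjective)
  have hs' : ∀ y, W.mkQ (s y) = y := fun y => LinearMap.congr_fun hs y
  have hq : ∀ w, W.mkQ w = 0 ↔ w ∈ W := by
    intro w
    rw [← LinearMap.mem_ker, Submodule.ker_mkQ]
  have hmem : ∀ x, x - s (W.mkQ x) ∈ W := by
    intro x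
    rw [← hq, map_sub, hs', sub_self]
  have hq0 : ∀ w ∈ W, W.mkQ w = 0 := fun w hw => (hq w).2 hw
  let Φ : Module.End F (V ⧸ W) → ((V ⧸ W) →ₗ[F] W) → Module.End F V := fun M T =>
    N₀ ∘ₗ (LinearMap.id - s ∘ₗ W.mkQ) + s ∘ₗ M ∘ₗ W.mkQ + W.subtype ∘ₗ T ∘ₗ W.mkQ
  have hΦ : ∀ M T x, Φ M T x = N₀ (x - s (W.mkQ x)) + s (M (W.mkQ x)) + (T (W.mkQ x) : V) := by
    intro M T x
    simp [Φ]
  have hΦq : ∀ M T x, W.mkQ (Φ M T x) = M (W.mkQ x) := by
    intro M T x
    rw [hΦ, map_add, map_add, hq0 _ (hW _ (hmem x)), hs', hq0 _ (T (W.mkQ x)).2]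
    simp
  let g : {M : Module.End F (V ⧸ W) // P M} × ((V ⧸ W) →ₗ[F] W) →
      {N : Module.End F V // (∀ w ∈ W, N w = N₀ w) ∧
        ∃ M : Module.End F (V ⧸ W), P M ∧ ∀ x, M (W.mkQ x) = W.mkQ (N x)} := fun a =>
    ⟨Φ a.1.1 a.2, by
      refine ⟨?_, a.1.1, a.1.2, fun x => (hΦq _ _ x).symm⟩
      intro w hw
      rw [hΦ, hq0 w hw]
      simp⟩
  have hg : Function.Bijective g := by
    constructor
    · rintro ⟨⟨M, hM⟩, T⟩ ⟨⟨M', hM'⟩, T'⟩ h
      have h1 : Φ M T = Φ M' T' := congrArg Subtype.val h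
      have h2 : M = M' := by
        ext y
        have := congrArg W.mkQ (LinearMap.congr_fun h1 y)
        rw [hΦq, hΦq] at this
        simpa using this
      subst h2
      have h3 : T = T' := by
        apply LinearMap.ext
        intro y
        have := LinearMap.congr_fun h1 (s y)
        rw [hΦ, hΦ, hs'] at this
        exact Subtype.ext (add_left_cancel this)
      subst h3
      rfl
    · rintro ⟨N, hN, M, hM, hNM⟩
      have hT : ∀ y, (N ∘ₗ s - s ∘ₗ M) y ∈ W := by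
        intro y
        rw [← hq]
        simp only [LinearMap.sub_apply, LinearMap.comp_apply, map_sub, hs']
        rw [← hNM, hs', sub_self]
      refine ⟨⟨⟨M, hM⟩, LinearMap.codRestrict W (N ∘ₗ s - s ∘ₗ M) hT⟩, ?_⟩
      apply Subtype.ext
      apply LinearMap.ext
      intro x
      change Φ M _ x = N x
      rw [hΦ, ← hN _ (hmem x)]
      simp
  rw [← Nat.card_congr (Equiv.ofBijective g hg), Nat.card_prod]
  congr 1
  rw [Module.natCard_eq_pow_finrank (K := F), Module.finrank_linearMap, Nat.card_eq_fintype_card,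
    mul_comm]

end Cfsg.Agent.Lib.Helper15.NIL
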