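import Cfsg.Agent.Lib.Helper54.NIL.Defs

set_option autoImplicit false

namespace Cfsg.Agent.Lib.Helper15.NIL

open Module Cfsg.Agent.Lib.Helper54.NIL

variable {F V : Type*} [Field F] [AddCommGroup V] [Module F V]

/-- [EX] -/
theorem exists_shift [FiniteDimensional F V] {k : ℕ} (e : Fin (k + 1) → V)
    (he : LinearIndependent F e) :
    ∃ N₀ : Module.End F V, IsNilpotent N₀ ∧ Chain e N₀ ∧ N₀ (e (Fin.last k)) = 0 := by
  classical
  set E : (Fin (k + 1) → F) →ₗ[F] V := Fintype.linearCombination F e with hE
  have hinj : Function.Injective E := he.fintypeLinearCombination_injective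
  obtain ⟨φ, hφ⟩ := LinearMap.exists_leftInverse_of_injective E (LinearMap.ker_eq_bot.2 hinj)
  have hφe : ∀ i, φ (e i) = Pi.single i 1 := by
    intro i
    have h1 : E (Pi.single i 1) = e i := by
      simp [hE, Fintype.linearCombination_apply_single]
    rw [← h1]
    exact LinearMap.congr_fun hφ _
  set e' : Fin (k + 1) → V := fun i => if h : (i : ℕ) + 1 < k + 1 then e ⟨i + 1, h⟩ else 0 with he'
  set N₀ : Module.End F V := (Fintype.linearCombination F e') ∘ₗ φ with hN₀
  have hNe : ∀ i, N₀ (e i) = e' i := by
    intro i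
    simp [hN₀, hφe, Fintype.linearCombination_apply_single]
  have hpow : ∀ m : ℕ, ∀ i : Fin (k + 1), k + 1 ≤ (i : ℕ) + m → (N₀ ^ m) (e i) = 0 := by
    intro m
    induction m with
    | zero => intro i hi; have := i.2; omega
    | succ m ih =>
      intro i hi
      rw [pow_succ, Module.End.mul_apply, hNe]
      by_cases h : (i : ℕ) + 1 < k + 1
      · simp only [he', dif_pos h]
        apply ih
        simp only
        omega
      · simp only [he', dif_neg h, map_zero]
  have hpow' : ∀ i : Fin (k + 1), (N₀ ^ (k + 1)) (e' i) = 0 := by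
    intro i
    by_cases h : (i : ℕ) + 1 < k + 1
    · simp only [he', dif_pos h]
      apply hpow
      omega
    · simp only [he', dif_neg h, map_zero]
  refine ⟨N₀, ⟨k + 2, ?_⟩, ?_, ?_⟩
  · ext x
    rw [pow_succ, Module.End.mul_apply]
    have : N₀ x = ∑ i, (φ x) i • e' i := by
      simp [hN₀, Fintype.linearCombination_apply]
    rw [this, map_sum]
    simp [hpow']
  · intro i j hij
    rw [hNe]
    have h : (i : ℕ) + 1 < k + 1 := by have := j.2; omega
    simp only [he', dif_pos h]
    congr 1
    ext
    simpa using hij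
  · rw [hNe]
    have h : ¬ ((Fin.last k : Fin (k + 1)) : ℕ) + 1 < k + 1 := by simp
    simp only [he', dif_neg h]

end Cfsg.Agent.Lib.Helper15.NIL
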