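import Cfsg.Agent.Lib.Helper54.NIL.Defs

set_option autoImplicit false

namespace Cfsg.Agent.Lib.Helper15.NIL

open Module Cfsg.Agent.Lib.Helper54.NIL

variable {F V : Type*} [Field F] [AddCommGroup V] [Module F V]

/-- [SUM] -/
theorem card_eq_sum [Fintype F] [FiniteDimensional F V] {k : ℕ} (e : Fin (k + 1) → V)
    (he : LinearIndependent F e) (a b : ℕ)
    (h0 : Nat.card {N : Module.End F V // (IsNilpotent N ∧ Chain e N) ∧ N (e (Fin.last k)) = 0} = a)
    (h1 : ∀ v : V, v ∉ Submodule.span F (Set.range e) →
      Nat.card {N : Module.End F V // (IsNilpotent N ∧ Chain e N) ∧ N (e (Fin.last k)) = v} = b)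
    (h2 : ∀ v : V, v ∈ Submodule.span F (Set.range e) → v ≠ 0 →
      IsEmpty {N : Module.End F V // (IsNilpotent N ∧ Chain e N) ∧ N (e (Fin.last k)) = v}) :
    Nat.card {N : Module.End F V // IsNilpotent N ∧ Chain e N} =
      (Fintype.card F ^ finrank F V - Fintype.card F ^ (k + 1)) * b + a := by
  classical
  have hfV : Finite V := Module.finite_of_finite F
  have hfE : Finite (Module.End F V) := Module.finite_of_finite F
  letI : Fintype V := Fintype.ofFinite V
  set W := Submodule.span F (Set.range e) with hW
  set f : {N : Module.End F V // IsNilpotent N ∧ Chain e N} → V :=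
    fun N => N.1 (e (Fin.last k)) with hf
  have e1 := Equiv.sigmaFiberEquiv f
  have hfib : ∀ v : V, Nat.card {x // f x = v} =
      Nat.card {N : Module.End F V // (IsNilpotent N ∧ Chain e N) ∧ N (e (Fin.last k)) = v} := by
    intro v
    exact Nat.card_congr (Equiv.subtypeSubtypeEquivSubtypeInter
      (fun N : Module.End F V => IsNilpotent N ∧ Chain e N) (fun N => N (e (Fin.last k)) = v))
  rw [← Nat.card_congr e1, Nat.card_sigma]
  have hc : ∀ v : V, Nat.card {x // f x = v} =
      (if v ∈ W then 0 else b) + (if v = 0 then a else 0) := by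
    intro v
    rw [hfib]
    by_cases hv : v ∈ W
    · by_cases hv0 : v = 0
      · subst hv0
        simp [h0]
      · have := h2 v hv hv0
        simp [hv, hv0]
    · have hv0 : v ≠ 0 := by
        rintro rfl
        exact hv W.zero_mem
      simp [hv, hv0, h1 v hv]
  rw [Finset.sum_congr rfl (fun v _ => hc v), Finset.sum_add_distrib, Finset.sum_ite_eq']
  simp only [Finset.mem_univ, if_true]
  congr 1
  rw [Finset.sum_ite, Finset.sum_const_zero, zero_add, Finset.sum_const, smul_eq_mul]
  congr 1
  have h3 : (Finset.univ.filter (fun v : V => ¬ v ∈ W)).card = Fintype.card {v : V // ¬ v ∈ W} :=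
    (Fintype.card_subtype _).symm
  rw [h3, Fintype.card_subtype_compl]
  have h4 : Fintype.card V = Fintype.card F ^ finrank F V := Module.card_eq_pow_finrank
  have h5 : Fintype.card {v : V // v ∈ W} = Fintype.card F ^ (k + 1) := by
    have h6 : Fintype.card W = Fintype.card F ^ finrank F W := Module.card_eq_pow_finrank
    have h7 : finrank F W = k + 1 := by
      rw [hW, finrank_span_eq_card he]
      simp
    rw [h7] at h6
    exact h6
  rw [h4, h5]

end Cfsg.Agent.Lib.Helper15.NIL
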