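import Cfsg.Agent.Lib.Helper54.NIL.Defs

set_option autoImplicit false

namespace Cfsg.Agent.Lib.Helper15.NIL

open Module Cfsg.Agent.Lib.Helper54.NIL

variable {F V : Type*} [Field F] [AddCommGroup V] [Module F V]

/-- units of `p`-power order correspond to nilpotent elements in characteristic `p`. -/
noncomputable def unipEquiv (R : Type*) [Ring R] (p : ℕ) [Fact p.Prime] [CharP R p] :
    {u : Rˣ // ∃ k : ℕ, orderOf u = p ^ k} ≃ {x : R // IsNilpotent x} where
  toFun u := ⟨(u.1 : R) - 1, by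
    obtain ⟨k, hk⟩ := u.2
    refine ⟨p ^ k, ?_⟩
    have h1 : (u.1 : Rˣ) ^ (p ^ k) = 1 := by rw [← hk]; exact pow_orderOf_eq_one _
    have h2 : ((u.1 : Rˣ) : R) ^ (p ^ k) = 1 := by
      rw [← Units.val_pow_eq_pow_val, h1, Units.val_one]
    rw [sub_pow_char_pow_of_commute _ _ (Commute.one_right _), h2, one_pow, sub_self]⟩
  invFun x := ⟨x.2.isUnit_one_add.unit, by
    obtain ⟨m, hm⟩ := x.2
    have h1 : (x.1 : R) ^ (p ^ m) = 0 :=
      pow_eq_zero_of_le (Nat.lt_pow_self (Fact.out : p.Prime).one_lt).le hm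
    have h2 : (x.2.isUnit_one_add.unit) ^ (p ^ m) = 1 := by
      ext
      rw [Units.val_pow_eq_pow_val, IsUnit.unit_spec,
        add_pow_char_pow_of_commute _ _ (Commute.one_left _), h1, one_pow, add_zero, Units.val_one]
    obtain ⟨k, -, hk⟩ := (Nat.dvd_prime_pow (Fact.out : p.Prime)).1 (orderOf_dvd_of_pow_eq_one h2)
    exact ⟨k, hk⟩⟩
  left_inv u := by
    ext
    simp
  right_inv x := by
    ext
    simp

/-- [UNI] -/
theorem card_unipotent [Fintype F] (p : ℕ) [Fact p.Prime] [CharP F p] (n : ℕ) :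
    Nat.card {g : Matrix.GeneralLinearGroup (Fin n) F // ∃ k : ℕ, orderOf g = p ^ k} =
      Nat.card {N : Module.End F (Fin n → F) // IsNilpotent N} := by
  classical
  rcases Nat.eq_zero_or_pos n with rfl | hn
  · have h1 : Nat.card {g : Matrix.GeneralLinearGroup (Fin 0) F // ∃ k : ℕ, orderOf g = p ^ k}
        = 1 := by
      rw [Nat.card_eq_one_iff_unique]
      refine ⟨⟨fun a b => Subtype.ext (Subsingleton.elim _ _)⟩, ⟨⟨1, 0, by simp⟩⟩⟩
    have h2 : Nat.card {N : Module.End F (Fin 0 → F) // IsNilpotent N} = 1 := by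
      rw [Nat.card_eq_one_iff_unique]
      refine ⟨⟨fun a b => Subtype.ext (LinearMap.ext fun x => Subsingleton.elim _ _)⟩,
        ⟨⟨0, IsNilpotent.zero⟩⟩⟩
    rw [h1, h2]
  · have : Nonempty (Fin n) := ⟨⟨0, hn⟩⟩
    refine Nat.card_congr ((unipEquiv (Matrix (Fin n) (Fin n) F) p).trans ?_)
    refine (Matrix.toLinAlgEquiv' (R := F) (n := Fin n)).toEquiv.subtypeEquiv ?_
    intro M
    exact (IsNilpotent.map_iff (f := (Matrix.toLinAlgEquiv' (R := F) (n := Fin n)))
      (Matrix.toLinAlgEquiv' (R := F) (n := Fin n)).injective).symm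

end Cfsg.Agent.Lib.Helper15.NIL
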