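import Mathlib
import Cfsg.Agent.Lib.Helper15.ZJ

set_option autoImplicit false

/-! ZJ-theorem for strongly closed subgroups `D` of a Sylow subgroup. -/

namespace Cfsg.Agent.Lib.Helper15.ZJ

variable {G : Type*} [Group G] {H : Type*} [Group H]

/-- Glauberman replacement inside a subgroup `D` normalized by `S`. -/
theorem replacementD [Finite G] {p : ℕ} [Fact p.Prime] (hp : p ≠ 2) {S B A D : Subgroup G}
    (hS : IsPGroup p S) (hBS : B ≤ S) (hBn : ∀ s ∈ S, ∀ x ∈ B, s * x * s⁻¹ ∈ B) (hAS : A ≤ S)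
    (hDn : ∀ s ∈ S, ∀ x ∈ D, s * x * s⁻¹ ∈ D) (hAD : A ≤ D)
    {e : ℕ} (he : e = 0 ∨ Odd e) (hA : PE e A)
    (hBA : ∀ x ∈ B, ∀ y ∈ B, x * y * x⁻¹ * y⁻¹ ∈ A)
    (hnot : ¬ B ≤ Subgroup.normalizer (A : Set G)) :
    ∃ A' : Subgroup G, A' ≤ D ∧ PE e A' ∧ Nat.card A' = Nat.card A ∧ A ⊓ B < A' ⊓ B ∧
      A' ≤ Subgroup.normalizer (A : Set G) := by
  have hBn' : (B.subgroupOf S).Normal := by
    constructor
    intro x hx s
    rw [Subgroup.mem_subgroupOf] at hx ⊢
    exact hBn s s.2 x hx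
  have hAc : IsMulCommutative (A.subgroupOf S) :=
    ⟨⟨fun x y => Subtype.ext (Subtype.ext (hA.1 _ x.2 _ y.2))⟩⟩
  have hBA' : ⁅B.subgroupOf S, B.subgroupOf S⁆ ≤ A.subgroupOf S := by
    rw [Subgroup.commutator_le]
    intro x hx y hy
    rw [Subgroup.mem_subgroupOf] at hx hy ⊢
    exact hBA _ hx _ hy
  have hN : ∀ x : S, x ∈ Subgroup.normalizer ((A.subgroupOf S : Subgroup S) : Set S) →
      (x : G) ∈ Subgroup.normalizer (A : Set G) := by
    intro x hx
    apply Repl.mem_normalizer_of_conj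
    intro a ha
    have := (Subgroup.mem_normalizer_iff.1 hx ⟨a, hAS ha⟩).1 ha
    exact this
  have hnot' : ¬ B.subgroupOf S ≤ Subgroup.normalizer ((A.subgroupOf S : Subgroup S) : Set S) := by
    intro h
    apply hnot
    intro x hx
    exact hN ⟨x, hBS hx⟩ (h hx)
  obtain ⟨b, hb, hbN, hbA⟩ := Cfsg.Agent.S0649.result (p := p) (S := S) hS (B.subgroupOf S)
    (fun h => absurd h hp) (A.subgroupOf S) hAc hBA' hnot'
  have hd : Repl.Data (A.subgroupOf S) (B.subgroupOf S) b :=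
    { Bn := hBn'
      Acomm := fun x hx y hy => Subtype.ext (hA.1 _ hx _ hy)
      BA := fun x hx y hy => hBA' (Subgroup.commutator_mem_commutator hx hy)
      hb := hb
      hbN := hbN
      hbA := hbA
      odd := by
        right
        obtain ⟨k, hk⟩ := (IsPGroup.iff_orderOf.mp hS) b
        have hodd : Odd (orderOf b) := by
          rw [hk]
          exact ((Fact.out : p.Prime).odd_of_ne_two hp).pow
        obtain ⟨j, hj⟩ := hodd
        refine ⟨j + 1, ?_⟩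
        rw [← pow_mul, show 2 * (j + 1) = orderOf b + 1 by omega, pow_succ, pow_orderOf_eq_one,
          one_mul] }
  refine ⟨(Repl.Astar (A.subgroupOf S) b).map S.subtype, ?_, ?_, ?_, ?_, ?_⟩
  · rintro _ ⟨x, hx, rfl⟩
    obtain ⟨k, hk, a, ha, rfl⟩ := hd.mem_Astar.1 hx
    have hk' : (k : G) ∈ D := hAD hk.1
    have ha' : (a : G) ∈ D := hAD ha
    have h1 : ((b⁻¹ : S) : G) * (a : G)⁻¹ * ((b⁻¹ : S) : G)⁻¹ ∈ D :=
      hDn _ (b⁻¹).2 _ (D.inv_mem ha')
    have h2 : S.subtype (k * Repl.cc b a) =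
        (k : G) * ((a : G) * (((b⁻¹ : S) : G) * (a : G)⁻¹ * ((b⁻¹ : S) : G)⁻¹)) := by
      simp [Repl.cc, mul_assoc]
    rw [h2]
    exact D.mul_mem hk' (D.mul_mem ha' h1)
  · rw [PE_map_iff (T := ⊤) S.subtype S.subtype_injective.injOn le_top]
    refine ⟨fun x hx y hy => hd.Astar_comm hx hy, fun a ha => ?_⟩
    rcases he with he | he
    · rw [he, pow_zero]
    · apply hd.pow_eq_one he _ ha
      intro a ha
      exact Subtype.ext (hA.2 _ ha)
  · rw [card_map_of_injOn (T := ⊤) S.subtype S.subtype_injective.injOn le_top, hd.card_Astar]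
    exact Nat.card_congr (Subgroup.subgroupOfEquivOfLe hAS).toEquiv
  · rw [SetLike.lt_iff_le_and_exists]
    constructor
    · intro x hx
      refine ⟨⟨⟨x, hAS hx.1⟩, ?_, rfl⟩, hx.2⟩
      exact hd.D_le_Astar (hd.AB_le_D ⟨hx.1, hx.2⟩)
    · obtain ⟨a, ha, hna⟩ := hd.exists_cc_not_mem
      exact ⟨_, ⟨⟨_, hd.cc_mem_Astar ha, rfl⟩, hd.cc_mem_B a⟩, fun h => hna h.1⟩
  · rintro _ ⟨x, hx, rfl⟩
    exact hN x (hd.Astar_le_N hx)

/-- `D` is strongly closed in `S` with respect to `G`. -/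
def SC (D S : Subgroup G) : Prop :=
  D ≤ S ∧ ∀ d ∈ D, ∀ g : G, g * d * g⁻¹ ∈ S → g * d * g⁻¹ ∈ D

theorem SC_self (S : Subgroup G) : SC S S := ⟨le_rfl, fun _ _ _ h => h⟩

theorem SC.le_normalizer [Finite G] {D S : Subgroup G} (h : SC D S) :
    S ≤ Subgroup.normalizer (D : Set G) := by
  intro s hs
  apply Repl.mem_normalizer_of_conj
  intro d hd
  exact h.2 d hd s (S.mul_mem (S.mul_mem hs (h.1 hd)) (S.inv_mem hs))

theorem SC.normalizer_le [Finite G] {D S : Subgroup G} (h : SC D S) :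
    Subgroup.normalizer (S : Set G) ≤ Subgroup.normalizer (D : Set G) := by
  intro s hs
  apply Repl.mem_normalizer_of_conj
  intro d hd
  exact h.2 d hd s ((Subgroup.mem_normalizer_iff.1 hs d).1 (h.1 hd))

theorem inf_normal_auxD [Finite G] {p : ℕ} [Fact p.Prime] (hp : p ≠ 2) {e : ℕ}
    (he : e = 0 ∨ Odd e) (S : Sylow p G) (hst : PStab p (S : Subgroup G)) {D : Subgroup G}
    (hD : SC D (S : Subgroup G)) :
    ∀ (n : ℕ) (B : Subgroup G), Nat.card B = n → B.Normal → IsPGroup p B →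
      (ZE e D ⊓ B).Normal := by
  intro n
  induction n using Nat.strong_induction_on with
  | _ n ih =>
  intro B hBn hBnorm hBp
  set Z := ZE e D with hZ
  have hBS : B ≤ S := hBp.le_sylow_of_normal S
  have hSZ : ∀ s ∈ (S : Subgroup G), ∀ z ∈ Z, s * z * s⁻¹ ∈ Z :=
    fun s hs z hz => conj_mem_ZE (hD.le_normalizer hs) hz
  have hcardlt : ∀ C : Subgroup G, C < B → Nat.card C < n := by
    intro C hC
    rw [← hBn]
    by_contra hcon
    push Not at hcon
    exact hC.ne (Subgroup.eq_of_le_of_card_ge hC.le hcon)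
  by_cases hB1 : Subgroup.normalClosure ((Z ⊓ B : Subgroup G) : Set G) = B
  swap
  · have hB1le : Subgroup.normalClosure ((Z ⊓ B : Subgroup G) : Set G) ≤ B :=
      Subgroup.normalClosure_le_normal (inf_le_right : Z ⊓ B ≤ B)
    have := ih _ (hcardlt _ (lt_of_le_of_ne hB1le hB1)) _ rfl Subgroup.normalClosure_normal
      (hBp.to_le hB1le)
    have heq : Z ⊓ B = Z ⊓ Subgroup.normalClosure ((Z ⊓ B : Subgroup G) : Set G) :=
      le_antisymm (le_inf inf_le_left Subgroup.le_normalClosure) (inf_le_inf_left _ hB1le)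
    rw [heq]
    exact this
  by_cases hbot : B = ⊥
  · rw [hbot, inf_bot_eq]
    infer_instance
  have hB' : ⁅B, B⁆ < B := commutator_lt hBp hbot
  have hM : (Z ⊓ ⁅B, B⁆).Normal :=
    ih _ (hcardlt _ hB') _ rfl (Subgroup.commutator_normal B B) (hBp.to_le hB'.le)
  have hBZ : ∀ x ∈ B, ∀ y ∈ B, x * y * x⁻¹ * y⁻¹ ∈ Z := by
    intro x hx y hy
    have h := comm_mem_of_normalClosure (W := Z ⊓ B) hM hBnorm (by
      intro z hz y hy
      refine ⟨?_, Subgroup.commutator_mem_commutator hz.2 hy⟩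
      have : z * y * z⁻¹ * y⁻¹ = z * (y * z⁻¹ * y⁻¹) := by group
      rw [this]
      exact Z.mul_mem hz.1 (hSZ y (hBS hy) _ (Z.inv_mem hz.1)))
    rw [hB1] at h
    exact (h x hx y hy).1
  set N1 := Subgroup.normalizer ((Z ⊓ B : Subgroup G) : Set G) with hN1
  set L := N1.normalCore with hL
  set T := (S : Subgroup G) ⊓ L with hT
  set DT := D ⊓ L with hDT
  have hfr : Subgroup.normalizer (T : Set G) ⊔ L = ⊤ := frattini S L
  have hDTD : DT ≤ D := inf_le_left
  have hLN1 : L ≤ N1 := Subgroup.normalCore_le N1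
  have hNT : Subgroup.normalizer (T : Set G) ≤ Subgroup.normalizer (DT : Set G) := by
    intro g hg
    apply Repl.mem_normalizer_of_conj
    intro x hx
    have h1 : g * x * g⁻¹ ∈ T := (Subgroup.mem_normalizer_iff.1 hg x).1 ⟨hD.1 hx.1, hx.2⟩
    exact ⟨hD.2 x hx.1 g h1.1, h1.2⟩
  have hSN1 : (S : Subgroup G) ≤ N1 := by
    intro s hs
    apply Repl.mem_normalizer_of_conj
    intro x hx
    exact ⟨hSZ s hs x hx.1, hBnorm.conj_mem x hx.2 s⟩
  have hCN1 : Subgroup.centralizer (B : Set G) ≤ N1 := by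
    intro c hc
    apply Repl.mem_normalizer_of_conj
    intro x hx
    have : c * x * c⁻¹ = x := by
      rw [← Subgroup.mem_centralizer_iff.1 hc x hx.2]; group
    rw [this]
    exact hx
  rw [← Subgroup.normalizer_eq_top_iff, eq_top_iff]
  by_cases hall : ∀ A ∈ AE e D, A ≤ L
  · have hZT : ZE e DT = Z := ZE_eq_of_forall_le hDTD (fun A hA => le_inf hA.1 (hall A hA))
    rw [← hfr]
    refine sup_le ?_ hLN1
    intro g hg
    apply Repl.mem_normalizer_of_conj
    intro x hx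
    refine ⟨?_, hBnorm.conj_mem x hx.2 g⟩
    rw [← hZT]
    apply conj_mem_ZE (hNT hg)
    rw [hZT]
    exact hx.1
  exfalso
  push Not at hall
  obtain ⟨A0, hA0, hA0L⟩ := hall
  obtain ⟨A, ⟨hA, hAL⟩, hmax⟩ := Set.exists_max_image
    {A : Subgroup G | A ∈ AE e D ∧ ¬ A ≤ L}
    (fun A => Nat.card (A ⊓ B : Subgroup G)) (Set.toFinite _) ⟨A0, hA0, hA0L⟩
  by_cases hBNA : B ≤ Subgroup.normalizer (A : Set G)
  · apply hAL
    intro a ha
    obtain ⟨K, hK, haK, hKp⟩ := hst B hBnorm hBp a (hD.1 (hA.1 ha))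
      (quad_of_normalizes hA.2.1.1 hBNA ha)
    have h1 : K ≤ Subgroup.centralizer (B : Set G) ⊔ (S : Subgroup G) :=
      le_sup_sylow S hK inferInstance hKp
    have h2 : K ≤ N1 := h1.trans (sup_le hCN1 hSN1)
    exact (Subgroup.normal_le_normalCore.2 h2) haK
  · obtain ⟨A', hA'S, hA'PE, hcard, hlt, hA'N⟩ := replacementD hp S.2 hBS
      (fun s _ x hx => hBnorm.conj_mem x hx s) (hA.1.trans hD.1)
      (fun s hs x hx => (Subgroup.mem_normalizer_iff.1 (hD.le_normalizer hs) x).1 hx) hA.1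
      he hA.2.1 (fun x hx y hy => ZE_le_of_mem hA (hBZ x hx y hy)) hBNA
    have hA'mem : A' ∈ AE e D :=
      ⟨hA'S, hA'PE, fun C hC hC' => (hA.2.2 C hC hC').trans (le_of_eq hcard.symm)⟩
    have hA'L : A' ≤ L := by
      by_contra hcon
      have := hmax A' ⟨hA'mem, hcon⟩
      exact hlt.ne (Subgroup.eq_of_le_of_card_ge hlt.le this)
    have hA'T : A' ≤ DT := le_inf hA'S hA'L
    have hZZT : Z ≤ ZE e DT := ZE_le_ZE_sub hDTD hA'mem hA'T
    have hZTA' : ZE e DT ≤ A' :=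
      ZE_le_of_mem ((mem_AE_sub_iff hDTD hA'mem hA'T).2 ⟨hA'mem, hA'T⟩)
    apply hBNA
    refine le_trans ?_ (hZTA'.trans hA'N)
    rw [← hB1]
    unfold Subgroup.normalClosure
    rw [Subgroup.closure_le]
    intro y hy
    rw [Group.mem_conjugatesOfSet_iff] at hy
    obtain ⟨x, hx, hxy⟩ := hy
    rw [isConj_iff] at hxy
    obtain ⟨g, rfl⟩ := hxy
    have hg : g ∈ Subgroup.normalizer (T : Set G) ⊔ L := by rw [hfr]; trivial
    rw [Subgroup.mem_sup_of_normal_right] at hg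
    obtain ⟨n', hn', l, hl, rfl⟩ := hg
    have h1 : l * x * l⁻¹ ∈ Z ⊓ B := (Subgroup.mem_normalizer_iff.1 (hLN1 hl) x).1 hx
    have h2 : n' * l * x * (n' * l)⁻¹ = n' * (l * x * l⁻¹) * n'⁻¹ := by group
    rw [h2]
    exact conj_mem_ZE (hNT hn') (hZZT h1.1)

theorem inf_normalD [Finite G] {p : ℕ} [Fact p.Prime] (hp : p ≠ 2) {e : ℕ}
    (he : e = 0 ∨ Odd e) (S : Sylow p G) (hst : PStab p (S : Subgroup G)) {D : Subgroup G}
    (hD : SC D (S : Subgroup G)) (B : Subgroup G) (hB : B.Normal) (hBp : IsPGroup p B) :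
    (ZE e D ⊓ B).Normal :=
  inf_normal_auxD hp he S hst hD _ B rfl hB hBp

/-- abstract ZJ-theorem for a strongly closed subgroup: normality. -/
theorem ZE_normalD [Finite G] {p : ℕ} [Fact p.Prime] (hp : p ≠ 2) {e : ℕ}
    (he : e = 0 ∨ Odd e) (S : Sylow p G) (hst : PStab p (S : Subgroup G)) {D : Subgroup G}
    (hD : SC D (S : Subgroup G))
    {Q : Subgroup G} (hQ : Q.Normal) (hQp : IsPGroup p Q)
    (hc : Subgroup.centralizer (Q : Set G) ≤ Q) : (ZE e D).Normal := by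
  set Z := ZE e D with hZ
  have hQS : Q ≤ S := hQp.le_sylow_of_normal S
  have hZS : Z ≤ S := (ZE_le e _).trans hD.1
  have hQN : Q ≤ Subgroup.normalizer (Z : Set G) :=
    (hQS.trans hD.le_normalizer).trans (normalizer_le_normalizer_ZE e _)
  have hcl : Subgroup.normalClosure (Z : Set G) ≤ S := by
    unfold Subgroup.normalClosure
    rw [Subgroup.closure_le]
    intro y hy
    rw [Group.mem_conjugatesOfSet_iff] at hy
    obtain ⟨z, hz, hzy⟩ := hy
    rw [isConj_iff] at hzy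
    obtain ⟨g, rfl⟩ := hzy
    obtain ⟨K, hK, hzK, hKp⟩ := hst Q hQ hQp z (hZS hz)
      (quad_of_normalizes (ZE_PE e _).1 hQN hz)
    have h1 : K ≤ Subgroup.centralizer (Q : Set G) ⊔ (S : Subgroup G) :=
      le_sup_sylow S hK inferInstance hKp
    exact (h1.trans (sup_le (hc.trans hQS) le_rfl)) (hK.conj_mem z hzK g)
  have h := inf_normalD hp he S hst hD _ Subgroup.normalClosure_normal (S.2.to_le hcl)
  rwa [inf_of_le_left Subgroup.le_normalClosure] at h

end Cfsg.Agent.Lib.Helper15.ZJ
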