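import Mathlib
import Cfsg.Agent.Lib.Helper15.ZJ2

set_option autoImplicit false

/-! Passage to `G / O` for a normal `p'`-subgroup `O`; the factorization `G = O N_G(ZE e D)`. -/

namespace Cfsg.Agent.Lib.Helper15.ZJ

open Cfsg.Agent.Lib.Helper40

variable {G : Type*} [Group G]

/-- local form of `p`-stability, relative to a normal subgroup `O`. -/
def LStab (p : ℕ) (O P : Subgroup G) : Prop :=
  ∀ R : Subgroup G, R ≤ P → (O ⊔ R).Normal → ∀ a ∈ P, a ∈ Subgroup.normalizer (R : Set G) →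
    ⁅⁅R, Subgroup.zpowers a⁆, Subgroup.zpowers a⁆ = ⊥ →
    ∃ K : Subgroup G, K ≤ Subgroup.normalizer (R : Set G) ∧
      Subgroup.normalizer (R : Set G) ≤ Subgroup.normalizer (K : Set G) ∧ a ∈ K ∧
      ∀ k ∈ K, ∃ n : ℕ, k ^ p ^ n ∈ Subgroup.centralizer (R : Set G)

theorem commutator_le_of_le {A B C : Subgroup G} (hA : A ≤ C) (hB : B ≤ C) : ⁅A, B⁆ ≤ C := by
  rw [Subgroup.commutator_le]
  intro a ha b hb
  rw [commutatorElement_def]
  exact C.mul_mem (C.mul_mem (C.mul_mem (hA ha) (hB hb)) (C.inv_mem (hA ha))) (C.inv_mem (hB hb))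

section quot

variable [Finite G] {p : ℕ} [Fact p.Prime] (O : Subgroup G) [O.Normal]
  (hO : (Nat.card O).Coprime p) (P : Sylow p G)

omit [Finite G] [Fact p.Prime] in
theorem mk'_eq_one {x : G} (hx : x ∈ O) : QuotientGroup.mk' O x = 1 :=
  (QuotientGroup.eq_one_iff x).2 hx

include hO in
theorem injOn_mk : Set.InjOn (QuotientGroup.mk' O) ((P : Subgroup G) : Set G) := by
  intro x hx y hy hxy
  have h1 : x⁻¹ * y ∈ O := QuotientGroup.eq.1 hxy
  have h2 : x⁻¹ * y ∈ (P : Subgroup G) := mul_mem (inv_mem hx) hy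
  have h3 : (P : Subgroup G) ⊓ O = ⊥ := by
    apply Disjoint.eq_bot
    apply Subgroup.disjoint_of_coprime_natCard
    obtain ⟨n, hn⟩ := IsPGroup.iff_card.1 P.2
    rw [hn]
    exact (Nat.Coprime.pow_left n hO.symm)
  have h4 : x⁻¹ * y ∈ (P : Subgroup G) ⊓ O := ⟨h2, h1⟩
  rw [h3, Subgroup.mem_bot] at h4
  exact (inv_mul_eq_one.1 h4)

omit [Finite G] [Fact p.Prime] in
theorem lift_map {V : Subgroup (G ⧸ O)} (hV : V ≤ (P : Subgroup G).map (QuotientGroup.mk' O)) :
    ((P : Subgroup G) ⊓ V.comap (QuotientGroup.mk' O)).map (QuotientGroup.mk' O) = V := by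
  apply le_antisymm
  · rintro _ ⟨x, hx, rfl⟩
    exact hx.2
  · intro v hv
    obtain ⟨x, hx, rfl⟩ := hV hv
    exact ⟨x, ⟨hx, hv⟩, rfl⟩

theorem lift_comap {V : Subgroup (G ⧸ O)} (hV : V ≤ (P : Subgroup G).map (QuotientGroup.mk' O)) :
    V.comap (QuotientGroup.mk' O) = O ⊔ ((P : Subgroup G) ⊓ V.comap (QuotientGroup.mk' O)) := by
  apply le_antisymm
  · intro x hx
    obtain ⟨s, hs, hsx⟩ := hV hx
    have h1 : s⁻¹ * x ∈ O := QuotientGroup.eq.1 hsx
    have h2 : x = s * (s⁻¹ * x) := by group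
    rw [h2]
    refine Subgroup.mul_mem _ (Subgroup.mem_sup_right ⟨hs, ?_⟩) (Subgroup.mem_sup_left h1)
    change QuotientGroup.mk' O s ∈ V
    rw [hsx]
    exact hx
  · apply sup_le
    · intro x hx
      change QuotientGroup.mk' O x ∈ V
      rw [mk'_eq_one O hx]
      exact V.one_mem
    · exact inf_le_right

theorem lift_frattini {V : Subgroup (G ⧸ O)} [V.Normal]
    (hV : V ≤ (P : Subgroup G).map (QuotientGroup.mk' O)) :
    Subgroup.normalizer (((P : Subgroup G) ⊓ V.comap (QuotientGroup.mk' O) : Subgroup G) : Set G) ⊔ O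
      = ⊤ := by
  have h := frattini P (V.comap (QuotientGroup.mk' O))
  rw [eq_top_iff, ← h]
  apply sup_le le_sup_left
  conv_lhs => rw [lift_comap O P hV]
  exact sup_le le_sup_right (Subgroup.le_normalizer.trans le_sup_left)

include hO in
theorem lift_centralizer {V : Subgroup (G ⧸ O)} {n : G}
    (hn : n ∈ Subgroup.normalizer
      (((P : Subgroup G) ⊓ V.comap (QuotientGroup.mk' O) : Subgroup G) : Set G))
    (hc : QuotientGroup.mk' O n ∈ Subgroup.centralizer (V : Set (G ⧸ O))) :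
    n ∈ Subgroup.centralizer
      (((P : Subgroup G) ⊓ V.comap (QuotientGroup.mk' O) : Subgroup G) : Set G) := by
  rw [Subgroup.mem_centralizer_iff]
  intro r hr
  have h1 := (Subgroup.mem_normalizer_iff.1 hn r).1 hr
  have h2 : QuotientGroup.mk' O (n * r * n⁻¹) = QuotientGroup.mk' O r := by
    rw [map_mul, map_mul, map_inv, ← Subgroup.mem_centralizer_iff.1 hc _ hr.2]
    group
  have h3 := injOn_mk O hO P h1.1 hr.1 h2
  calc r * n = (n * r * n⁻¹) * n := by rw [h3]
    _ = n * r := by group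

include hO in
theorem PStab_quot (h : LStab p O (P : Subgroup G)) :
    PStab p ((P : Subgroup G).map (QuotientGroup.mk' O)) := by
  intro V hV hVp a' ha' hq
  obtain ⟨a, ha, rfl⟩ := ha'
  have hsurj : Function.Surjective (QuotientGroup.mk' O) := QuotientGroup.mk'_surjective O
  have hVP : V ≤ (P : Subgroup G).map (QuotientGroup.mk' O) :=
    hVp.le_sylow_of_normal (P.mapSurjective hsurj)
  set R := (P : Subgroup G) ⊓ V.comap (QuotientGroup.mk' O) with hR
  have hRn : (O ⊔ R).Normal := by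
    rw [hR, ← lift_comap O P hVP]
    infer_instance
  have haN : a ∈ Subgroup.normalizer (R : Set G) := by
    apply Repl.mem_normalizer_of_conj
    intro x hx
    refine ⟨(P : Subgroup G).mul_mem ((P : Subgroup G).mul_mem ha hx.1)
      ((P : Subgroup G).inv_mem ha), ?_⟩
    change QuotientGroup.mk' O (a * x * a⁻¹) ∈ V
    rw [map_mul, map_mul, map_inv]
    exact hV.conj_mem _ hx.2 _
  have hza : Subgroup.zpowers a ≤ (P : Subgroup G) := by rwa [Subgroup.zpowers_le]
  have hquad : ⁅⁅R, Subgroup.zpowers a⁆, Subgroup.zpowers a⁆ = ⊥ := by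
    have hle : ⁅⁅R, Subgroup.zpowers a⁆, Subgroup.zpowers a⁆ ≤ (P : Subgroup G) :=
      commutator_le_of_le (commutator_le_of_le inf_le_left hza) hza
    have hmap : (⁅⁅R, Subgroup.zpowers a⁆, Subgroup.zpowers a⁆).map (QuotientGroup.mk' O) = ⊥ := by
      rw [Subgroup.map_commutator, Subgroup.map_commutator, hR, lift_map O P hVP,
        MonoidHom.map_zpowers]
      exact hq
    rw [eq_bot_iff]
    intro x hx
    have h1 : QuotientGroup.mk' O x ∈
        (⁅⁅R, Subgroup.zpowers a⁆, Subgroup.zpowers a⁆).map (QuotientGroup.mk' O) :=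
      Subgroup.mem_map_of_mem _ hx
    rw [hmap, Subgroup.mem_bot] at h1
    rw [Subgroup.mem_bot]
    exact injOn_mk O hO P (hle hx) (P : Subgroup G).one_mem (by rw [h1, map_one])
  obtain ⟨K, hKN, hNK, haK, hKp⟩ := h R inf_le_left hRn a ha haN hquad
  refine ⟨K.map (QuotientGroup.mk' O), ?_, Subgroup.mem_map_of_mem _ haK, ?_⟩
  · constructor
    rintro _ ⟨k, hk, rfl⟩ g'
    obtain ⟨g, rfl⟩ := hsurj g'
    have hg : g ∈ Subgroup.normalizer (R : Set G) ⊔ O := by
      rw [hR, lift_frattini O P hVP]; trivial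
    rw [Subgroup.mem_sup_of_normal_right] at hg
    obtain ⟨n, hn, o, ho, rfl⟩ := hg
    have h1 : QuotientGroup.mk' O (n * o) = QuotientGroup.mk' O n := by
      rw [map_mul, mk'_eq_one O ho, mul_one]
    rw [h1, ← map_inv, ← map_mul, ← map_mul]
    exact Subgroup.mem_map_of_mem _ ((Subgroup.mem_normalizer_iff.1 (hNK hn) k).1 hk)
  · rintro _ ⟨k, hk, rfl⟩
    obtain ⟨n, hn⟩ := hKp k hk
    refine ⟨n, ?_⟩
    rw [← map_pow, Subgroup.mem_centralizer_iff]
    intro v hv
    rw [← lift_map O P hVP] at hv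
    obtain ⟨r, hr, rfl⟩ := hv
    rw [← map_mul, ← map_mul, Subgroup.mem_centralizer_iff.1 hn r hr]

theorem SC_map {D : Subgroup G} (hD : SC D (P : Subgroup G)) :
    SC (D.map (QuotientGroup.mk' O)) ((P : Subgroup G).map (QuotientGroup.mk' O)) := by
  refine ⟨Subgroup.map_mono hD.1, ?_⟩
  rintro _ ⟨d, hd, rfl⟩ g' hg'
  obtain ⟨g, rfl⟩ := QuotientGroup.mk'_surjective O g'
  rw [← map_inv, ← map_mul, ← map_mul] at hg' ⊢
  obtain ⟨s, hs, hsx⟩ := hg'
  set x := g * d * g⁻¹ with hx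
  have h1 : s⁻¹ * x ∈ O := QuotientGroup.eq.1 hsx
  have hxH : x ∈ (P : Subgroup G) ⊔ O := by
    have h2 : x = s * (s⁻¹ * x) := by group
    rw [h2]
    exact Subgroup.mul_mem _ (Subgroup.mem_sup_left hs) (Subgroup.mem_sup_right h1)
  have hrel : RelSylow p (P : Subgroup G) ((P : Subgroup G) ⊔ O) := relSylow_of_sylow P le_sup_left
  have hpx : IsPGroup p (Subgroup.zpowers x) := by
    have h3 : Subgroup.zpowers x = (Subgroup.zpowers d).map (MulAut.conj g).toMonoidHom := by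
      rw [MonoidHom.map_zpowers]
      rfl
    rw [h3]
    exact (P.2.to_le (by rw [Subgroup.zpowers_le]; exact hD.1 hd)).map _
  obtain ⟨h, hh, hle⟩ := hrel.exists_conj_le (R := Subgroup.zpowers x)
    (by rwa [Subgroup.zpowers_le]) hpx
  have h4 : h * x * h⁻¹ ∈ (P : Subgroup G) := hle (conj_mem_cj (Subgroup.mem_zpowers x))
  rw [Subgroup.mem_sup_of_normal_right] at hh
  obtain ⟨t, ht, o, ho, rfl⟩ := hh
  have h5 : o * x * o⁻¹ ∈ (P : Subgroup G) := by
    have : o * x * o⁻¹ = t⁻¹ * (t * o * x * (t * o)⁻¹) * t := by group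
    rw [this]
    exact mul_mem (mul_mem (inv_mem ht) h4) ht
  have h6 : (o * g) * d * (o * g)⁻¹ ∈ D := by
    apply hD.2 d hd
    have : (o * g) * d * (o * g)⁻¹ = o * x * o⁻¹ := by rw [hx]; group
    rw [this]
    exact h5
  refine ⟨_, h6, ?_⟩
  have : (o * g) * d * (o * g)⁻¹ = o * x * o⁻¹ := by rw [hx]; group
  rw [this, map_mul, map_mul, map_inv, mk'_eq_one O ho]
  simp

include hO in
/-- the factorization `G = O N_G(ZE e D)`. -/
theorem factorization (hp : p ≠ 2) {e : ℕ} (he : e = 0 ∨ Odd e)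
    (hst : LStab p O (P : Subgroup G)) {Q : Subgroup (G ⧸ O)} (hQ : Q.Normal) (hQp : IsPGroup p Q)
    (hc : Subgroup.centralizer (Q : Set (G ⧸ O)) ≤ Q) {D : Subgroup G}
    (hD : SC D (P : Subgroup G)) :
    O ⊔ Subgroup.normalizer (ZE e D : Set G) = ⊤ := by
  have hsurj : Function.Surjective (QuotientGroup.mk' O) := QuotientGroup.mk'_surjective O
  have hinj := injOn_mk O hO P
  have hn : (ZE e (D.map (QuotientGroup.mk' O))).Normal :=
    ZE_normalD hp he (P.mapSurjective hsurj) (PStab_quot O hO P hst) (SC_map O P hD) hQ hQp hc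
  rw [ZE_map _ (hinj.mono hD.1)] at hn
  have hZP : ZE e D ≤ (P : Subgroup G) := (ZE_le e D).trans hD.1
  have hV : (ZE e D).map (QuotientGroup.mk' O) ≤ (P : Subgroup G).map (QuotientGroup.mk' O) :=
    Subgroup.map_mono hZP
  have h1 := lift_frattini O P hV
  have h2 : (P : Subgroup G) ⊓ ((ZE e D).map (QuotientGroup.mk' O)).comap (QuotientGroup.mk' O) =
      ZE e D := by
    apply le_antisymm
    · rintro x ⟨hx, z, hz, hzx⟩
      have := hinj (hZP hz) hx hzx
      rwa [← this]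
    · intro z hz
      exact ⟨hZP hz, Subgroup.mem_map_of_mem _ hz⟩
  rw [h2] at h1
  rw [sup_comm]
  exact h1

end quot

end Cfsg.Agent.Lib.Helper15.ZJ
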