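import Mathlib
import Cfsg.Prelude.Def_Local
import Cfsg.Prelude.Def_LocalEven
import Cfsg.Prelude.Def_TwoFusion
import Cfsg.Agent.Lib.Helper56.Cores
import Cfsg.Agent.Lib.Helper15.ZJBridge
import Cfsg.Agent.Lib.Helper15.ZJFact

set_option autoImplicit false

namespace Cfsg.Agent.Lib.Helper15.ZJ

open Cfsg.Agent.Lib.Helper40

variable {G : Type*} [Group G]

theorem SC_iff {D P : Subgroup G} : SC D P ↔ Cfsg.IsStronglyClosed D P := Iff.rfl

theorem exists_K_of_mem_pCore [Finite G] {p : ℕ} [Fact p.Prime] {R : Subgroup G} {a : G}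
    (haN : a ∈ Subgroup.normalizer (R : Set G))
    (h : (QuotientGroup.mk (s := (Subgroup.centralizer (R : Set G)).subgroupOf
        (Subgroup.normalizer (R : Set G))) (⟨a, haN⟩ : ↥(Subgroup.normalizer (R : Set G)))) ∈
      Cfsg.pCore p (↥(Subgroup.normalizer (R : Set G)) ⧸
        (Subgroup.centralizer (R : Set G)).subgroupOf (Subgroup.normalizer (R : Set G)))) :
    ∃ K : Subgroup G, K ≤ Subgroup.normalizer (R : Set G) ∧
      Subgroup.normalizer (R : Set G) ≤ Subgroup.normalizer (K : Set G) ∧ a ∈ K ∧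
      ∀ k ∈ K, ∃ n : ℕ, k ^ p ^ n ∈ Subgroup.centralizer (R : Set G) := by
  set N := Subgroup.normalizer (R : Set G) with hN
  set C := (Subgroup.centralizer (R : Set G)).subgroupOf N with hC
  have hn : (Cfsg.pCore p (↥N ⧸ C)).Normal := Cfsg.Agent.Lib.Helper51.pCore_normal p
  have hK0 : ((Cfsg.pCore p (↥N ⧸ C)).comap (QuotientGroup.mk' C)).Normal := inferInstance
  refine ⟨((Cfsg.pCore p (↥N ⧸ C)).comap (QuotientGroup.mk' C)).map N.subtype,
    Subgroup.map_subtype_le _, ?_, ⟨⟨a, haN⟩, h, rfl⟩, ?_⟩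
  · intro n hn'
    apply Repl.mem_normalizer_of_conj
    rintro _ ⟨k, hk, rfl⟩
    exact ⟨⟨n, hn'⟩ * k * ⟨n, hn'⟩⁻¹, hK0.conj_mem k hk ⟨n, hn'⟩, rfl⟩
  · rintro _ ⟨k, hk, rfl⟩
    have hp := Cfsg.Agent.Lib.Helper51.pCore_isPGroup (G := ↥N ⧸ C) p
    obtain ⟨n, hn'⟩ := hp ⟨_, hk⟩
    refine ⟨n, ?_⟩
    have h1 := congrArg Subtype.val hn'
    rw [Subgroup.coe_pow, Subgroup.coe_one] at h1
    change (QuotientGroup.mk' C k) ^ p ^ n = 1 at h1
    rw [← map_pow] at h1
    have h2 : k ^ p ^ n ∈ C := (QuotientGroup.eq_one_iff _).1 h1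
    exact h2

theorem LStab_of_isNormalizerPStable [Finite G] {p : ℕ} [Fact p.Prime]
    (hst : Cfsg.IsNormalizerPStable p G) (O : Subgroup G) {P : Subgroup G} (hP : IsPGroup p P) :
    LStab p O P := by
  intro R hR _ a _ haN hq
  exact exists_K_of_mem_pCore haN (hst R (hP.to_le hR) a haN hq)

theorem PStab_of_isNormalizerPStable [Finite G] {p : ℕ} [Fact p.Prime]
    (hst : Cfsg.IsNormalizerPStable p G) (S : Subgroup G) : PStab p S := by
  intro V hV hVp a _ hq
  have haN : a ∈ Subgroup.normalizer (V : Set G) := by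
    rw [Subgroup.normalizer_eq_top]; trivial
  obtain ⟨K, -, hNK, haK, hKp⟩ := exists_K_of_mem_pCore haN (hst V hVp a haN hq)
  refine ⟨K, ?_, haK, hKp⟩
  rw [← Subgroup.normalizer_eq_top_iff, eq_top_iff]
  rw [Subgroup.normalizer_eq_top] at hNK
  exact hNK

theorem LStab_of_isPStable [Finite G] {p : ℕ} [Fact p.Prime] (hs : Cfsg.IsPStable p G)
    (P : Sylow p G) : LStab p (Cfsg.pPrimeCore p G) (P : Subgroup G) := by
  intro R hR hRn a ha haN hq
  have hza : Subgroup.zpowers a ≤ (P : Subgroup G) := by rwa [Subgroup.zpowers_le]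
  have hzN : Subgroup.zpowers a ≤ Subgroup.normalizer (R : Set G) := by rwa [Subgroup.zpowers_le]
  have hRp : IsPGroup p R := P.2.to_le hR
  have hRcore : R ≤ Cfsg.pPrimePCore p G := by
    have hsurj := QuotientGroup.mk'_surjective (Cfsg.pPrimeCore p G)
    have h1 : ((Cfsg.pPrimeCore p G ⊔ R).map (QuotientGroup.mk' (Cfsg.pPrimeCore p G))).Normal :=
      hRn.map _ hsurj
    have h2 : (Cfsg.pPrimeCore p G ⊔ R).map (QuotientGroup.mk' (Cfsg.pPrimeCore p G)) =
        R.map (QuotientGroup.mk' (Cfsg.pPrimeCore p G)) := by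
      rw [Subgroup.map_sup, QuotientGroup.map_mk'_self, bot_sup_eq]
    rw [h2] at h1
    have h3 := Cfsg.Agent.Lib.Helper51.le_pCore p h1 (hRp.map _)
    intro x hx
    exact h3 (Subgroup.mem_map_of_mem _ hx)
  have h := hs.2.2 (Subgroup.zpowers a) R (P.2.to_le hza) hRp
    (fun a' ha' x hx => (Subgroup.mem_normalizer_iff.1 (hzN ha') x).1 hx) hRcore hRn hq
  apply exists_K_of_mem_pCore haN
  apply h
  exact ⟨⟨a, haN⟩, Subgroup.mem_zpowers a, rfl⟩

theorem constrained_quot [Finite G] {p : ℕ} [Fact p.Prime] (hc : Cfsg.IsPConstrained p G) :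
    Subgroup.centralizer (Cfsg.pCore p (G ⧸ Cfsg.pPrimeCore p G) : Set (G ⧸ Cfsg.pPrimeCore p G)) ≤
      Cfsg.pCore p (G ⧸ Cfsg.pPrimeCore p G) := by
  obtain ⟨P⟩ : Nonempty (Sylow p G) := inferInstance
  set O := Cfsg.pPrimeCore p G with hO
  have hOc : (Nat.card O).Coprime p := Cfsg.Agent.Lib.Helper56.pPrimeCore_coprime p
  have hsurj := QuotientGroup.mk'_surjective O
  set Q := Cfsg.pCore p (G ⧸ O) with hQ
  have hQn : Q.Normal := Cfsg.Agent.Lib.Helper51.pCore_normal p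
  have hQP : Q ≤ (P : Subgroup G).map (QuotientGroup.mk' O) :=
    Cfsg.Agent.Lib.Helper51.pCore_le_sylow p (P.mapSurjective hsurj)
  have hKdef : Cfsg.pPrimePCore p G = Q.comap (QuotientGroup.mk' O) := rfl
  have hKn : (Cfsg.pPrimePCore p G).Normal := by rw [hKdef]; infer_instance
  have hrel : RelSylow p ((P : Subgroup G) ⊓ Cfsg.pPrimePCore p G) (Cfsg.pPrimePCore p G) :=
    (relSylow_of_sylow P le_top).inf_normal le_top (by rw [Subgroup.normalizer_eq_top])
  have h1 := hc hrel.toSylow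
  rw [RelSylow.coe_toSylow, Subgroup.subgroupOf_map_subtype, inf_assoc, inf_idem] at h1
  intro c' hc'
  obtain ⟨c, rfl⟩ := hsurj c'
  have hg : c ∈ Subgroup.normalizer
      (((P : Subgroup G) ⊓ Q.comap (QuotientGroup.mk' O) : Subgroup G) : Set G) ⊔ O := by
    rw [lift_frattini O P hQP]; trivial
  rw [Subgroup.mem_sup_of_normal_right] at hg
  obtain ⟨n, hn, o, ho, rfl⟩ := hg
  have h2 : QuotientGroup.mk' O (n * o) = QuotientGroup.mk' O n := by
    rw [map_mul, mk'_eq_one O ho, mul_one]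
  rw [h2] at hc' ⊢
  have h3 := lift_centralizer O hOc P hn hc'
  exact h1 h3

/-- Glauberman's factorization for `p`-constrained `p`-stable groups (strongly closed `D`). -/
theorem factorization_of_constrained_stable [Finite G] {p : ℕ} [Fact p.Prime] (hp : p ≠ 2) {e : ℕ}
    (he : e = 0 ∨ Odd e) (hc : Cfsg.IsPConstrained p G) (hs : Cfsg.IsPStable p G) (P : Sylow p G)
    {D : Subgroup G} (hD : SC D (P : Subgroup G)) :
    Cfsg.pPrimeCore p G ⊔ Subgroup.normalizer (ZE e D : Set G) = ⊤ :=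
  factorization (Cfsg.pPrimeCore p G) (Cfsg.Agent.Lib.Helper56.pPrimeCore_coprime p) P hp he
    (LStab_of_isPStable hs P) (Cfsg.Agent.Lib.Helper51.pCore_normal p)
    (Cfsg.Agent.Lib.Helper51.pCore_isPGroup p) (constrained_quot hc) hD

/-- the same with the normalizer form of `p`-stability. -/
theorem factorization_of_constrained_nstable [Finite G] {p : ℕ} [Fact p.Prime] (hp : p ≠ 2) {e : ℕ}
    (he : e = 0 ∨ Odd e) (hc : Cfsg.IsPConstrained p G) (hs : Cfsg.IsNormalizerPStable p G)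
    (P : Sylow p G) {D : Subgroup G} (hD : SC D (P : Subgroup G)) :
    Cfsg.pPrimeCore p G ⊔ Subgroup.normalizer (ZE e D : Set G) = ⊤ :=
  factorization (Cfsg.pPrimeCore p G) (Cfsg.Agent.Lib.Helper56.pPrimeCore_coprime p) P hp he
    (LStab_of_isNormalizerPStable hs _ P.2) (Cfsg.Agent.Lib.Helper51.pCore_normal p)
    (Cfsg.Agent.Lib.Helper51.pCore_isPGroup p) (constrained_quot hc) hD

end Cfsg.Agent.Lib.Helper15.ZJ
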