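import Mathlib
import Cfsg.Agent.Lib.Helper80.PSolv
import Cfsg.Agent.Lib.Helper15.ZJFactBridge

set_option autoImplicit false

/-! `IsPStable p G ↔ IsPStable p (G / O_{p'}(G))`. -/

namespace Cfsg.Agent.Lib.Helper15.ZJ

open Cfsg.Agent.Lib.Helper40

variable {G : Type*} [Group G]

theorem le_pCore_iff_exists_K [Finite G] {p : ℕ} [Fact p.Prime] {R A : Subgroup G}
    (hAN : A ≤ Subgroup.normalizer (R : Set G)) :
    (A.subgroupOf (Subgroup.normalizer (R : Set G))).map
        (QuotientGroup.mk' ((Subgroup.centralizer (R : Set G)).subgroupOf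
          (Subgroup.normalizer (R : Set G)))) ≤ Cfsg.pCore p _ ↔
    ∃ K : Subgroup G, K ≤ Subgroup.normalizer (R : Set G) ∧
      Subgroup.normalizer (R : Set G) ≤ Subgroup.normalizer (K : Set G) ∧ A ≤ K ∧
      ∀ k ∈ K, ∃ n : ℕ, k ^ p ^ n ∈ Subgroup.centralizer (R : Set G) := by
  set N := Subgroup.normalizer (R : Set G) with hN
  set C := (Subgroup.centralizer (R : Set G)).subgroupOf N with hC
  constructor
  · intro h
    have hn : (Cfsg.pCore p (↥N ⧸ C)).Normal := Cfsg.Agent.Lib.Helper51.pCore_normal p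
    have hK0 : ((Cfsg.pCore p (↥N ⧸ C)).comap (QuotientGroup.mk' C)).Normal := inferInstance
    refine ⟨((Cfsg.pCore p (↥N ⧸ C)).comap (QuotientGroup.mk' C)).map N.subtype,
      Subgroup.map_subtype_le _, ?_, ?_, ?_⟩
    · intro n hn'
      apply Repl.mem_normalizer_of_conj
      rintro _ ⟨k, hk, rfl⟩
      exact ⟨⟨n, hn'⟩ * k * ⟨n, hn'⟩⁻¹, hK0.conj_mem k hk ⟨n, hn'⟩, rfl⟩
    · intro a ha
      exact ⟨⟨a, hAN ha⟩, h ⟨⟨a, hAN ha⟩, ha, rfl⟩, rfl⟩
    · rintro _ ⟨k, hk, rfl⟩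
      have hp := Cfsg.Agent.Lib.Helper51.pCore_isPGroup (G := ↥N ⧸ C) p
      obtain ⟨n, hn'⟩ := hp ⟨_, hk⟩
      refine ⟨n, ?_⟩
      have h1 := congrArg Subtype.val hn'
      rw [Subgroup.coe_pow, Subgroup.coe_one] at h1
      change (QuotientGroup.mk' C k) ^ p ^ n = 1 at h1
      rw [← map_pow] at h1
      have h2 : k ^ p ^ n ∈ C := (QuotientGroup.eq_one_iff _).1 h1
      exact h2
  · rintro ⟨K, hKN, hNK, hAK, hKp⟩
    have hsurj := QuotientGroup.mk'_surjective C
    have hKn : (K.subgroupOf N).Normal := by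
      constructor
      intro k hk n
      rw [Subgroup.mem_subgroupOf] at hk ⊢
      exact (Subgroup.mem_normalizer_iff.1 (hNK n.2) k).1 hk
    have h1 : ((K.subgroupOf N).map (QuotientGroup.mk' C)).Normal := hKn.map _ hsurj
    have h2 : IsPGroup p ((K.subgroupOf N).map (QuotientGroup.mk' C)) := by
      rintro ⟨_, k, hk, rfl⟩
      obtain ⟨n, hn⟩ := hKp k hk
      refine ⟨n, Subtype.ext ?_⟩
      rw [Subgroup.coe_pow, Subgroup.coe_one]
      change (QuotientGroup.mk' C k) ^ p ^ n = 1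
      rw [← map_pow]
      apply (QuotientGroup.eq_one_iff _).2
      exact hn
    refine le_trans ?_ (Cfsg.Agent.Lib.Helper51.le_pCore p h1 h2)
    apply Subgroup.map_mono
    intro a ha
    exact hAK ha

theorem normal_pGroup_le_pPrimePCore {p : ℕ} {R : Subgroup G} (hRn : R.Normal)
    (hRp : IsPGroup p R) : R ≤ Cfsg.pPrimePCore p G := by
  have hsurj := QuotientGroup.mk'_surjective (Cfsg.pPrimeCore p G)
  have h3 := Cfsg.Agent.Lib.Helper51.le_pCore p (hRn.map _ hsurj) (hRp.map _)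
  intro x hx
  exact h3 (Subgroup.mem_map_of_mem _ hx)

theorem isPStable_quot [Finite G] {p : ℕ} [Fact p.Prime] (hs : Cfsg.IsPStable p G) :
    Cfsg.IsPStable p (G ⧸ Cfsg.pPrimeCore p G) := by
  set O := Cfsg.pPrimeCore p G with hO
  have hOc : (Nat.card O).Coprime p := Cfsg.Agent.Lib.Helper56.pPrimeCore_coprime p
  have hsurj : Function.Surjective (QuotientGroup.mk' O) := QuotientGroup.mk'_surjective O
  refine ⟨hs.1, ?_, ?_⟩
  · intro hbot
    apply hs.2.1
    obtain ⟨S⟩ : Nonempty (Sylow p G) := inferInstance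
    have h1 : (Cfsg.pCore p G).map (QuotientGroup.mk' O) ≤ Cfsg.pCore p (G ⧸ O) :=
      Cfsg.Agent.Lib.Helper51.le_pCore p
        ((Cfsg.Agent.Lib.Helper51.pCore_normal (G := G) p).map _ hsurj)
        ((Cfsg.Agent.Lib.Helper51.pCore_isPGroup (G := G) p).map _)
    rw [hbot] at h1
    rw [eq_bot_iff]
    intro x hx
    have h2 := h1 (Subgroup.mem_map_of_mem _ hx)
    rw [Subgroup.mem_bot] at h2 ⊢
    exact injOn_mk O hOc S (Cfsg.Agent.Lib.Helper51.pCore_le_sylow p S hx)
      (S : Subgroup G).one_mem (by rw [h2, map_one])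
  · intro A' P' hA'p hP'p hA'P' _ hP'n hq
    have hbot : Cfsg.pPrimeCore p (G ⧸ O) = ⊥ := Cfsg.Agent.Lib.Helper80.pPrimeCore_quotient_eq_bot
    rw [hbot, bot_sup_eq] at hP'n
    obtain ⟨S', hS'⟩ := hA'p.exists_le_sylow
    obtain ⟨S, rfl⟩ := Sylow.mapSurjective_surjective hsurj p S'
    have hA'S : A' ≤ (S : Subgroup G).map (QuotientGroup.mk' O) := hS'
    have hP'S : P' ≤ (S : Subgroup G).map (QuotientGroup.mk' O) :=
      hP'p.le_sylow_of_normal (S.mapSurjective hsurj)
    set A := (S : Subgroup G) ⊓ A'.comap (QuotientGroup.mk' O) with hA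
    set R := (S : Subgroup G) ⊓ P'.comap (QuotientGroup.mk' O) with hR
    have hAmap : A.map (QuotientGroup.mk' O) = A' := lift_map O S hA'S
    have hRmap : R.map (QuotientGroup.mk' O) = P' := lift_map O S hP'S
    have hAR : ∀ a ∈ A, ∀ x ∈ R, a * x * a⁻¹ ∈ R := by
      intro a ha x hx
      refine ⟨(S : Subgroup G).mul_mem ((S : Subgroup G).mul_mem ha.1 hx.1)
        ((S : Subgroup G).inv_mem ha.1), ?_⟩
      change QuotientGroup.mk' O (a * x * a⁻¹) ∈ P'
      rw [map_mul, map_mul, map_inv]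
      exact hP'n.conj_mem _ hx.2 _
    have hRn : (O ⊔ R).Normal := by
      rw [hR, ← lift_comap O S hP'S]
      infer_instance
    have hRcore : R ≤ Cfsg.pPrimePCore p G := by
      intro x hx
      exact Cfsg.Agent.Lib.Helper51.le_pCore p hP'n hP'p hx.2
    have hquad : ⁅⁅R, A⁆, A⁆ = ⊥ := by
      have hle : ⁅⁅R, A⁆, A⁆ ≤ (S : Subgroup G) :=
        commutator_le_of_le (commutator_le_of_le inf_le_left inf_le_left) inf_le_left
      have hmap : (⁅⁅R, A⁆, A⁆).map (QuotientGroup.mk' O) = ⊥ := by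
        rw [Subgroup.map_commutator, Subgroup.map_commutator, hRmap, hAmap]
        exact hq
      rw [eq_bot_iff]
      intro x hx
      have h1 : QuotientGroup.mk' O x ∈ (⁅⁅R, A⁆, A⁆).map (QuotientGroup.mk' O) :=
        Subgroup.mem_map_of_mem _ hx
      rw [hmap, Subgroup.mem_bot] at h1
      rw [Subgroup.mem_bot]
      exact injOn_mk O hOc S (hle hx) (S : Subgroup G).one_mem (by rw [h1, map_one])
    have hAN : A ≤ Subgroup.normalizer (R : Set G) := by
      intro a ha
      exact Repl.mem_normalizer_of_conj (hAR a ha)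
    have h := hs.2.2 A R (S.2.to_le inf_le_left) (S.2.to_le inf_le_left) hAR hRcore hRn hquad
    obtain ⟨K, hKN, hNK, hAK, hKp⟩ := (le_pCore_iff_exists_K hAN).1 h
    have hA'N : A' ≤ Subgroup.normalizer (P' : Set (G ⧸ O)) := by
      rw [Subgroup.normalizer_eq_top]; exact le_top
    rw [le_pCore_iff_exists_K hA'N]
    refine ⟨K.map (QuotientGroup.mk' O), ?_, ?_, ?_, ?_⟩
    · rw [Subgroup.normalizer_eq_top]; exact le_top
    · have hKn : (K.map (QuotientGroup.mk' O)).Normal := by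
        constructor
        rintro _ ⟨k, hk, rfl⟩ g'
        obtain ⟨g, rfl⟩ := hsurj g'
        have hg : g ∈ Subgroup.normalizer (R : Set G) ⊔ O := by
          rw [hR, lift_frattini O S hP'S]; trivial
        rw [Subgroup.mem_sup_of_normal_right] at hg
        obtain ⟨n, hn, o, ho, rfl⟩ := hg
        have h1 : QuotientGroup.mk' O (n * o) = QuotientGroup.mk' O n := by
          rw [map_mul, mk'_eq_one O ho, mul_one]
        rw [h1, ← map_inv, ← map_mul, ← map_mul]
        exact Subgroup.mem_map_of_mem _ ((Subgroup.mem_normalizer_iff.1 (hNK hn) k).1 hk)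
      rw [Subgroup.normalizer_eq_top (H := K.map (QuotientGroup.mk' O))]
      exact le_top
    · rw [← hAmap]
      exact Subgroup.map_mono hAK
    · rintro _ ⟨k, hk, rfl⟩
      obtain ⟨n, hn⟩ := hKp k hk
      refine ⟨n, ?_⟩
      rw [← map_pow, Subgroup.mem_centralizer_iff]
      intro v hv
      rw [← hRmap] at hv
      obtain ⟨r, hr, rfl⟩ := hv
      rw [← map_mul, ← map_mul, Subgroup.mem_centralizer_iff.1 hn r hr]

theorem isPStable_of_quot [Finite G] {p : ℕ} [Fact p.Prime] (hO1 : Cfsg.pCore p G ≠ ⊥)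
    (hs : Cfsg.IsPStable p (G ⧸ Cfsg.pPrimeCore p G)) : Cfsg.IsPStable p G := by
  set O := Cfsg.pPrimeCore p G with hO
  have hOc : (Nat.card O).Coprime p := Cfsg.Agent.Lib.Helper56.pPrimeCore_coprime p
  have hsurj : Function.Surjective (QuotientGroup.mk' O) := QuotientGroup.mk'_surjective O
  refine ⟨hs.1, hO1, ?_⟩
  intro A P hAp hPp hAP _ hPn hq
  have hAN : A ≤ Subgroup.normalizer (P : Set G) := by
    intro a ha
    exact Repl.mem_normalizer_of_conj (hAP a ha)
  have hP'n : (P.map (QuotientGroup.mk' O)).Normal := by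
    have h1 := hPn.map (QuotientGroup.mk' O) hsurj
    rwa [Subgroup.map_sup, QuotientGroup.map_mk'_self, bot_sup_eq] at h1
  have hq' : ⁅⁅P.map (QuotientGroup.mk' O), A.map (QuotientGroup.mk' O)⁆,
      A.map (QuotientGroup.mk' O)⁆ = ⊥ := by
    rw [← Subgroup.map_commutator, ← Subgroup.map_commutator, hq, Subgroup.map_bot]
  have h := hs.2.2 (A.map (QuotientGroup.mk' O)) (P.map (QuotientGroup.mk' O)) (hAp.map _)
    (hPp.map _) (fun a _ x hx => hP'n.conj_mem x hx a)
    (normal_pGroup_le_pPrimePCore hP'n (hPp.map _)) inferInstance hq'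
  have hA'N : A.map (QuotientGroup.mk' O) ≤
      Subgroup.normalizer ((P.map (QuotientGroup.mk' O) : Subgroup (G ⧸ O)) : Set (G ⧸ O)) := by
    rw [Subgroup.normalizer_eq_top]; exact le_top
  obtain ⟨K', -, hNK', hAK', hK'p⟩ := (le_pCore_iff_exists_K hA'N).1 h
  rw [Subgroup.normalizer_eq_top] at hNK'
  obtain ⟨S, hPS⟩ := hPp.exists_le_sylow
  rw [le_pCore_iff_exists_K hAN]
  refine ⟨Subgroup.normalizer (P : Set G) ⊓ K'.comap (QuotientGroup.mk' O), inf_le_left, ?_, ?_, ?_⟩
  · intro n hn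
    apply Repl.mem_normalizer_of_conj
    intro k hk
    refine ⟨Subgroup.mul_mem _ (Subgroup.mul_mem _ hn hk.1) (Subgroup.inv_mem _ hn), ?_⟩
    change QuotientGroup.mk' O (n * k * n⁻¹) ∈ K'
    rw [map_mul, map_mul, map_inv]
    exact (Subgroup.mem_normalizer_iff.1 (hNK' (Subgroup.mem_top _)) _).1 hk.2
  · intro a ha
    exact ⟨hAN ha, hAK' (Subgroup.mem_map_of_mem _ ha)⟩
  · intro k hk
    obtain ⟨n, hn⟩ := hK'p _ hk.2
    refine ⟨n, ?_⟩
    rw [← map_pow] at hn
    have hkN : k ^ p ^ n ∈ Subgroup.normalizer (P : Set G) := Subgroup.pow_mem _ hk.1 _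
    rw [Subgroup.mem_centralizer_iff]
    intro x hx
    have h1 := (Subgroup.mem_normalizer_iff.1 hkN x).1 hx
    have h2 : QuotientGroup.mk' O (k ^ p ^ n * x * (k ^ p ^ n)⁻¹) = QuotientGroup.mk' O x := by
      rw [map_mul, map_mul, map_inv,
        ← Subgroup.mem_centralizer_iff.1 hn _ (Subgroup.mem_map_of_mem _ hx)]
      group
    have h3 := injOn_mk O hOc S (hPS h1) (hPS hx) h2
    calc x * k ^ p ^ n = (k ^ p ^ n * x * (k ^ p ^ n)⁻¹) * k ^ p ^ n := by rw [h3]
      _ = k ^ p ^ n * x := by group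

end Cfsg.Agent.Lib.Helper15.ZJ
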