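import Mathlib

set_option autoImplicit false

namespace Cfsg.Agent.Lib.Helper15

structure Sharp2 (G α : Type*) [Group G] [MulAction G α] : Prop where
  trans2 : ∀ {a b c d : α}, a ≠ b → c ≠ d → ∃ g : G, g • a = c ∧ g • b = d
  sharp : ∀ {g : G} {a b : α}, a ≠ b → g • a = a → g • b = b → g = 1

namespace Sharp2

variable {G α : Type*} [Group G] [MulAction G α]

theorem eq_of_two (h : Sharp2 G α) {g g' : G} {a b : α} (hab : a ≠ b) (h1 : g • a = g' • a)
    (h2 : g • b = g' • b) : g = g' := by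
  have : g'⁻¹ * g = 1 :=
    h.sharp hab (by rw [mul_smul, h1, inv_smul_smul]) (by rw [mul_smul, h2, inv_smul_smul])
  exact (inv_mul_eq_one.mp this).symm

theorem exists_swap (h : Sharp2 G α) {a b : α} (hab : a ≠ b) :
    ∃ s : G, s • a = b ∧ s • b = a ∧ s * s = 1 := by
  obtain ⟨s, h1, h2⟩ := h.trans2 hab hab.symm
  exact ⟨s, h1, h2, h.sharp hab (by rw [mul_smul, h1, h2]) (by rw [mul_smul, h2, h1])⟩

theorem pretransitive (h : Sharp2 G α) (a b : α) : ∃ g : G, g • a = b := by
  by_cases hab : a = b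
  · exact ⟨1, by rw [one_smul, hab]⟩
  · obtain ⟨g, hg, _⟩ := h.trans2 hab (Ne.symm hab)
    exact ⟨g, hg⟩

theorem card_fpf (h : Sharp2 G α) [Finite G] [Finite α] (c : α) :
    Nat.card {g : G // ∀ a : α, g • a ≠ a} + 1 = Nat.card α := by
  classical
  have := Fintype.ofFinite G
  have := Fintype.ofFinite α
  have hB := MulAction.sum_card_fixedBy_eq_card_orbits_mul_card_group G α
  have horb : Fintype.card (Quotient (MulAction.orbitRel G α)) = 1 := by
    rw [Fintype.card_eq_one_iff]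
    refine ⟨Quotient.mk'' c, fun q => ?_⟩
    induction q using Quotient.inductionOn' with
    | h x =>
      apply Quotient.sound'
      obtain ⟨g, hg⟩ := h.pretransitive c x
      exact ⟨g, hg⟩
  rw [horb, one_mul] at hB
  have hpt : ∀ g : G, Fintype.card (MulAction.fixedBy α g) + (if (∀ a : α, g • a ≠ a) then 1 else 0)
      = 1 + (if g = 1 then Fintype.card α - 1 else 0) := by
    intro g
    by_cases hg : g = 1
    · subst hg
      have h1 : ¬ (∀ a : α, (1 : G) • a ≠ a) := fun hh => hh c (one_smul _ _)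
      have h2 : Fintype.card (MulAction.fixedBy α (1 : G)) = Fintype.card α := by
        apply Fintype.card_of_bijective (f := Subtype.val)
        exact ⟨Subtype.val_injective, fun a => ⟨⟨a, by simp⟩, rfl⟩⟩
      have h3 : 0 < Fintype.card α := Fintype.card_pos_iff.mpr ⟨c⟩
      rw [if_neg h1, if_pos rfl, h2]
      omega
    · rw [if_neg hg]
      by_cases hf : ∀ a : α, g • a ≠ a
      · rw [if_pos hf]
        have : Fintype.card (MulAction.fixedBy α g) = 0 := by
          rw [Fintype.card_eq_zero_iff]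
          exact ⟨fun x => hf x.1 x.2⟩
        rw [this]
      · rw [if_neg hf]
        push Not at hf
        obtain ⟨a, ha⟩ := hf
        have : Fintype.card (MulAction.fixedBy α g) = 1 := by
          rw [Fintype.card_eq_one_iff]
          refine ⟨⟨a, ha⟩, fun y => ?_⟩
          by_contra hne
          apply hg
          exact h.sharp (a := a) (b := y.1) (fun hay => hne (Subtype.ext hay.symm)) ha y.2
        rw [this]
  have hsum := Finset.sum_congr (rfl : (Finset.univ : Finset G) = Finset.univ) (fun g _ => hpt g)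
  rw [Finset.sum_add_distrib, Finset.sum_add_distrib, hB, Finset.sum_ite_eq' Finset.univ (1 : G)] at hsum
  simp only [Finset.sum_const, Finset.card_univ, smul_eq_mul, mul_one, Finset.mem_univ, if_true] at hsum
  rw [Finset.sum_boole] at hsum
  have h3 : 0 < Fintype.card α := Fintype.card_pos_iff.mpr ⟨c⟩
  rw [Nat.card_eq_fintype_card, Nat.card_eq_fintype_card, Fintype.card_subtype]
  simp only [Nat.cast_id] at hsum
  omega

theorem card_ne (α : Type*) [Finite α] (c : α) : Nat.card {x : α // x ≠ c} + 1 = Nat.card α := by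
  classical
  have := Fintype.ofFinite α
  have h3 : 0 < Fintype.card α := Fintype.card_pos_iff.mpr ⟨c⟩
  rw [Nat.card_eq_fintype_card, Nat.card_eq_fintype_card, Fintype.card_subtype_compl,
    Fintype.card_subtype_eq]
  omega

theorem surj_of_inj (h : Sharp2 G α) [Finite G] [Finite α] (c : α)
    (φ : {x : α // x ≠ c} → {g : G // ∀ a : α, g • a ≠ a}) (hφ : Function.Injective φ) :
    Function.Surjective φ := by
  have h1 := h.card_fpf c
  have h2 := card_ne α c
  exact (hφ.bijective_of_nat_card_le (by omega)).2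

theorem smul_smul_of_invol {s : G} (hs : s * s = 1) (y : α) : s • s • y = y := by
  rw [← mul_smul, hs, one_smul]

theorem fpf_mul (h : Sharp2 G α) {t s : G} {c x : α} (ht : t * t = 1) (ht1 : t ≠ 1)
    (htc : t • c = c) (hs : s * s = 1) (hsc : s • c = x) (hx : x ≠ c) :
    ∀ a : α, (s * t) • a ≠ a := by
  intro z hz
  rw [mul_smul] at hz
  have h1 : t • z = s • z := by
    have := congrArg (fun y => s • y) hz
    simpa only [smul_smul_of_invol hs] using this
  by_cases hw : t • z = z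
  · have hzc : z = c := by
      by_contra hne
      exact ht1 (h.sharp hne hw htc)
    rw [hzc, htc, hsc] at h1
    exact hx h1.symm
  · have h2 : t • (t • z) = s • (t • z) := by
      rw [smul_smul_of_invol ht, h1, smul_smul_of_invol hs]
    have hts : t = s := h.eq_of_two (Ne.symm hw) h1 h2
    rw [← hts, htc] at hsc
    exact hx hsc.symm

theorem exists_invol_mul (h : Sharp2 G α) [Finite G] [Finite α] {t : G} {c : α} (ht : t * t = 1)
    (ht1 : t ≠ 1) (htc : t • c = c) (g : G) (hg : ∀ a : α, g • a ≠ a) :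
    ∃ s : G, s * s = 1 ∧ g = s * t := by
  classical
  have hsw : ∀ x : {x : α // x ≠ c}, ∃ s : G, s • c = x.1 ∧ s * s = 1 := by
    intro x
    obtain ⟨s, h1, _, h3⟩ := h.exists_swap (Ne.symm x.2)
    exact ⟨s, h1, h3⟩
  choose sw hsw1 hsw2 using hsw
  let φ : {x : α // x ≠ c} → {g : G // ∀ a : α, g • a ≠ a} :=
    fun x => ⟨sw x * t, h.fpf_mul ht ht1 htc (hsw2 x) (hsw1 x) x.2⟩
  have hφ : Function.Injective φ := by
    intro x y hxy
    have h1 : sw x * t = sw y * t := congrArg Subtype.val hxy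
    have h2 := congrArg (fun k : G => k • c) h1
    simp only [mul_smul, htc, hsw1] at h2
    exact Subtype.ext h2
  obtain ⟨x, hx⟩ := h.surj_of_inj c φ hφ ⟨g, hg⟩
  exact ⟨sw x, hsw2 x, (congrArg Subtype.val hx).symm⟩

theorem inv_of_invol {s : G} (hs : s * s = 1) : s⁻¹ = s := inv_eq_of_mul_eq_one_left hs

theorem conj_invol (h : Sharp2 G α) [Finite G] [Finite α] {t : G} {c : α} (ht : t * t = 1)
    (ht1 : t ≠ 1) (htc : t • c = c) (g : G) (hg : ∀ a : α, g • a ≠ a) :
    t * g * t = g⁻¹ := by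
  obtain ⟨s, hs, rfl⟩ := h.exists_invol_mul ht ht1 htc g hg
  rw [mul_inv_rev, inv_of_invol ht, inv_of_invol hs, mul_assoc, mul_assoc, ht, mul_one]

theorem exists_fpf (h : Sharp2 G α) [Finite G] [Finite α] (hn : 2 ≤ Nat.card α) :
    ∃ g : G, ∀ a : α, g • a ≠ a := by
  have : Nonempty α := by
    by_contra hne
    rw [not_nonempty_iff] at hne
    rw [Nat.card_of_isEmpty] at hn
    omega
  obtain ⟨c⟩ := this
  have h1 := h.card_fpf c
  have : 0 < Nat.card {g : G // ∀ a : α, g • a ≠ a} := by omega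
  obtain ⟨g⟩ := (Nat.card_pos_iff.mp this).1
  exact ⟨g.1, g.2⟩

theorem invol_unique (h : Sharp2 G α) [Finite G] [Finite α] (hn : 2 ≤ Nat.card α) {s₁ s₂ : G}
    {z : α} (h1 : s₁ * s₁ = 1) (h1' : s₁ ≠ 1) (h1z : s₁ • z = z) (h2 : s₂ * s₂ = 1) (h2' : s₂ ≠ 1)
    (h2z : s₂ • z = z) : s₁ = s₂ := by
  obtain ⟨g, hg⟩ := h.exists_fpf hn
  have e1 := h.conj_invol h1 h1' h1z g hg
  have e2 := h.conj_invol h2 h2' h2z g hg
  have hcomm : (s₁ * s₂) * g = g * (s₁ * s₂) := by
    have a1 : s₂ * g = g⁻¹ * s₂ := by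
      rw [← e2, mul_assoc, mul_assoc, h2, mul_one]
    have a2 : s₁ * g⁻¹ = g * s₁ := by
      have : g = s₁ * g⁻¹ * s₁ := by
        rw [← e1]
        simp only [mul_assoc]
        rw [h1, mul_one, ← mul_assoc, h1, one_mul]
      conv_rhs => rw [this]
      rw [mul_assoc, mul_assoc, h1, mul_one]
    rw [mul_assoc, a1, ← mul_assoc, a2, mul_assoc]
  have hu : s₁ * s₂ = 1 := by
    apply h.sharp (a := z) (b := g • z) (Ne.symm (hg z))
    · rw [mul_smul, h2z, h1z]
    · rw [← mul_smul, hcomm, mul_smul, mul_smul, h2z, h1z]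
  rw [← inv_of_invol h2]
  exact eq_inv_of_mul_eq_one_left hu

theorem invol_mul_invol (h : Sharp2 G α) [Finite G] [Finite α] (hn : 2 ≤ Nat.card α) {s₁ s₂ : G}
    (h1 : s₁ * s₁ = 1) (h1' : s₁ ≠ 1) (h2 : s₂ * s₂ = 1) (h2' : s₂ ≠ 1) :
    s₁ * s₂ = 1 ∨ ∀ a : α, (s₁ * s₂) • a ≠ a := by
  by_contra hcon
  push Not at hcon
  obtain ⟨hne, z, hz⟩ := hcon
  rw [mul_smul] at hz
  have e1 : s₂ • z = s₁ • z := by
    have := congrArg (fun y => s₁ • y) hz
    simpa only [smul_smul_of_invol h1] using this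
  have hs : s₁ = s₂ := by
    by_cases hw : s₂ • z = z
    · exact h.invol_unique hn h1 h1' (by rw [← e1, hw]) h2 h2' hw
    · refine (h.eq_of_two (Ne.symm hw) e1 ?_).symm
      rw [smul_smul_of_invol h2, e1, smul_smul_of_invol h1]
  apply hne
  rw [hs, h2]

theorem fpf_inv {g : G} (hg : ∀ a : α, g • a ≠ a) : ∀ a : α, g⁻¹ • a ≠ a := by
  intro a ha
  apply hg a
  rw [inv_smul_eq_iff] at ha
  exact ha.symm

theorem fpf_ne_one [Nonempty α] {g : G} (hg : ∀ a : α, g • a ≠ a) : g ≠ 1 := by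
  rintro rfl
  obtain ⟨a⟩ := ‹Nonempty α›
  exact hg a (one_smul _ _)

/-- in the case where no involution has a fixed point, the fixed-point-free elements are
involutions -/
theorem fpf_invol (h : Sharp2 G α) [Finite G] [Finite α] (c : α)
    (hB : ∀ t : G, t * t = 1 → t ≠ 1 → ∀ a : α, t • a ≠ a) (g : G) (hg : ∀ a : α, g • a ≠ a) :
    g * g = 1 := by
  classical
  have hsw : ∀ x : {x : α // x ≠ c}, ∃ s : G, s • c = x.1 ∧ s * s = 1 := by
    intro x
    obtain ⟨s, h1, _, h3⟩ := h.exists_swap (Ne.symm x.2)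
    exact ⟨s, h1, h3⟩
  choose sw hsw1 hsw2 using hsw
  have hne : ∀ x, sw x ≠ 1 := by
    intro x hx
    have := hsw1 x
    rw [hx, one_smul] at this
    exact x.2 this.symm
  let φ : {x : α // x ≠ c} → {g : G // ∀ a : α, g • a ≠ a} :=
    fun x => ⟨sw x, hB _ (hsw2 x) (hne x)⟩
  have hφ : Function.Injective φ := by
    intro x y hxy
    have h1 : sw x = sw y := congrArg Subtype.val hxy
    have h2 := congrArg (fun k : G => k • c) h1
    simp only [hsw1] at h2
    exact Subtype.ext h2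
  obtain ⟨x, hx⟩ := h.surj_of_inj c φ hφ ⟨g, hg⟩
  have : sw x = g := congrArg Subtype.val hx
  rw [← this]
  exact hsw2 x

theorem mul_mem_aux (h : Sharp2 G α) [Finite G] [Finite α] (hn : 2 ≤ Nat.card α) {g₁ g₂ : G}
    (h1 : ∀ a : α, g₁ • a ≠ a) (h2 : ∀ a : α, g₂ • a ≠ a) :
    g₁ * g₂ = 1 ∨ ∀ a : α, (g₁ * g₂) • a ≠ a := by
  have hne : Nonempty α := by
    by_contra hne
    rw [not_nonempty_iff] at hne
    rw [Nat.card_of_isEmpty] at hn
    omega
  by_cases hA : ∃ (t : G) (c : α), t * t = 1 ∧ t ≠ 1 ∧ t • c = c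
  · obtain ⟨t, c, ht, ht1, htc⟩ := hA
    obtain ⟨s₁, hs1, e1⟩ := h.exists_invol_mul ht ht1 htc g₁ h1
    obtain ⟨s₂, hs2, e2⟩ := h.exists_invol_mul ht ht1 htc g₂⁻¹ (fpf_inv h2)
    have e2' : g₂ = t * s₂ := by
      rw [← inv_inv g₂, e2, mul_inv_rev, inv_of_invol ht, inv_of_invol hs2]
    have hs1' : s₁ ≠ 1 := by
      rintro rfl
      rw [one_mul] at e1
      exact h1 c (by rw [e1, htc])
    have hs2' : s₂ ≠ 1 := by
      rintro rfl
      rw [mul_one] at e2'
      exact h2 c (by rw [e2', htc])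
    have : g₁ * g₂ = s₁ * s₂ := by
      rw [e1, e2', mul_assoc, ← mul_assoc t, ht, one_mul]
    rw [this]
    exact h.invol_mul_invol hn hs1 hs1' hs2 hs2'
  · push Not at hA
    obtain ⟨c⟩ := hne
    have hB : ∀ t : G, t * t = 1 → t ≠ 1 → ∀ a : α, t • a ≠ a := fun t ht ht1 a => hA t a ht ht1
    have : Nonempty α := ⟨c⟩
    exact h.invol_mul_invol hn (h.fpf_invol c hB g₁ h1) (fpf_ne_one h1) (h.fpf_invol c hB g₂ h2)
      (fpf_ne_one h2)

/-- the kernel: identity together with the fixed-point-free elements -/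
def kernel (h : Sharp2 G α) [Finite G] [Finite α] (hn : 2 ≤ Nat.card α) : Subgroup G where
  carrier := {g | g = 1 ∨ ∀ a : α, g • a ≠ a}
  one_mem' := Or.inl rfl
  mul_mem' := by
    rintro a b (rfl | ha) (rfl | hb)
    · left; simp
    · right; simpa using hb
    · right; simpa using ha
    · exact h.mul_mem_aux hn ha hb
  inv_mem' := by
    rintro a (rfl | ha)
    · left; simp
    · right; exact fpf_inv ha

theorem mem_kernel (h : Sharp2 G α) [Finite G] [Finite α] (hn : 2 ≤ Nat.card α) (g : G) :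
    g ∈ h.kernel hn ↔ g = 1 ∨ ∀ a : α, g • a ≠ a := Iff.rfl

theorem kernel_normal (h : Sharp2 G α) [Finite G] [Finite α] (hn : 2 ≤ Nat.card α) :
    (h.kernel hn).Normal := by
  constructor
  rintro n (rfl | hn') g
  · left; simp
  · right
    intro a ha
    apply hn' (g⁻¹ • a)
    rw [mul_smul, mul_smul, smul_eq_iff_eq_inv_smul] at ha
    exact ha

theorem kernel_comm (h : Sharp2 G α) [Finite G] [Finite α] (hn : 2 ≤ Nat.card α) (g₁ g₂ : G)
    (h1 : g₁ ∈ h.kernel hn) (h2 : g₂ ∈ h.kernel hn) : g₁ * g₂ = g₂ * g₁ := by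
  have hne : Nonempty α := by
    by_contra hne
    rw [not_nonempty_iff] at hne
    rw [Nat.card_of_isEmpty] at hn
    omega
  by_cases hA : ∃ (t : G) (c : α), t * t = 1 ∧ t ≠ 1 ∧ t • c = c
  · obtain ⟨t, c, ht, ht1, htc⟩ := hA
    have hinv : ∀ g ∈ h.kernel hn, t * g * t = g⁻¹ := by
      rintro g (rfl | hg)
      · simp [ht]
      · exact h.conj_invol ht ht1 htc g hg
    have e := hinv _ (mul_mem h1 h2)
    have e' : t * (g₁ * g₂) * t = (t * g₁ * t) * (t * g₂ * t) := by
      simp only [mul_assoc]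
      rw [← mul_assoc t t, ht, one_mul]
    rw [e', hinv _ h1, hinv _ h2, ← mul_inv_rev, inv_inj] at e
    exact e.symm
  · push Not at hA
    obtain ⟨c⟩ := hne
    have hB : ∀ t : G, t * t = 1 → t ≠ 1 → ∀ a : α, t • a ≠ a := fun t ht ht1 a => hA t a ht ht1
    have hinv : ∀ g ∈ h.kernel hn, g * g = 1 := by
      rintro g (rfl | hg)
      · simp
      · exact h.fpf_invol c hB g hg
    have e := hinv _ (mul_mem h1 h2)
    have e1 := inv_of_invol (hinv _ h1)
    have e2 := inv_of_invol (hinv _ h2)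
    have e3 := inv_of_invol e
    rw [mul_inv_rev, e1, e2] at e3
    exact e3.symm

theorem kernel_trans (h : Sharp2 G α) [Finite G] [Finite α] (hn : 2 ≤ Nat.card α) (a b : α) :
    ∃ g ∈ h.kernel hn, g • a = b := by
  by_cases hA : ∃ (t : G) (c : α), t * t = 1 ∧ t ≠ 1 ∧ t • c = c
  · obtain ⟨t, c, ht, ht1, htc⟩ := hA
    have key : ∀ x : α, ∃ g ∈ h.kernel hn, g • c = x := by
      intro x
      by_cases hx : x = c
      · exact ⟨1, one_mem _, by rw [one_smul, hx]⟩
      · obtain ⟨s, hs1, _, hs3⟩ := h.exists_swap (Ne.symm hx)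
        exact ⟨s * t, Or.inr (h.fpf_mul ht ht1 htc hs3 hs1 hx), by rw [mul_smul, htc, hs1]⟩
    obtain ⟨g, hg, hga⟩ := key a
    obtain ⟨k, hk, hkb⟩ := key b
    exact ⟨k * g⁻¹, mul_mem hk (inv_mem hg), by rw [mul_smul, ← hga, inv_smul_smul, hkb]⟩
  · push Not at hA
    by_cases hab : a = b
    · exact ⟨1, one_mem _, by rw [one_smul, hab]⟩
    · obtain ⟨s, hs1, _, hs3⟩ := h.exists_swap hab
      have hs : s ≠ 1 := by
        rintro rfl
        rw [one_smul] at hs1
        exact hab hs1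
      exact ⟨s, Or.inr (fun x => hA s x hs3 hs), hs1⟩

theorem kernel_free (h : Sharp2 G α) [Finite G] [Finite α] (hn : 2 ≤ Nat.card α) {g : G}
    (hg : g ∈ h.kernel hn) {a : α} (ha : g • a = a) : g = 1 := by
  rcases hg with rfl | hg
  · rfl
  · exact absurd ha (hg a)

theorem kernel_conj (h : Sharp2 G α) [Finite G] [Finite α] (hn : 2 ≤ Nat.card α) {g g' : G}
    (hg : g ∈ h.kernel hn) (hg1 : g ≠ 1) (hg' : g' ∈ h.kernel hn) (hg1' : g' ≠ 1) :
    ∃ k : G, k * g * k⁻¹ = g' := by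
  have hne : Nonempty α := by
    by_contra hne
    rw [not_nonempty_iff] at hne
    rw [Nat.card_of_isEmpty] at hn
    omega
  obtain ⟨c⟩ := hne
  have h1 : c ≠ g • c := fun e => hg1 (h.kernel_free hn hg e.symm)
  have h2 : c ≠ g' • c := fun e => hg1' (h.kernel_free hn hg' e.symm)
  obtain ⟨k, hk1, hk2⟩ := h.trans2 h1 h2
  refine ⟨k, ?_⟩
  have hmem : g'⁻¹ * (k * g * k⁻¹) ∈ h.kernel hn :=
    mul_mem (inv_mem hg') ((h.kernel_normal hn).conj_mem g hg k)
  have hfix : (g'⁻¹ * (k * g * k⁻¹)) • c = c := by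
    have : k⁻¹ • c = c := by rw [inv_smul_eq_iff, hk1]
    rw [mul_smul, mul_smul, mul_smul, this, hk2, inv_smul_smul]
  exact (inv_mul_eq_one.mp (h.kernel_free hn hmem hfix)).symm

theorem main (h : Sharp2 G α) [Finite G] [Finite α] (hn : 2 ≤ Nat.card α) :
    ∃ p j : ℕ, p.Prime ∧ 1 ≤ j ∧ Nat.card α = p ^ j ∧ (∀ g ∈ h.kernel hn, g ^ p = 1) ∧
      ∀ (_ : Fact p.Prime) (P : Sylow p G), (P : Subgroup G) = h.kernel hn := by
  have hne : Nonempty α := by
    by_contra hne
    rw [not_nonempty_iff] at hne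
    rw [Nat.card_of_isEmpty] at hn
    omega
  obtain ⟨c⟩ := hne
  set N := h.kernel hn with hN
  have hNn : N.Normal := h.kernel_normal hn
  -- bijection between N and α
  have hbij : Function.Bijective (fun g : N => (g : G) • c) := by
    constructor
    · intro a b hab
      have hab' : (a : G) • c = (b : G) • c := hab
      have : ((b : G)⁻¹ * a) = 1 := by
        apply h.kernel_free hn (mul_mem (inv_mem b.2) a.2) (a := c)
        rw [mul_smul, hab', inv_smul_smul]
      exact Subtype.ext (inv_mul_eq_one.mp this).symm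
    · intro x
      obtain ⟨g, hg, hgx⟩ := h.kernel_trans hn c x
      exact ⟨⟨g, hg⟩, hgx⟩
  have hcard : Nat.card N = Nat.card α := Nat.card_congr (Equiv.ofBijective _ hbij)
  set p := (Nat.card N).minFac with hp
  have hpp : p.Prime := Nat.minFac_prime (by omega)
  have hfact : Fact p.Prime := ⟨hpp⟩
  obtain ⟨x0, hx0⟩ := exists_prime_orderOf_dvd_card' p (Nat.minFac_dvd (Nat.card N))
  have hx0ne : (x0 : G) ≠ 1 := by
    intro hx
    have : x0 = 1 := Subtype.ext hx
    rw [this, orderOf_one] at hx0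
    exact hpp.one_lt.ne hx0
  have hx0p : (x0 : G) ^ p = 1 := by
    have : x0 ^ p = 1 := by rw [← hx0]; exact pow_orderOf_eq_one x0
    exact_mod_cast congrArg Subtype.val this
  have hexp : ∀ g ∈ N, g ^ p = 1 := by
    intro g hg
    by_cases hg1 : g = 1
    · rw [hg1, one_pow]
    · obtain ⟨k, hk⟩ := h.kernel_conj hn x0.2 hx0ne hg hg1
      rw [← hk, conj_pow, hx0p, mul_one, mul_inv_cancel]
  have hPG : IsPGroup p N := by
    intro g
    refine ⟨1, ?_⟩
    rw [pow_one]
    exact Subtype.ext (by simpa using hexp g g.2)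
  obtain ⟨j, hj⟩ := IsPGroup.iff_card.mp hPG
  have hj1 : 1 ≤ j := by
    rcases Nat.eq_zero_or_pos j with h0 | h0
    · rw [h0, pow_zero] at hj; omega
    · exact h0
  refine ⟨p, j, hpp, hj1, by rw [← hcard, hj], hexp, ?_⟩
  intro _ P
  have hNP : N ≤ P := by
    obtain ⟨Q, hQ⟩ := hPG.exists_le_sylow
    obtain ⟨g, hg⟩ := MulAction.exists_smul_eq G Q P
    intro x hx
    rw [← hg]
    have : g⁻¹ * x * g⁻¹⁻¹ ∈ N := hNn.conj_mem x hx g⁻¹
    have h2 := hQ this
    rw [Sylow.coe_subgroup_smul, Subgroup.mem_pointwise_smul_iff_inv_smul_mem]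
    simpa [MulAut.smul_def, MulAut.conj_apply] using h2
  apply le_antisymm _ hNP
  intro g hg
  obtain ⟨m, hm, hmc⟩ := h.kernel_trans hn c (g • c)
  have hk : m⁻¹ * g ∈ (P : Subgroup G) := mul_mem (inv_mem (hNP hm)) hg
  have hkc : (m⁻¹ * g) • c = c := by rw [mul_smul, ← hmc, inv_smul_smul]
  have hPz : IsPGroup p (Subgroup.zpowers (m⁻¹ * g)) :=
    P.2.to_le (by rw [Subgroup.zpowers_le]; exact hk)
  have hfixc : c ∈ MulAction.fixedPoints (Subgroup.zpowers (m⁻¹ * g)) α := by
    rintro ⟨y, n, rfl⟩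
    change ((m⁻¹ * g) ^ n) • c = c
    exact MulAction.mem_fixedBy_zpow (show c ∈ MulAction.fixedBy α (m⁻¹ * g) from hkc) n
  obtain ⟨d, hd, hcd⟩ := hPz.exists_fixed_point_of_prime_dvd_card_of_fixed_point α
    (by rw [← hcard, hj]; exact dvd_pow_self p (by omega)) hfixc
  have hkd : (m⁻¹ * g) • d = d := hd ⟨_, Subgroup.mem_zpowers _⟩
  have : m⁻¹ * g = 1 := h.sharp hcd hkc hkd
  rw [← inv_mul_eq_one.mp this]
  exact hm

theorem of_embeddings [h2 : MulAction.IsMultiplyPretransitive G α 2]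
    (hsharp : ∀ x : Fin 2 ↪ α, MulAction.stabilizer G x = ⊥) : Sharp2 G α where
  trans2 := fun hab hcd => (MulAction.is_two_pretransitive_iff.mp h2) hab hcd
  sharp := by
    intro g a b hab ha hb
    have : g ∈ MulAction.stabilizer G (Function.Embedding.embFinTwo hab) := by
      rw [MulAction.mem_stabilizer_iff]
      ext i
      rw [Function.Embedding.smul_apply]
      fin_cases i
      · exact ha
      · exact hb
    rw [hsharp] at this
    exact this

end Sharp2

end Cfsg.Agent.Lib.Helper15
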