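import Mathlib
import Cfsg.Agent.Lib.Helper15.ZJFactBridge

set_option autoImplicit false

namespace Cfsg.Agent.Lib.Helper15.ZJ

open Cfsg.Agent.Lib.Helper40

variable {G : Type*} [Group G]

/-- normalizers grow in `p`-groups, ambient form -/
theorem lt_inf_normalizer_of_isPGroup [Finite G] {p : ℕ} [Fact p.Prime] {R A : Subgroup G}
    (hR : IsPGroup p R) (hA : A < R) : A < R ⊓ Subgroup.normalizer (A : Set G) := by
  have hnil : Group.IsNilpotent R := hR.isNilpotent
  have hnc : NormalizerCondition R := Group.normalizerCondition_of_isNilpotent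
  have h1 : A.subgroupOf R < ⊤ := by
    rw [lt_top_iff_ne_top, Ne, Subgroup.subgroupOf_eq_top]
    exact fun h => absurd (le_antisymm hA.le h) hA.ne
  have h2 := hnc _ h1
  rw [← Subgroup.subgroupOf_normalizer_eq hA.le] at h2
  refine lt_of_le_of_ne (le_inf hA.le Subgroup.le_normalizer) ?_
  intro h3
  apply h2.ne
  ext x
  rw [Subgroup.mem_subgroupOf, Subgroup.mem_subgroupOf]
  constructor
  · intro hx; exact Subgroup.le_normalizer hx
  · intro hx
    rw [h3]
    exact ⟨x.2, hx⟩

theorem ZE_ne_bot [Finite G] {p : ℕ} [Fact p.Prime] {e : ℕ} (he : p ∣ e) {T : Subgroup G}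
    (hT : IsPGroup p T) (hne : T ≠ ⊥) : ZE e T ≠ ⊥ := by
  have : Nontrivial T := (Subgroup.nontrivial_iff_ne_bot T).2 hne
  have hc : Nontrivial (Subgroup.center T) := hT.center_nontrivial
  have hcp : IsPGroup p (Subgroup.center T) := hT.to_subgroup _
  obtain ⟨n, hn⟩ := IsPGroup.iff_card.1 hcp
  have hn0 : n ≠ 0 := by
    rintro rfl
    rw [pow_zero] at hn
    have := Finite.one_lt_card (α := Subgroup.center T)
    omega
  have hdvd : p ∣ Nat.card (Subgroup.center T) := by
    rw [hn]; exact dvd_pow_self p hn0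
  obtain ⟨z, hz⟩ := exists_prime_orderOf_dvd_card' p hdvd
  intro hbot
  have hmem : ((z : T) : G) ∈ ZE e T := by
    rw [mem_ZE_iff]
    refine ⟨(z : T).2, ?_, ?_⟩
    · obtain ⟨k, rfl⟩ := he
      have h1 : z ^ p = 1 := by rw [← hz]; exact pow_orderOf_eq_one z
      have h2 : ((z : T) : G) ^ p = 1 := by
        have := congrArg (fun w : Subgroup.center T => ((w : T) : G)) h1
        simpa using this
      rw [pow_mul, h2, one_pow]
    · intro A hA a ha
      have h1 := Subgroup.mem_center_iff.1 z.2 ⟨a, hA.1 ha⟩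
      exact congrArg Subtype.val h1
  rw [hbot, Subgroup.mem_bot] at hmem
  have h1 : z = 1 := by
    apply Subtype.ext
    apply Subtype.ext
    simpa using hmem
  rw [h1, orderOf_one] at hz
  exact (Fact.out : p.Prime).one_lt.ne hz

/-- a `p`-constrained `p`-stable subgroup `N` with `O_{p'}(N) = 1` normalizes `ZE e R`, `R` a Sylow
`p`-subgroup of `N`. -/
theorem local_normalizes [Finite G] {p : ℕ} [Fact p.Prime] (hp : p ≠ 2) {e : ℕ}
    (he : e = 0 ∨ Odd e) {N R : Subgroup G} (hR : RelSylow p R N)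
    (h0 : Cfsg.pPrimeCore p N = ⊥) (hc : Cfsg.IsPConstrained p N) (hs : Cfsg.IsPStable p N) :
    N ≤ Subgroup.normalizer (ZE e R : Set G) := by
  have h := factorization_of_constrained_stable (e := e) hp he hc hs hR.toSylow (SC_self _)
  rw [h0, bot_sup_eq, RelSylow.coe_toSylow] at h
  have h1 := ZE_map (e := e) (T := R.subgroupOf N) N.subtype N.subtype_injective.injOn
  rw [Subgroup.subgroupOf_map_subtype, inf_of_le_left hR.le] at h1
  intro n hn
  apply Repl.mem_normalizer_of_conj
  intro z hz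
  rw [h1] at hz ⊢
  obtain ⟨z0, hz0, rfl⟩ := hz
  have h2 : (⟨n, hn⟩ : N) ∈ Subgroup.normalizer (ZE e (R.subgroupOf N) : Set N) := by
    rw [h]; trivial
  exact ⟨_, (Subgroup.mem_normalizer_iff.1 h2 z0).1 hz0, rfl⟩

/-- local-to-global: if every `p`-local `N_G(Q)` normalizes `ZE e R` for its Sylow `p`-subgroups `R`,
then `N_G(Q) ≤ N_G(ZE e P)` for all `1 ≠ Q ≤ P`. -/
theorem normalizer_le_of_local [Finite G] {p : ℕ} [Fact p.Prime] {e : ℕ} (he : p ∣ e)
    (hloc : ∀ Q R : Subgroup G, IsPGroup p Q → Q ≠ ⊥ →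
      RelSylow p R (Subgroup.normalizer (Q : Set G)) →
      Subgroup.normalizer (Q : Set G) ≤ Subgroup.normalizer (ZE e R : Set G))
    (P : Sylow p G) :
    ∀ (k : ℕ) (Q : Subgroup G), Q ≤ (P : Subgroup G) → Q ≠ ⊥ →
      Nat.card (P : Subgroup G) -
        Nat.card ((P : Subgroup G) ⊓ Subgroup.normalizer (Q : Set G) : Subgroup G) = k →
      Subgroup.normalizer (Q : Set G) ≤ Subgroup.normalizer (ZE e (P : Subgroup G) : Set G) := by
  intro k
  induction k using Nat.strong_induction_on with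
  | _ k ih =>
  intro Q hQP hQ1 hk
  set M := Subgroup.normalizer (ZE e (P : Subgroup G) : Set G) with hM
  set P1 := (P : Subgroup G) ⊓ Subgroup.normalizer (Q : Set G) with hP1
  have hQp : IsPGroup p Q := P.2.to_le hQP
  have hQP1 : Q ≤ P1 := le_inf hQP Subgroup.le_normalizer
  have hP1P : P1 ≤ (P : Subgroup G) := inf_le_left
  have hP1ne : P1 ≠ ⊥ := fun h => hQ1 (le_bot_iff.1 (h ▸ hQP1))
  -- the induction hypothesis in a convenient form
  have IH : ∀ Q' : Subgroup G, Q' ≤ (P : Subgroup G) → Q' ≠ ⊥ →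
      Nat.card P1 < Nat.card ((P : Subgroup G) ⊓ Subgroup.normalizer (Q' : Set G) : Subgroup G) →
      Subgroup.normalizer (Q' : Set G) ≤ M := by
    intro Q' hQ'P hQ'1 hlt
    have hle : Nat.card ((P : Subgroup G) ⊓ Subgroup.normalizer (Q' : Set G) : Subgroup G) ≤
        Nat.card (P : Subgroup G) := Subgroup.card_le_of_le inf_le_left
    exact ih _ (by omega) Q' hQ'P hQ'1 rfl
  have hcardlt : ∀ {A B : Subgroup G}, A < B → Nat.card A < Nat.card B := by
    intro A B hAB
    by_contra hcon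
    push Not at hcon
    exact hAB.ne (Subgroup.eq_of_le_of_card_ge hAB.le hcon)
  obtain ⟨R, hP1R, hR⟩ := exists_relSylow_ge (p := p) (R := P1)
    (H := Subgroup.normalizer (Q : Set G)) inf_le_right (P.2.to_le hP1P)
  have hZR := hloc Q R hQp hQ1 hR
  by_cases hPP : P1 = (P : Subgroup G)
  · have hRP : R = (P : Subgroup G) := P.is_maximal' hR.isPGroup (hPP ▸ hP1R)
    rw [hRP] at hZR
    exact hZR
  have hP1lt : P1 < (P : Subgroup G) := lt_of_le_of_ne hP1P hPP
  have hP2 := lt_inf_normalizer_of_isPGroup P.2 hP1lt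
  have hNP1 : Subgroup.normalizer (P1 : Set G) ≤ M := IH P1 hP1P hP1ne (hcardlt hP2)
  by_cases hRP1 : P1 = R
  · rw [← hRP1] at hZR
    refine hZR.trans (IH _ ((ZE_le e P1).trans hP1P) (ZE_ne_bot he (P.2.to_le hP1P) hP1ne) ?_)
    refine lt_of_lt_of_le (hcardlt hP2) (Subgroup.card_le_of_le ?_)
    exact inf_le_inf_left _ (normalizer_le_normalizer_ZE e P1)
  · have hlt : P1 < R := lt_of_le_of_ne hP1R hRP1
    have hR1 := lt_inf_normalizer_of_isPGroup hR.isPGroup hlt
    set R1 := R ⊓ Subgroup.normalizer (P1 : Set G) with hR1def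
    have hR1M : R1 ≤ M := inf_le_right.trans hNP1
    have hPM : (P : Subgroup G) ≤ M :=
      Subgroup.le_normalizer.trans (normalizer_le_normalizer_ZE e _)
    obtain ⟨m, hmM, hm⟩ := (relSylow_of_sylow P hPM).exists_conj_le hR1M
      (hR.isPGroup.to_le inf_le_left)
    have hQR1 : Q ≤ R1 := hQP1.trans hR1.le
    have hQ'P : cj m Q ≤ (P : Subgroup G) := (cj_mono hQR1).trans hm
    have hQ'1 : cj m Q ≠ ⊥ := by
      intro h
      apply hQ1
      have := congrArg (cj m⁻¹) h
      rw [cj_inv_cj] at this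
      rw [this]
      exact Subgroup.map_bot _
    have hsub : cj m R1 ≤ (P : Subgroup G) ⊓ Subgroup.normalizer ((cj m Q : Subgroup G) : Set G) := by
      refine le_inf hm ?_
      rw [← cj_normalizer]
      exact cj_mono (inf_le_left.trans hR.le)
    have hcard : Nat.card P1 <
        Nat.card ((P : Subgroup G) ⊓ Subgroup.normalizer ((cj m Q : Subgroup G) : Set G) :
          Subgroup G) := by
      refine lt_of_lt_of_le (hcardlt hR1) ?_
      rw [← card_cj m R1]
      exact Subgroup.card_le_of_le hsub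
    have h1 := IH (cj m Q) hQ'P hQ'1 hcard
    rw [← cj_normalizer] at h1
    have h2 := cj_mono (g := m⁻¹) h1
    rw [cj_inv_cj, cj_eq_of_mem (M.inv_mem hmM)] at h2
    exact h2

end Cfsg.Agent.Lib.Helper15.ZJ
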